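import Cfsg.Agent.H75.Ito
import Cfsg.Agent.H75.Inflate

/-!
# Converse of Ito's theorem for solvable groups (owner: helper75)
-/

set_option autoImplicit false
set_option linter.style.haveILetI false
set_option linter.unusedSectionVars false

namespace Cfsg.Agent.H75

open scoped ComplexConjugate commutatorElement
open Cfsg Cfsg.Agent.CharBase

universe u

/-- irreducible characters separate classes -/
theorem isConj_of_forall_char {G : Type u} [Group G] [Finite G] {g h : G}
    (H : ∀ χ : IrrCharacter G, (χ : G → ℂ) g = (χ : G → ℂ) h) : IsConj g h := by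
  classical
  haveI := Fintype.ofFinite (IrrCharacter G)
  by_contra hc
  have h1 := column_orthogonality_of_not_isConj hc
  have h2 := column_orthogonality_of_isConj (IsConj.refl g)
  have h3 : ∀ χ : IrrCharacter G, (χ : G → ℂ) g * conj ((χ : G → ℂ) h) =
      (χ : G → ℂ) g * conj ((χ : G → ℂ) g) := fun χ => by rw [H χ]
  rw [Finset.sum_congr rfl fun χ _ => h3 χ, h2] at h1
  have : (Nat.card (Subgroup.centralizer ({g} : Set G)) : ℂ) ≠ 0 := by
    exact_mod_cast Nat.card_pos.ne'
  exact this h1

/-- a group all of whose irreducible characters are linear is commutative -/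
theorem comm_of_forall_linear {G : Type u} [Group G] [Finite G]
    (H : ∀ χ : IrrCharacter G, (χ : G → ℂ) 1 = 1) (a b : G) : a * b = b * a := by
  have h1 : IsConj (a * b * a⁻¹ * b⁻¹) 1 := by
    refine isConj_of_forall_char fun χ => ?_
    obtain ⟨c1, -⟩ : ∃ c : ℂ, True := ⟨0, trivial⟩
    have hm : ∀ x y : G, (χ : G → ℂ) (x * y) = (χ : G → ℂ) x * (χ : G → ℂ) y := by
      intro x y
      exact Char.linChar_mul (irr_isCharacter χ) (H χ) x y
    have hi : ∀ x : G, (χ : G → ℂ) x * (χ : G → ℂ) x⁻¹ = 1 := by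
      intro x; rw [← hm, mul_inv_cancel, H χ]
    rw [hm, hm, hm, H χ]
    linear_combination ((χ : G → ℂ) b * (χ : G → ℂ) b⁻¹) * hi a + hi b
  rw [isConj_one_left] at h1
  have h2 : a * b * (b * a)⁻¹ = 1 := by rw [mul_inv_rev, ← mul_assoc]; exact h1
  exact mul_inv_eq_one.mp h2

theorem exists_abelian_normal {G : Type u} [Group G] [Nontrivial G] (hs : Group.IsSolvable G) :
    ∃ N : Subgroup G, N.Normal ∧ N ≠ ⊥ ∧ ∀ x ∈ N, ∀ y ∈ N, x * y = y * x := by
  classical
  have hex : ∃ k, derivedSeries G k = ⊥ := hs.solvable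
  obtain ⟨m, hm⟩ : ∃ m, Nat.find hex = m + 1 := by
    refine Nat.exists_eq_succ_of_ne_zero fun h0 => ?_
    have h1 := Nat.find_spec hex
    rw [h0, derivedSeries_zero] at h1
    exact top_ne_bot h1
  refine ⟨derivedSeries G m, inferInstance, Nat.find_min hex (by omega), fun x hx y hy => ?_⟩
  have h1 := Nat.find_spec hex
  rw [hm, derivedSeries_succ] at h1
  have h2 : ⁅x, y⁆ ∈ (⊥ : Subgroup G) := by
    rw [← h1]; exact Subgroup.commutator_mem_commutator hx hy
  rw [Subgroup.mem_bot, commutatorElement_eq_one_iff_mul_comm] at h2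
  exact h2

/-- degrees below normal subgroups -/
theorem index_mul_degree_dvd {G : Type u} [Group G] [Finite G] (N : Subgroup G) [N.Normal]
    (θ : IrrCharacter N) :
    ∃ χ : IrrCharacter G, (Char.inertia N (θ : N → ℂ)).index * charDegree (θ : N → ℂ) ∣
      charDegree (χ : G → ℂ) := by
  classical
  haveI := Fintype.ofFinite G
  haveI := Fintype.ofFinite N
  obtain ⟨χ, hχ, hne⟩ := Char.exists_over N θ.2
  refine ⟨⟨χ, hχ⟩, ?_⟩
  have h1 := Char.clifford_degree N hχ θ.2 hne
  obtain ⟨e, he⟩ := classInner_natCast (isCharacter_restrict (isCharacter_of_isIrr hχ) N)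
    (irr_isCharacter θ)
  rw [he] at h1
  have h2 : charDegree (χ : G → ℂ) = e * ((Char.inertia N (θ : N → ℂ)).index * deg θ) := by
    apply charDegree_eq
    rw [h1, deg_spec]
    push_cast
    ring
  rw [charDegree_eq_deg]
  exact ⟨e, by rw [mul_comm]; exact h2⟩

theorem exists_normal_sylow_aux (p : ℕ) (hp : p.Prime) (n : ℕ) : ∀ (G : Type u) [Group G] [Finite G],
    Group.IsSolvable G → Nat.card G = n → (∀ χ : IrrCharacter G, ¬ p ∣ charDegree (χ : G → ℂ)) →
    ∃ P : Subgroup G, P.Normal ∧ (∀ x ∈ P, ∀ y ∈ P, x * y = y * x) ∧ IsPGroup p P ∧ ¬ p ∣ P.index := by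
  classical
  haveI : Fact p.Prime := ⟨hp⟩
  induction n using Nat.strong_induction_on with
  | _ n ih =>
  intro G _ _ hs hn hdeg
  rcases subsingleton_or_nontrivial G with hsub | hnt
  · refine ⟨⊤, inferInstance, fun x _ y _ => Subsingleton.elim _ _, ?_, ?_⟩
    · exact IsPGroup.of_card (n := 0) (by rw [pow_zero]; exact Nat.card_unique)
    · rw [Subgroup.index_top]; exact hp.one_lt.ne' ∘ Nat.dvd_one.mp
  obtain ⟨N, hN, hN1, hNab⟩ := exists_abelian_normal hs
  -- degrees of normal subgroups
  have hdegN : ∀ (K : Subgroup G) [K.Normal] (θ : IrrCharacter K), ¬ p ∣ charDegree (θ : K → ℂ) := by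
    intro K _ θ hd
    obtain ⟨χ, hχ⟩ := index_mul_degree_dvd K θ
    exact hdeg χ ((hd.mul_left _).trans hχ)
  have hcardQ : Nat.card (G ⧸ N) < n := by
    have h1 := N.card_eq_card_quotient_mul_card_subgroup
    have h2 : 1 < Nat.card N := by
      rw [Nat.one_lt_iff_ne_zero_and_ne_one]
      exact ⟨Nat.card_pos.ne', fun h => hN1 (Subgroup.card_eq_one.mp h)⟩
    have h3 : 0 < Nat.card (G ⧸ N) := Nat.card_pos
    rw [← hn, h1]
    nlinarith
  obtain ⟨Pb, hPbn, hPbab, hPbp, hPbi⟩ := ih _ hcardQ (G ⧸ N)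
    (Group.isSolvable_of_surjective (QuotientGroup.mk'_surjective N)) rfl (by
      intro χ hχ
      refine hdeg ⟨_, isIrrCharacter_inflate N χ.2⟩ ?_
      exact hχ)
  set K := Pb.comap (QuotientGroup.mk' N) with hK
  haveI hKn : K.Normal := hPbn.comap _
  have hKi : K.index = Pb.index :=
    Subgroup.index_comap_of_surjective _ (QuotientGroup.mk'_surjective N)
  by_cases hKtop : K = ⊤
  · -- `G ⧸ N` is an abelian `p`-group
    have hPbtop : Pb = ⊤ := by
      rw [← Subgroup.index_eq_one, ← hKi, hKtop, Subgroup.index_top]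
    subst hPbtop
    have hQp : IsPGroup p (G ⧸ N) := hPbp.of_equiv Subgroup.topEquiv
    obtain ⟨k, hk⟩ := (IsPGroup.iff_card).mp hQp
    haveI := Fintype.ofFinite G
    haveI := Fintype.ofFinite N
    have hinv : ∀ (θ : IrrCharacter N) (g : G), Char.cj N g (θ : N → ℂ) = (θ : N → ℂ) := by
      intro θ g
      obtain ⟨χ, hχ⟩ := index_mul_degree_dvd N θ
      have h1 : (Char.inertia N (θ : N → ℂ)).index ∣ charDegree (χ : G → ℂ) :=
        (Dvd.intro _ rfl).trans hχ
      have h2 : (Char.inertia N (θ : N → ℂ)).index ∣ p ^ k := by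
        rw [← hk]
        exact Subgroup.index_dvd_of_le (Char.le_inertia N (irr_isClassFunction θ))
      obtain ⟨j, -, hj⟩ := (Nat.dvd_prime_pow hp).mp h2
      have h3 : j = 0 := by
        by_contra hj0
        refine hdeg χ (dvd_trans ?_ h1)
        rw [hj]; exact dvd_pow_self p hj0
      rw [h3, pow_zero, Subgroup.index_eq_one] at hj
      have : g ∈ Char.inertia N (θ : N → ℂ) := by rw [hj]; trivial
      exact this
    have hcent : N ≤ Subgroup.center G := by
      intro x hx
      rw [Subgroup.mem_center_iff]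
      intro g
      have h1 : IsConj (⟨g * x * g⁻¹, hN.conj_mem x hx g⟩ : N) ⟨x, hx⟩ := by
        refine isConj_of_forall_char fun θ => ?_
        have := congrFun (hinv θ g) ⟨x, hx⟩
        rw [Char.cj_apply] at this
        exact this
      obtain ⟨c, hc⟩ := isConj_iff.mp h1
      have h2 : (⟨g * x * g⁻¹, hN.conj_mem x hx g⟩ : N) = ⟨x, hx⟩ := by
        rw [← hc]
        apply Subtype.ext
        change g * x * g⁻¹ = c * (g * x * g⁻¹) * (c : G)⁻¹
        rw [hNab c c.2 _ (hN.conj_mem x hx g), mul_inv_cancel_right]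
      have h3 := congrArg Subtype.val h2
      change g * x * g⁻¹ = x at h3
      exact mul_inv_eq_iff_eq_mul.mp h3
    haveI : Group.IsNilpotent (G ⧸ N) := hQp.isNilpotent
    haveI : Group.IsNilpotent G := Subgroup.isNilpotent_of_ker_le_center (QuotientGroup.mk' N)
      (by rw [QuotientGroup.ker_mk']; exact hcent)
    obtain ⟨P⟩ : Nonempty (Sylow p G) := inferInstance
    haveI hPn : (P : Subgroup G).Normal :=
      Sylow.normal_of_normalizerCondition Group.normalizerCondition_of_isNilpotent P
    refine ⟨P, hPn, ?_, P.isPGroup', P.not_dvd_index⟩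
    have hPlin : ∀ θ : IrrCharacter (P : Subgroup G), (θ : ↥(P : Subgroup G) → ℂ) 1 = 1 := by
      intro θ
      have h1 := hdegN (P : Subgroup G) θ
      have h2 := deg_dvd θ
      obtain ⟨k, hk⟩ := (IsPGroup.iff_card).mp P.isPGroup'
      rw [hk] at h2
      obtain ⟨j, -, hj⟩ := (Nat.dvd_prime_pow hp).mp h2
      rw [charDegree_eq_deg, hj] at h1
      have h3 : j = 0 := by
        by_contra hj0
        exact h1 (dvd_pow_self p hj0)
      rw [deg_spec, hj, h3]; simp
    intro x hx y hy
    have := comm_of_forall_linear hPlin ⟨x, hx⟩ ⟨y, hy⟩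
    exact congrArg Subtype.val this
  · have hcardK : Nat.card K < n := by
      rw [← hn]
      have h1 := K.card_mul_index
      have h2 : K.index ≠ 1 := fun h => hKtop (Subgroup.index_eq_one.mp h)
      have h3 : K.index ≠ 0 := Subgroup.index_ne_zero_of_finite
      have h4 : 0 < Nat.card K := Nat.card_pos
      rw [← h1]
      have h5 : 2 ≤ K.index := by omega
      nlinarith
    obtain ⟨P, hPn, hPab, hPp, hPi⟩ := ih _ hcardK K inferInstance rfl (hdegN K)
    haveI : P.Characteristic := by
      haveI : (hPp.toSylow hPi : Subgroup K).Normal := hPn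
      exact Sylow.characteristic_of_normal (hPp.toSylow hPi) hPn
    refine ⟨P.map K.subtype, ConjAct.normal_of_characteristic_of_normal, ?_, hPp.map _, ?_⟩
    · rintro _ ⟨x, hx, rfl⟩ _ ⟨y, hy, rfl⟩
      exact congrArg (K.subtype) (hPab x hx y hy)
    · rw [Subgroup.index_map_subtype, hKi]
      intro h
      rcases hp.dvd_mul.mp h with h | h
      · exact hPi h
      · exact hPbi h

end Cfsg.Agent.H75
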