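import Cfsg.Agent.H75.Tools
import Cfsg.Agent.Char.Galois
import Cfsg.Agent.Char.ModP
import Cfsg.Agent.Char.Clifford
import Cfsg.Agent.Char.BrauerInduction
import Cfsg.Agent.Coh.Basic
import Cfsg.Agent.Glaub.PGroup

/-!
# Schur's bound on the Sylow order for `p`-rational characters (owner: helper75)
-/

set_option autoImplicit false
set_option linter.style.haveILetI false
set_option linter.unusedSectionVars false

namespace Cfsg.Agent.H75

open scoped ComplexConjugate
open Cfsg Cfsg.Agent.CharBase Cfsg.Agent.Char Cfsg.Agent.Blk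

universe u

theorem geom_zero {ω : ℂ} {n : ℕ} (h : ω ^ n = 1) (h1 : ω ≠ 1) :
    ∑ j ∈ Finset.range n, ω ^ j = 0 := by
  have h2 := mul_geom_sum ω n
  rw [h, sub_self] at h2
  exact (mul_eq_zero.mp h2).resolve_left (sub_ne_zero.mpr h1)

/-- Ramanujan sums for prime powers -/
theorem ramanujan {p : ℕ} (hp : p.Prime) (k : ℕ) {ω : ℂ} (hω : ω ^ p ^ (k + 1) = 1) :
    ∃ e : ℤ, -1 ≤ e ∧ ∑ j ∈ (Finset.range (p ^ (k + 1))).filter (fun j => ¬ p ∣ j), ω ^ j =
      (p : ℂ) ^ k * e := by
  have h1 := Finset.sum_filter_add_sum_filter_not (Finset.range (p ^ (k + 1))) (fun j => p ∣ j)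
    (fun j => ω ^ j)
  have h2 : ∑ j ∈ (Finset.range (p ^ (k + 1))).filter (fun j => p ∣ j), ω ^ j =
      ∑ i ∈ Finset.range (p ^ k), (ω ^ p) ^ i := by
    symm
    refine Finset.sum_bij (fun i _ => p * i) ?_ ?_ ?_ ?_
    · intro i hi
      rw [Finset.mem_filter, Finset.mem_range]
      refine ⟨?_, dvd_mul_right _ _⟩
      rw [pow_succ']
      exact Nat.mul_lt_mul_of_pos_left (Finset.mem_range.mp hi) hp.pos
    · intro a _ b _ h
      exact Nat.eq_of_mul_eq_mul_left hp.pos h
    · intro j hj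
      rw [Finset.mem_filter, Finset.mem_range] at hj
      obtain ⟨i, rfl⟩ := hj.2
      refine ⟨i, ?_, rfl⟩
      rw [Finset.mem_range]
      have := hj.1
      rw [pow_succ'] at this
      exact Nat.lt_of_mul_lt_mul_left this
    · intro i _
      rw [pow_mul]
  rw [h2] at h1
  have hωp : (ω ^ p) ^ p ^ k = 1 := by rw [← pow_mul, ← pow_succ', hω]
  by_cases e1 : ω = 1
  · refine ⟨(p : ℤ) - 1, ?_, ?_⟩
    · have := hp.pos
      omega
    · subst e1
      simp only [one_pow, Finset.sum_const, Finset.card_range, nsmul_eq_mul, mul_one] at h1 ⊢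
      push_cast at h1 ⊢
      linear_combination h1
  · by_cases e2 : ω ^ p = 1
    · refine ⟨-1, le_rfl, ?_⟩
      rw [geom_zero hω e1, e2] at h1
      simp only [one_pow, Finset.sum_const, Finset.card_range, nsmul_eq_mul, mul_one] at h1
      push_cast at h1 ⊢
      linear_combination h1
    · refine ⟨0, by norm_num, ?_⟩
      rw [geom_zero hω e1, geom_zero hωp e2] at h1
      push_cast
      linear_combination h1

theorem card_filter_not_dvd {p : ℕ} (hp : p.Prime) (k : ℕ) :
    (((Finset.range (p ^ (k + 1))).filter (fun j => ¬ p ∣ j)).card : ℂ) = (p : ℂ) ^ k * (p - 1) := by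
  have h1 := Finset.sum_filter_add_sum_filter_not (Finset.range (p ^ (k + 1))) (fun j => p ∣ j)
    (fun _ => (1 : ℂ))
  have h2 : ∑ j ∈ (Finset.range (p ^ (k + 1))).filter (fun j => p ∣ j), (1 : ℂ) =
      ∑ i ∈ Finset.range (p ^ k), (1 : ℂ) := by
    symm
    refine Finset.sum_bij (fun i _ => p * i) ?_ ?_ ?_ ?_
    · intro i hi
      rw [Finset.mem_filter, Finset.mem_range]
      refine ⟨?_, dvd_mul_right _ _⟩
      rw [pow_succ']
      exact Nat.mul_lt_mul_of_pos_left (Finset.mem_range.mp hi) hp.pos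
    · intro a _ b _ h
      exact Nat.eq_of_mul_eq_mul_left hp.pos h
    · intro j hj
      rw [Finset.mem_filter, Finset.mem_range] at hj
      obtain ⟨i, rfl⟩ := hj.2
      refine ⟨i, ?_, rfl⟩
      rw [Finset.mem_range]
      have := hj.1
      rw [pow_succ'] at this
      exact Nat.lt_of_mul_lt_mul_left this
    · intro i _
      rfl
  rw [h2] at h1
  simp only [Finset.sum_const, Finset.card_range, nsmul_eq_mul, mul_one] at h1
  push_cast at h1
  linear_combination h1

/-- lower bound for an integral value with all Galois conjugates equal -/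
theorem rational_value_bound {G : Type u} [Group G] [Finite G] {χ : G → ℂ} (hχ : IsCharacter G χ)
    {p k n : ℕ} (hp : p.Prime) {x : G} (hx : orderOf x = p ^ (k + 1)) (hn : χ 1 = n) {z : ℤ}
    (hz : ∀ j : ℕ, ¬ p ∣ j → χ (x ^ j) = z) : -(n : ℤ) ≤ (p - 1) * z := by
  obtain ⟨s, hs1, hs2, hs3⟩ := exists_roots_pow hχ x
  have hcard : Multiset.card s = n := by
    rw [hn] at hs1; exact_mod_cast hs1.symm
  have h1 : ∀ t : Multiset ℂ, (∀ ω ∈ t, ω ^ orderOf x = 1) → ∃ e : ℤ, -(Multiset.card t : ℤ) ≤ e ∧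
      ∑ j ∈ (Finset.range (p ^ (k + 1))).filter (fun j => ¬ p ∣ j), (t.map (· ^ j)).sum =
        (p : ℂ) ^ k * e := by
    intro t
    induction t using Multiset.induction_on with
    | empty => intro _; exact ⟨0, by simp, by simp⟩
    | cons ω t ih =>
      intro ht
      obtain ⟨e, he1, he2⟩ := ih fun w hw => ht w (Multiset.mem_cons_of_mem hw)
      obtain ⟨e', he1', he2'⟩ := ramanujan hp k (ω := ω)
        (by rw [← hx]; exact ht ω (Multiset.mem_cons_self _ _))
      refine ⟨e' + e, ?_, ?_⟩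
      · rw [Multiset.card_cons]; push_cast; linarith
      · have : ∀ j : ℕ, ((ω ::ₘ t).map (· ^ j)).sum = ω ^ j + (t.map (· ^ j)).sum := by
          intro j; rw [Multiset.map_cons, Multiset.sum_cons]
        simp only [this]
        rw [Finset.sum_add_distrib, he2, he2']
        push_cast; ring
  obtain ⟨e, he1, he2⟩ := h1 s hs2
  have h3 : ∑ j ∈ (Finset.range (p ^ (k + 1))).filter (fun j => ¬ p ∣ j), (s.map (· ^ j)).sum =
      (p : ℂ) ^ k * (p - 1) * z := by
    rw [← card_filter_not_dvd hp k, ← nsmul_eq_mul, ← Finset.sum_const]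
    refine Finset.sum_congr rfl fun j hj => ?_
    rw [← hs3 j]
    exact hz j (Finset.mem_filter.mp hj).2
  rw [h3, mul_assoc] at he2
  have hp0 : (p : ℂ) ^ k ≠ 0 := pow_ne_zero _ (by exact_mod_cast hp.ne_zero)
  have h4 := mul_left_cancel₀ hp0 he2
  have h5 : ((p : ℤ) - 1) * z = e := by exact_mod_cast h4
  rw [h5, ← hcard]
  exact he1

theorem fix_adjoin {σ : ℂ ≃+* ℂ} {ζ : ℂ} (h : σ ζ = ζ) (z : ℂ)
    (hz : z ∈ IntermediateField.adjoin ℚ ({ζ} : Set ℂ)) : σ z = z := by
  induction hz using IntermediateField.adjoin_induction with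
  | mem y hy =>
    rw [Set.mem_singleton_iff] at hy
    subst hy
    exact h
  | algebraMap q => exact map_ratCast σ q
  | add a b _ _ ha hb => rw [map_add, ha, hb]
  | inv a _ ha => rw [map_inv₀, ha]
  | mul a b _ _ ha hb => rw [map_mul, ha, hb]

/-- values at `p`-elements of a `p`-rational character -/
theorem prational_value {G : Type u} [Group G] [Finite G] {χ : G → ℂ} (hχ : IsCharacter G χ)
    {p r : ℕ} (hp : p.Prime) (hr0 : 0 < r) (hr : ¬ p ∣ r)
    (hrat : ∀ g : G, χ g ∈ IntermediateField.adjoin ℚ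
      ({Complex.exp (2 * Real.pi * Complex.I / r)} : Set ℂ)) {k : ℕ} {x : G}
    (hx : orderOf x = p ^ k) : ∃ z : ℤ, ∀ j : ℕ, ¬ p ∣ j → χ (x ^ j) = z := by
  have hpr : (p ^ k).Coprime r := Nat.Coprime.pow_left _ ((Nat.Prime.coprime_iff_not_dvd hp).mpr hr)
  have key : ∀ j : ℕ, ¬ p ∣ j → χ (x ^ j) = χ x := by
    intro j hj
    obtain ⟨K, hK1, hK2⟩ := Nat.chineseRemainder hpr j 1
    have hcop : K.Coprime (p ^ k * r) := by
      apply Nat.Coprime.mul_right
      · have : j.Coprime (p ^ k) :=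
          Nat.Coprime.pow_right _ ((Nat.Prime.coprime_iff_not_dvd hp).mpr hj).symm
        have h2 := hK1.gcd_eq
        unfold Nat.Coprime at this ⊢
        rw [h2]; exact this
      · have h2 := hK2.gcd_eq
        unfold Nat.Coprime
        rw [h2]; simp
    have hne : p ^ k * r ≠ 0 := Nat.mul_ne_zero (pow_ne_zero _ hp.ne_zero) hr0.ne'
    obtain ⟨σ, hσ⟩ := exists_aut_pow hne hcop
    have hfix : ∀ z ∈ IntermediateField.adjoin ℚ
        ({Complex.exp (2 * Real.pi * Complex.I / r)} : Set ℂ), σ z = z := by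
      have h3 : Complex.exp (2 * Real.pi * Complex.I / r) ^ r = 1 :=
        (Complex.isPrimitiveRoot_exp r hr0.ne').pow_eq_one
      apply fix_adjoin
      generalize Complex.exp (2 * Real.pi * Complex.I / r) = ζ at h3
      rw [hσ ζ (by rw [pow_mul', h3, one_pow])]
      rw [pow_eq_pow_mod K h3, show K % r = 1 % r from hK2, ← pow_eq_pow_mod 1 h3, pow_one]
    have h1 := map_char_eq (k := K) hχ x (n := p ^ k * r) (by rw [hx]; exact dvd_mul_right _ _) σ hσ
    rw [hfix _ (hrat x)] at h1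
    rw [h1]
    congr 1
    rw [pow_eq_pow_iff_modEq, hx]
    exact hK1.symm
  have hint : ∃ z : ℤ, χ x = z := by
    refine exists_int_of_fixed (n := Nat.card G) Nat.card_pos.ne' (χ x)
      (char_mem_closure hχ x dvd_rfl) fun K σ hK hσ => ?_
    have h1 := map_char_eq (k := K) hχ x (n := Nat.card G) (orderOf_dvd_natCard x) σ hσ
    rw [h1]
    rcases Nat.eq_zero_or_pos k with hk | hk
    · subst hk
      rw [pow_zero, orderOf_eq_one_iff] at hx
      rw [hx, one_pow]
    · apply key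
      intro hpK
      have h2 : p ∣ Nat.card G := by
        refine dvd_trans ?_ (orderOf_dvd_natCard x)
        rw [hx]; exact dvd_pow_self p hk.ne'
      exact hp.one_lt.ne' (Nat.dvd_one.mp (hK ▸ Nat.dvd_gcd hpK h2))
  obtain ⟨z, hz⟩ := hint
  exact ⟨z, fun j hj => (key j hj).trans hz⟩

/-- value at a nontrivial `p`-element: `χ(x) = n - p u` with `1 ≤ u` and `(p-1) u ≤ n`. -/
theorem prational_form {G : Type u} [Group G] [Finite G] {χ : G → ℂ} (hχ : IsCharacter G χ)
    {p r : ℕ} (hp : p.Prime) (hr0 : 0 < r) (hr : ¬ p ∣ r)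
    (hrat : ∀ g : G, χ g ∈ IntermediateField.adjoin ℚ
      ({Complex.exp (2 * Real.pi * Complex.I / r)} : Set ℂ)) {k n : ℕ} (hn : χ 1 = n) {x : G}
    (hx : orderOf x = p ^ (k + 1)) (hne : χ x ≠ χ 1) :
    ∃ u : ℕ, 1 ≤ u ∧ (p - 1) * u ≤ n ∧ χ x = n - p * u := by
  obtain ⟨z, hz⟩ := prational_value hχ hp hr0 hr hrat hx
  have hzx : χ x = z := by
    have := hz 1 (hp.one_lt.ne' ∘ Nat.dvd_one.mp)
    rwa [pow_one] at this
  have hlow := rational_value_bound hχ hp hx hn hz
  have hle : z ≤ n := by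
    have h1 := norm_le_of_isCharacter hχ x
    rw [hn, hzx] at h1
    simp only [Complex.norm_intCast] at h1
    have h2 : |(z : ℝ)| ≤ n := by simpa using h1
    have h3 := (abs_le.mp h2).2
    exact_mod_cast h3
  have hlt : z < n := by
    refine lt_of_le_of_ne hle fun h => hne ?_
    rw [hn, hzx, h]; simp
  have hdvd : (p : ℤ) ∣ n - z := by
    obtain ⟨M, hM⟩ := Glaub.exists_isPModular hp
    haveI := isPrime_of_isPModular hM
    have h1 : IsPPart p x x := ⟨1, mul_one x, Commute.one_right x, ⟨k + 1, hx⟩, by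
      rw [orderOf_one]; exact hp.one_lt.ne' ∘ Nat.dvd_one.mp⟩
    have h2 := MP.rd_char_ppart hM hχ h1
    rw [inv_mul_cancel, hzx, hn] at h2
    have h3 : rd M (((n : ℤ) - z : ℤ) : ℂ) = 0 := by
      rw [rd_intCast]
      rw [rd_intCast, rd_natCast] at h2
      push_cast
      rw [h2, sub_self]
    rw [rd_eq_zero_iff (mlr_intCast _), mli_intCast_iff hM] at h3
    exact h3
  obtain ⟨u, hu⟩ := hdvd
  have hp0 : (0 : ℤ) < p := by exact_mod_cast hp.pos
  have hu1 : 0 < u := by
    have : 0 < (p : ℤ) * u := by rw [← hu]; linarith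
    exact pos_of_mul_pos_right this hp0.le
  obtain ⟨v, rfl⟩ := Int.eq_ofNat_of_zero_le hu1.le
  refine ⟨v, by exact_mod_cast hu1, ?_, ?_⟩
  · have h4 : ((p : ℤ) - 1) * v ≤ n := by
      have h5 : (p : ℤ) * (((p : ℤ) - 1) * v) ≤ p * n := by
        have : (p : ℤ) * (((p : ℤ) - 1) * v) = (p - 1) * (n - z) := by rw [hu]; ring
        rw [this]
        nlinarith
      exact le_of_mul_le_mul_left h5 hp0
    have h6 : (((p - 1 : ℕ) * v : ℕ) : ℤ) ≤ n := by
      push_cast [Nat.cast_sub hp.one_le]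
      exact h4
    exact_mod_cast h6
  · rw [hzx]
    have : (z : ℤ) = n - p * v := by linarith
    rw [this]; push_cast; ring

theorem isGen_prod {G : Type u} [Group G] [Fintype G] {ι : Type*} (s : Finset ι) (f : ι → G → ℂ)
    (h : ∀ i ∈ s, IsGeneralizedCharacter G (f i)) : IsGeneralizedCharacter G (∏ i ∈ s, f i) := by
  classical
  induction s using Finset.induction_on with
  | empty =>
    rw [Finset.prod_empty]
    exact Coh.isGen_of_isIrr CharBase.isIrrCharacter_one
  | insert a s ha ih =>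
    rw [Finset.prod_insert ha]
    exact BI.isGeneralizedCharacter_mul (h a (Finset.mem_insert_self _ _))
      (ih fun i hi => h i (Finset.mem_insert_of_mem hi))

/-- a group whose faithful character takes only the values `n - p u`, `1 ≤ u ≤ m` off `1`. -/
theorem card_dvd_of_values {P : Type u} [Group P] [Finite P] {χ : P → ℂ} (hχ : IsCharacter P χ)
    {n p m : ℕ} (hn : χ 1 = n) (hv : ∀ x : P, x ≠ 1 → ∃ u : ℕ, 1 ≤ u ∧ u ≤ m ∧ χ x = n - p * u) :
    Nat.card P ∣ p ^ m * m.factorial := by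
  classical
  haveI := Fintype.ofFinite P
  let one : P → ℂ := fun _ => 1
  have hone : IsGeneralizedCharacter P one := Coh.isGen_of_isIrr CharBase.isIrrCharacter_one
  let F : ℕ → P → ℂ := fun u => χ - ((n : ℤ) - p * u : ℤ) • one
  have hF : ∀ u, IsGeneralizedCharacter P (F u) := fun u =>
    Coh.isGen_sub (Coh.isGen_of_isCharacter hχ) (Coh.isGen_zsmul hone _)
  have hFa : ∀ u x, F u x = χ x - (n - p * u) := by
    intro u x
    have : F u x = χ x - ((n : ℤ) - p * u : ℤ) • (1 : ℂ) := rfl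
    rw [this, zsmul_eq_mul]
    push_cast; ring
  have hPi := isGen_prod (Finset.Icc 1 m) F fun u _ => hF u
  obtain ⟨c, hc⟩ := classInner_intCast hPi hone
  have h1 : classInner (∏ u ∈ Finset.Icc 1 m, F u) one = (Nat.card P : ℂ)⁻¹ * (p ^ m * m.factorial : ℕ) := by
    unfold classInner
    congr 1
    rw [Finset.sum_eq_single (1 : P)]
    · rw [Finset.prod_apply]
      have : ∀ u ∈ Finset.Icc 1 m, F u 1 = (p : ℂ) * u := by
        intro u _; rw [hFa, hn]; ring
      rw [Finset.prod_congr rfl this, Finset.prod_mul_distrib, Finset.prod_const]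
      have h3 : ∏ u ∈ Finset.Icc 1 m, (u : ℂ) = (m.factorial : ℂ) := by
        rw [← Nat.cast_prod, ← Finset.prod_Ico_id_eq_factorial]
        rfl
      rw [h3]
      simp [one]
    · intro x _ hx
      obtain ⟨u, hu1, hu2, hu3⟩ := hv x hx
      have : (∏ u ∈ Finset.Icc 1 m, F u) x = 0 := by
        rw [Finset.prod_apply]
        refine Finset.prod_eq_zero (Finset.mem_Icc.mpr ⟨hu1, hu2⟩) ?_
        rw [hFa, hu3]; ring
      rw [this, zero_mul]
    · intro h; exact absurd (Finset.mem_univ _) h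
  rw [h1] at hc
  have h0 : (Nat.card P : ℂ) ≠ 0 := by exact_mod_cast Nat.card_pos.ne'
  have h2 : ((p ^ m * m.factorial : ℕ) : ℂ) = (Nat.card P : ℂ) * c := by
    rw [← hc, ← mul_assoc, mul_inv_cancel₀ h0, one_mul]
  have h3 : ((p ^ m * m.factorial : ℕ) : ℤ) = (Nat.card P : ℤ) * c := by exact_mod_cast h2
  exact Int.natCast_dvd_natCast.mp ⟨c, h3⟩

end Cfsg.Agent.H75
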