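import Cfsg.Agent.H52.LinMul
import Cfsg.Agent.H65.MetaCrit
import Cfsg.Agent.H75.Tools
import Cfsg.Agent.S0158
import Cfsg.Agent.S0159

set_option autoImplicit false
set_option linter.style.haveILetI false

open Cfsg Cfsg.Agent.CharBase Cfsg.Agent.H75
open scoped commutatorElement ComplexConjugate

namespace Cfsg.Agent.H75

universe u

theorem isCyclic_of_card_sq_le {G : Type u} [Group G] [Finite G] (hG : IsPGroup 2 G)
    (h : Nat.card (powMonoidHom 2 : Abelianization G →* Abelianization G).ker ≤ 2) : IsCyclic G := by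
  classical
  apply Cfsg.Agent.H65.isCyclic_of_index_le hG
  set S := Subgroup.closure {x : G | ∃ y : G, y ^ 2 = x} with hS
  have hsq : ∀ y : G, y ^ 2 ∈ S := fun y => Subgroup.subset_closure ⟨y, rfl⟩
  have hcomm : (Abelianization.of (G := G)).ker ≤ S := by
    rw [Abelianization.ker_of, commutator_def, Subgroup.commutator_le]
    intro a _ b _
    have e : ⁅a, b⁆ = a ^ 2 * (a⁻¹ * b) ^ 2 * (b⁻¹) ^ 2 := by
      rw [commutatorElement_def]; simp only [pow_two]; group
    rw [e]
    exact mul_mem (mul_mem (hsq _) (hsq _)) (hsq _)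
  have hsurj : Function.Surjective (Abelianization.of (G := G)) := QuotientGroup.mk'_surjective _
  have h1 : S.index = (S.map (Abelianization.of (G := G))).index :=
    (Subgroup.index_map_eq S hsurj hcomm).symm
  have h2 : S.map (Abelianization.of (G := G)) =
      (powMonoidHom 2 : Abelianization G →* Abelianization G).range := by
    rw [hS, H65.map_closure_pow _ hsurj 2]
    have : {x : Abelianization G | ∃ y : Abelianization G, y ^ 2 = x} =
        ((powMonoidHom 2 : Abelianization G →* Abelianization G).range : Set (Abelianization G)) := by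
      ext x; simp
    rw [this, Subgroup.closure_eq]
  rw [h1, h2]
  refine le_trans (le_of_eq ?_) h
  have h3 := Subgroup.card_mul_index (powMonoidHom 2 : Abelianization G →* Abelianization G).range
  have h4 := Subgroup.card_mul_index (powMonoidHom 2 : Abelianization G →* Abelianization G).ker
  rw [Subgroup.index_ker] at h4
  have h5 : 0 < Nat.card (powMonoidHom 2 : Abelianization G →* Abelianization G).range := Nat.card_pos
  apply Nat.eq_of_mul_eq_mul_left h5
  rw [h3, ← h4, mul_comm]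

/-- the linear characters form a group isomorphic to the abelianization -/
theorem exists_dual_equiv (G : Type u) [Group G] [Finite G] :
    Nonempty ((G →* ℂˣ) ≃* Abelianization G) := by
  have : HasEnoughRootsOfUnity ℂ (Monoid.exponent (Abelianization G)) := by
    have : NeZero (Monoid.exponent (Abelianization G)) := ⟨Monoid.exponent_ne_zero_of_finite⟩
    infer_instance
  let e : (Abelianization G →* ℂˣ) ≃ (G →* ℂˣ) := Abelianization.lift.symm
  let e' : (G →* ℂˣ) ≃* (Abelianization G →* ℂˣ) :=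
    { toFun := fun f => Abelianization.lift f
      invFun := fun f => f.comp Abelianization.of
      left_inv := fun f => by ext; simp
      right_inv := fun f => by ext x; simp
      map_mul' := fun f g => by
        ext x
        simp }
  exact ⟨e'.trans (CommGroup.monoidHom_mulEquiv_of_hasEnoughRootsOfUnity (Abelianization G) ℂ).some⟩

/-- Frobenius–Schur indicators as integers -/
theorem exists_indicator {G : Type u} [Group G] [Fintype G] (χ : IrrCharacter G) :
    ∃ e : ℤ, (Nat.card G : ℂ)⁻¹ * ∑ s : G, (χ : G → ℂ) (s * s) = e ∧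
      (e = 0 ∨ e = 1 ∨ e = -1) ∧ (e = 0 ↔ ¬ ∀ g : G, ((χ : G → ℂ) g).im = 0) := by
  obtain ⟨n, ρ, hρ, hχρ⟩ := χ.2
  haveI := hρ
  have h1 := S0158.result ρ
  rw [hχρ] at h1
  obtain ⟨h2, h3⟩ := h1
  rcases h2 with h2 | h2 | h2
  · refine ⟨0, by rw [h2]; simp, Or.inl rfl, ?_⟩
    simp only [true_iff]
    push Not
    exact h3.mp h2
  · refine ⟨1, by rw [h2]; simp, Or.inr (Or.inl rfl), ?_⟩
    simp only [one_ne_zero, false_iff, not_not]
    intro g
    by_contra hg
    have := h3.mpr ⟨g, hg⟩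
    rw [this] at h2
    exact one_ne_zero h2.symm
  · refine ⟨-1, by rw [h2]; simp, Or.inr (Or.inr rfl), ?_⟩
    simp only [neg_eq_zero, one_ne_zero, false_iff, not_not]
    intro g
    by_contra hg
    have := h3.mpr ⟨g, hg⟩
    rw [this] at h2
    have : (0 : ℂ) = -1 := h2
    norm_num at this

/-- the key counting statement: the number of real irreducible characters of degree two is odd -/
theorem odd_real_degree_two {G : Type u} [Group G] [Finite G] (hG : IsPGroup 2 G)
    (ht : Nat.card {s : G // s * s = 1} % 4 = 2)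
    (hL : 4 ∣ Nat.card {f : G →* ℂˣ // f ^ 2 = 1}) :
    ¬ 2 ∣ Nat.card {χ : IrrCharacter G // (χ : G → ℂ) 1 = 2 ∧ ∀ g, ((χ : G → ℂ) g).im = 0} := by
  classical
  haveI := Fintype.ofFinite G
  haveI := Fintype.ofFinite (IrrCharacter G)
  choose e he1 he2 he3 using fun χ : IrrCharacter G => exists_indicator χ
  have hsum : (Nat.card {s : G // s * s = 1} : ℤ) = ∑ χ : IrrCharacter G, e χ * deg χ := by
    have h1 := S0159.result (G := G)
    rw [finsum_eq_sum_of_fintype] at h1
    have h2 : ((Nat.card {s : G // s * s = 1} : ℤ) : ℂ) = ((∑ χ : IrrCharacter G, e χ * deg χ : ℤ) : ℂ) := by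
      push_cast
      rw [h1]
      refine Finset.sum_congr rfl fun χ _ => ?_
      rw [he1, deg_spec]
    exact_mod_cast h2
  -- the three ranges of degrees
  have hdegpow : ∀ χ : IrrCharacter G, deg χ = 1 ∨ deg χ = 2 ∨ 4 ∣ deg χ := by
    intro χ
    obtain ⟨n, hn⟩ := IsPGroup.iff_card.mp hG
    have h1 := deg_dvd χ
    rw [hn, Nat.dvd_prime_pow Nat.prime_two] at h1
    obtain ⟨k, -, hk⟩ := h1
    rw [hk]
    rcases k with _ | _ | k
    · left; rfl
    · right; left; rfl
    · right; right; exact ⟨2 ^ k, by ring⟩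
  have hmod : ∀ χ : IrrCharacter G, (e χ * deg χ : ℤ) ≡
      (if deg χ = 1 ∧ ∀ g, ((χ : G → ℂ) g).im = 0 then 1 else 0) +
      2 * (if deg χ = 2 ∧ ∀ g, ((χ : G → ℂ) g).im = 0 then 1 else 0) [ZMOD 4] := by
    intro χ
    rcases hdegpow χ with h | h | h
    · rw [h]
      by_cases hr : ∀ g, ((χ : G → ℂ) g).im = 0
      · -- real linear: indicator one
        have h1 : e χ = 1 := by
          have h2 := he1 χ
          have h3 : ∀ s : G, (χ : G → ℂ) (s * s) = 1 := by
            intro s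
            have hχ1 : (χ : G → ℂ) 1 = 1 := by rw [deg_spec, h]; simp
            rw [Char.linChar_mul (irr_isCharacter χ) hχ1]
            have h4 := Char.linChar_mul_conj (irr_isCharacter χ) hχ1 s
            rwa [Complex.conj_eq_iff_im.mpr (hr s)] at h4
          simp only [h3] at h2
          rw [Finset.sum_const, Finset.card_univ, ← Nat.card_eq_fintype_card, nsmul_eq_mul, mul_one,
            inv_mul_cancel₀ (Nat.cast_ne_zero.mpr Nat.card_pos.ne')] at h2
          exact_mod_cast h2.symm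
        rw [h1, if_pos ⟨rfl, hr⟩, if_neg (by simp)]
        norm_num
      · have h1 : e χ = 0 := (he3 χ).mpr hr
        rw [h1, if_neg (fun h => hr h.2), if_neg (fun h => hr h.2)]
        norm_num
    · rw [h]
      by_cases hr : ∀ g, ((χ : G → ℂ) g).im = 0
      · rw [if_neg (by simp), if_pos ⟨rfl, hr⟩]
        rcases he2 χ with h1 | h1 | h1
        · exact absurd hr ((he3 χ).mp h1)
        · rw [h1]; norm_num
        · rw [h1]; decide
      · have h1 : e χ = 0 := (he3 χ).mpr hr
        rw [h1, if_neg (fun h => hr h.2), if_neg (fun h => hr h.2)]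
        norm_num
    · have h0 : (4 : ℤ) ∣ e χ * deg χ := Dvd.dvd.mul_left (by exact_mod_cast h) _
      have h1 : deg χ ≠ 1 := by intro h2; rw [h2] at h; omega
      have h3 : deg χ ≠ 2 := by intro h2; rw [h2] at h; omega
      rw [if_neg (fun h => h1 h.1), if_neg (fun h => h3 h.1)]
      simpa using (Int.modEq_zero_iff_dvd.mpr h0)
  have hsum2 : (Nat.card {s : G // s * s = 1} : ℤ) ≡
      (Nat.card {χ : IrrCharacter G // deg χ = 1 ∧ ∀ g, ((χ : G → ℂ) g).im = 0} : ℤ) +
      2 * (Nat.card {χ : IrrCharacter G // deg χ = 2 ∧ ∀ g, ((χ : G → ℂ) g).im = 0} : ℤ) [ZMOD 4] := by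
    rw [hsum]
    have h1 : (∑ χ : IrrCharacter G, e χ * (deg χ : ℤ)) ≡ ∑ χ : IrrCharacter G,
      ((if deg χ = 1 ∧ ∀ g, ((χ : G → ℂ) g).im = 0 then 1 else 0) +
      2 * (if deg χ = 2 ∧ ∀ g, ((χ : G → ℂ) g).im = 0 then 1 else 0)) [ZMOD 4] := by
      have := Int.ModEq.sum (s := Finset.univ) (fun χ _ => hmod χ)
      exact this
    refine h1.trans ?_
    rw [Finset.sum_add_distrib, ← Finset.mul_sum]
    rw [Nat.card_eq_fintype_card, Nat.card_eq_fintype_card, Fintype.card_subtype, Fintype.card_subtype,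
      Finset.card_filter, Finset.card_filter]
    push_cast
    rfl
  have hlin : Nat.card {χ : IrrCharacter G // deg χ = 1 ∧ ∀ g, ((χ : G → ℂ) g).im = 0} =
      Nat.card {f : G →* ℂˣ // f ^ 2 = 1} := by
    symm
    have hf2 : ∀ f : G →* ℂˣ, f ^ 2 = 1 → ∀ g, ((f g : ℂˣ) : ℂ) = 1 ∨ ((f g : ℂˣ) : ℂ) = -1 := by
      intro f hf g
      have h1 : ((f g : ℂˣ) : ℂ) ^ 2 = 1 := by
        have := congrFun (congrArg DFunLike.coe hf) g
        rw [MonoidHom.pow_apply, MonoidHom.one_apply] at this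
        rw [← Units.val_pow_eq_pow_val, this, Units.val_one]
      rw [pow_two] at h1; exact mul_self_eq_one_iff.mp h1
    let F : {f : G →* ℂˣ // f ^ 2 = 1} → {χ : IrrCharacter G // deg χ = 1 ∧ ∀ g, ((χ : G → ℂ) g).im = 0} :=
      fun f => ⟨⟨fun g => ((f.1 g : ℂˣ) : ℂ), H52.isIrrCharacter_unitHom f.1⟩, by
        constructor
        · have h1 := deg_spec (⟨fun g => ((f.1 g : ℂˣ) : ℂ), H52.isIrrCharacter_unitHom f.1⟩ : IrrCharacter G)
          change ((f.1 1 : ℂˣ) : ℂ) = _ at h1
          rw [map_one, Units.val_one] at h1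
          exact_mod_cast h1.symm
        · intro g
          change (((f.1 g : ℂˣ) : ℂ)).im = 0
          rcases hf2 f.1 f.2 g with h | h <;> rw [h] <;> simp⟩
    refine Nat.card_congr (Equiv.ofBijective F ⟨?_, ?_⟩)
    · intro f f' h
      apply Subtype.ext
      ext g
      exact congrFun (congrArg (fun χ => (χ.1 : G → ℂ)) h) g
    · rintro ⟨χ, hχd, hχr⟩
      have hχ1 : (χ : G → ℂ) 1 = 1 := by rw [deg_spec, hχd]; simp
      let f : G →* ℂˣ := (Char.linHom (irr_isCharacter χ) hχ1).toHomUnits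
      have hf : ∀ g, ((f g : ℂˣ) : ℂ) = (χ : G → ℂ) g := fun g => rfl
      refine ⟨⟨f, ?_⟩, Subtype.ext (Subtype.ext (funext hf))⟩
      ext g
      rw [MonoidHom.pow_apply, MonoidHom.one_apply, Units.val_pow_eq_pow_val, hf, Units.val_one, pow_two]
      have h4 := Char.linChar_mul_conj (irr_isCharacter χ) hχ1 g
      rwa [Complex.conj_eq_iff_im.mpr (hχr g)] at h4
  have hS : Nat.card {χ : IrrCharacter G // deg χ = 2 ∧ ∀ g, ((χ : G → ℂ) g).im = 0} =
      Nat.card {χ : IrrCharacter G // (χ : G → ℂ) 1 = 2 ∧ ∀ g, ((χ : G → ℂ) g).im = 0} := by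
    refine Nat.card_congr (Equiv.subtypeEquivRight fun χ => ?_)
    rw [deg_spec]
    constructor
    · rintro ⟨h, h'⟩; exact ⟨by rw [h]; simp, h'⟩
    · rintro ⟨h, h'⟩; exact ⟨by exact_mod_cast h, h'⟩
  intro h2
  rw [hlin, hS] at hsum2
  unfold Int.ModEq at hsum2
  omega


/-- Alperin–Feit–Thompson -/
theorem alperin_feit_thompson {G : Type u} [Group G] [Finite G] (hG : IsPGroup 2 G)
    (ht : Nat.card {x : G // orderOf x = 2} % 4 = 1) : IsCyclic G ∨ (commutator G).index = 4 := by
  classical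
  haveI := Fact.mk Nat.prime_two
  by_cases hcyc : IsCyclic G
  · exact Or.inl hcyc
  right
  obtain ⟨e⟩ := exists_dual_equiv G
  haveI : Finite (G →* ℂˣ) := Finite.of_equiv _ e.symm.toEquiv
  have hidx : Nat.card (G →* ℂˣ) = (commutator G).index := Nat.card_congr e.toEquiv
  have hLp : IsPGroup 2 (G →* ℂˣ) := (hG.to_quotient (commutator G)).of_equiv e.symm
  set Λ1 : Subgroup (G →* ℂˣ) := (powMonoidHom 2 : (G →* ℂˣ) →* (G →* ℂˣ)).ker with hΛ1
  set Λ2 : Subgroup (G →* ℂˣ) := (powMonoidHom 4 : (G →* ℂˣ) →* (G →* ℂˣ)).ker with hΛ2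
  have mem1 : ∀ f : G →* ℂˣ, f ∈ Λ1 ↔ f ^ 2 = 1 := fun f => by rw [hΛ1, MonoidHom.mem_ker]; rfl
  have mem2 : ∀ f : G →* ℂˣ, f ∈ Λ2 ↔ f ^ 4 = 1 := fun f => by rw [hΛ2, MonoidHom.mem_ker]; rfl
  have hcard1 : Nat.card Λ1 = Nat.card (powMonoidHom 2 : Abelianization G →* Abelianization G).ker := by
    refine Nat.card_congr (e.toEquiv.subtypeEquiv fun f => ?_)
    rw [mem1, MonoidHom.mem_ker]
    change _ ↔ (e f) ^ 2 = 1
    rw [← map_pow, map_eq_one_iff e e.injective]
  have h4 : 4 ∣ Nat.card Λ1 := by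
    have h1 : ¬ Nat.card Λ1 ≤ 2 := fun h => hcyc (isCyclic_of_card_sq_le hG (hcard1 ▸ h))
    obtain ⟨k, hk⟩ := IsPGroup.iff_card.mp (hLp.to_subgroup Λ1)
    rw [hk] at h1 ⊢
    have h2 : 2 ≤ k := by
      by_contra hc
      have : k = 0 ∨ k = 1 := by omega
      rcases this with rfl | rfl <;> norm_num at h1
    calc 4 = 2 ^ 2 := by norm_num
      _ ∣ 2 ^ k := pow_dvd_pow 2 h2
  have ht2 : Nat.card {s : G // s * s = 1} % 4 = 2 := by
    have h1 : Nat.card {s : G // s * s = 1} = Nat.card {x : G // orderOf x = 2} + 1 := by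
      haveI := Fintype.ofFinite G
      rw [Nat.card_eq_fintype_card, Nat.card_eq_fintype_card, Fintype.card_subtype, Fintype.card_subtype]
      have h2 : Finset.univ.filter (fun s : G => s * s = 1) =
          insert 1 (Finset.univ.filter (fun x : G => orderOf x = 2)) := by
        ext s
        simp only [Finset.mem_filter, Finset.mem_univ, true_and, Finset.mem_insert]
        rw [← pow_two]
        constructor
        · intro h
          by_cases hs : s = 1
          · exact Or.inl hs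
          · right; exact orderOf_eq_prime h hs
        · rintro (h | h)
          · rw [h]; simp
          · rw [← h, pow_orderOf_eq_one]
      rw [h2, Finset.card_insert_of_notMem]
      simp
    omega
  have hodd := odd_real_degree_two hG ht2 (by
    have : Nat.card {f : G →* ℂˣ // f ^ 2 = 1} = Nat.card Λ1 :=
      Nat.card_congr (Equiv.subtypeEquivRight fun f => (mem1 f).symm)
    rw [this]; exact h4)
  letI := H52.unitHomAction G
  have hsm : ∀ (f : G →* ℂˣ) (χ : IrrCharacter G) (g : G), ((f • χ : IrrCharacter G) : G → ℂ) g =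
      ((f g : ℂˣ) : ℂ) * (χ : G → ℂ) g := fun f χ g => rfl
  have hone : ∀ (f : G →* ℂˣ) (χ : IrrCharacter G), (χ : G → ℂ) 1 = 2 → ((f • χ : IrrCharacter G) : G → ℂ) 1 = 2 := by
    intro f χ h
    rw [hsm, map_one, Units.val_one, one_mul, h]
  let X1 : SubMulAction Λ1 (IrrCharacter G) :=
    { carrier := {χ | (χ : G → ℂ) 1 = 2 ∧ ∀ g, ((χ : G → ℂ) g).im = 0}
      smul_mem' := by
        rintro ⟨f, hf⟩ χ ⟨h1, h2⟩
        refine ⟨hone f χ h1, fun g => ?_⟩
        change (((f • χ : IrrCharacter G) : G → ℂ) g).im = 0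
        rw [hsm]
        have h3 : ((f g : ℂˣ) : ℂ) ^ 2 = 1 := by
          have := congrFun (congrArg DFunLike.coe ((mem1 f).mp hf)) g
          rw [MonoidHom.pow_apply, MonoidHom.one_apply] at this
          rw [← Units.val_pow_eq_pow_val, this, Units.val_one]
        rw [pow_two] at h3
        rcases mul_self_eq_one_iff.mp h3 with h | h <;> rw [h] <;> simp [h2 g] }
  have hX1 : Nat.card X1 = Nat.card {χ : IrrCharacter G // (χ : G → ℂ) 1 = 2 ∧ ∀ g, ((χ : G → ℂ) g).im = 0} := rfl
  let X2 : SubMulAction Λ2 (IrrCharacter G) :=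
    { carrier := {χ | ((χ : G → ℂ) 1 = 2 ∧ ∀ g, ((χ : G → ℂ) g).im = 0) ∧ ∀ f ∈ Λ1, f • χ = χ}
      smul_mem' := by
        rintro ⟨f, hf⟩ χ ⟨⟨h1, h2⟩, h3⟩
        refine ⟨⟨hone f χ h1, fun g => ?_⟩, fun f' hf' => ?_⟩
        · change (((f • χ : IrrCharacter G) : G → ℂ) g).im = 0
          rw [← Complex.conj_eq_iff_im, hsm, map_mul, Complex.conj_eq_iff_im.mpr (h2 g)]
          have h4 : f ^ 2 ∈ Λ1 := by
            rw [mem1, ← pow_mul]; exact (mem2 f).mp hf
          have h5 := congrFun (congrArg Subtype.val (h3 _ h4)) g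
          rw [hsm, MonoidHom.pow_apply, Units.val_pow_eq_pow_val] at h5
          have h6 := H52.unitHom_mul_conj f g
          calc conj ((f g : ℂˣ) : ℂ) * (χ : G → ℂ) g
              = conj ((f g : ℂˣ) : ℂ) * (((f g : ℂˣ) : ℂ) ^ 2 * (χ : G → ℂ) g) := by rw [h5]
            _ = (((f g : ℂˣ) : ℂ) * conj ((f g : ℂˣ) : ℂ)) * (((f g : ℂˣ) : ℂ) * (χ : G → ℂ) g) := by ring
            _ = _ := by rw [h6, one_mul]
        · change f' • (f • χ) = f • χ
          apply Subtype.ext
          funext g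
          have h5 := congrFun (congrArg Subtype.val (h3 f' hf')) g
          rw [hsm] at h5
          rw [hsm, hsm, mul_left_comm, h5] }
  have hfix : Nat.card X2 = Nat.card (MulAction.fixedPoints Λ1 X1) := by
    refine Nat.card_congr
      { toFun := fun χ => ⟨⟨χ.1, χ.2.1⟩, fun f => Subtype.ext (χ.2.2 f.1 f.2)⟩
        invFun := fun χ => ⟨χ.1.1, χ.1.2, fun f hf => congrArg Subtype.val (χ.2 ⟨f, hf⟩)⟩
        left_inv := fun χ => rfl
        right_inv := fun χ => rfl }
  have hX2 : ¬ 2 ∣ Nat.card X2 := by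
    rw [hfix]
    have h1 := (hLp.to_subgroup Λ1).card_modEq_card_fixedPoints X1
    rw [hX1] at h1
    intro h
    apply hodd
    exact (h1.dvd_iff (dvd_refl 2)).mpr h
  obtain ⟨⟨χ, hχ⟩, hχfix⟩ := (hLp.to_subgroup Λ2).nonempty_fixed_point_of_prime_not_dvd_card X2 hX2
  have hbound : Nat.card Λ2 ≤ 4 := by
    haveI := Fintype.ofFinite (G →* ℂˣ)
    have h1 := H52.card_le_sq_of_fix χ.2 (d := 2) (by rw [hχ.1.1]; norm_num)
      (Finset.univ.filter (fun f : G →* ℂˣ => f ∈ Λ2)) (fun f hf g => by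
        rw [Finset.mem_filter] at hf
        have h2 := hχfix ⟨f, hf.2⟩
        have h3 : f • χ = χ := congrArg Subtype.val h2
        exact congrFun (congrArg Subtype.val h3) g)
    have h2 : Nat.card Λ2 = (Finset.univ.filter (fun f : G →* ℂˣ => f ∈ Λ2)).card := by
      rw [Nat.card_eq_fintype_card, Fintype.card_subtype]
    rw [h2]; exact h1
  have h12 : Λ1 ≤ Λ2 := fun f hf => by
    rw [mem2]; rw [mem1] at hf
    calc f ^ 4 = (f ^ 2) ^ 2 := by rw [← pow_mul]
      _ = 1 := by rw [hf]; ext g; simp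
  have h1ge : 4 ≤ Nat.card Λ1 := Nat.le_of_dvd Nat.card_pos h4
  have heq : Λ1 = Λ2 := Subgroup.eq_of_le_of_card_ge h12 (hbound.trans h1ge)
  have htop : Λ1 = ⊤ := by
    rw [eq_top_iff]
    intro f _
    obtain ⟨k, hk⟩ := hLp f
    have key : ∀ k : ℕ, ∀ f : G →* ℂˣ, f ^ 2 ^ k = 1 → f ^ 2 = 1 := by
      intro k
      induction k with
      | zero => intro f h; simp at h; rw [h]; ext g; simp
      | succ n ih =>
        intro f h
        have h2 : (f ^ 2) ^ 2 ^ n = 1 := by rw [← pow_mul, ← pow_succ']; exact h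
        have h3 := ih _ h2
        have h5 : f ∈ Λ2 := by rw [mem2, ← h3, ← pow_mul]
        rw [← heq, mem1] at h5
        exact h5
    rw [mem1]; exact key k f hk
  rw [← hidx]
  have h5 : Nat.card (G →* ℂˣ) = Nat.card Λ1 := by rw [htop, Subgroup.card_top]
  rw [h5]
  rw [← heq] at hbound
  omega

end Cfsg.Agent.H75
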