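import Cfsg.Agent.Char.Galois
import Cfsg.Agent.CharBase.Column
import Cfsg.Agent.Char.Linear

/-!
# Determinants of representations (owner: helper75)
-/

set_option autoImplicit false
set_option linter.style.haveILetI false
set_option linter.unusedSectionVars false

open Module Polynomial

namespace Cfsg.Agent.H75

open Cfsg Cfsg.Agent.CharBase Cfsg.Agent.Char
open scoped BigOperators

section Endo

variable {V : Type*} [AddCommGroup V] [Module ℂ V] [FiniteDimensional ℂ V]

/-- traces of powers through the roots of the characteristic polynomial -/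
theorem trace_pow_eq_roots {f : End ℂ V} {n : ℕ} (hn : n ≠ 0) (hf : f ^ n = 1) (k : ℕ) :
    LinearMap.trace ℂ V (f ^ k) = (f.charpoly.roots.map (· ^ k)).sum := by
  classical
  have hss : f.IsFinitelySemisimple := (endo_isSemisimple hn hf).isFinitelySemisimple
  have htop : (⨆ μ : ℂ, f.eigenspace μ) = ⊤ := by
    have := End.iSup_maxGenEigenspace_eq_top f
    simpa only [hss.maxGenEigenspace_eq_eigenspace] using this
  have hind : iSupIndep (fun μ : ℂ => f.eigenspace μ) := f.eigenspaces_iSupIndep
  have hint : DirectSum.IsInternal (fun μ : ℂ => f.eigenspace μ) :=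
    DirectSum.isInternal_submodule_of_iSupIndep_of_iSup_eq_top hind htop
  have hfin : {μ : ℂ | f.eigenspace μ ≠ ⊥}.Finite :=
    WellFoundedGT.finite_ne_bot_of_iSupIndep hind
  have hmaps : ∀ (k : ℕ) (μ : ℂ), Set.MapsTo (f ^ k) (f.eigenspace μ) (f.eigenspace μ) := by
    intro k μ v hv
    rw [SetLike.mem_coe, End.mem_eigenspace_iff] at hv ⊢
    rw [← Module.End.mul_apply, ← pow_succ', pow_succ, Module.End.mul_apply, hv, map_smul]
  have hpow : ∀ (k : ℕ) (μ : ℂ) (v : V), v ∈ f.eigenspace μ → (f ^ k) v = μ ^ k • v := by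
    intro k μ v hv
    rw [End.mem_eigenspace_iff] at hv
    induction k with
    | zero => simp
    | succ k ih => rw [pow_succ', Module.End.mul_apply, ih, map_smul, hv, smul_smul, pow_succ]
  have hcount : ∀ μ : ℂ, finrank ℂ (f.eigenspace μ) = f.charpoly.roots.count μ := by
    intro μ
    rw [Polynomial.count_roots, ← LinearMap.finrank_maxGenEigenspace_eq,
      hss.maxGenEigenspace_eq_eigenspace]
  have htr : LinearMap.trace ℂ V (f ^ k) =
      ∑ μ ∈ hfin.toFinset, (finrank ℂ (f.eigenspace μ)) • μ ^ k := by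
    rw [LinearMap.trace_eq_sum_trace_restrict' hint hfin (hmaps k)]
    refine Finset.sum_congr rfl (fun μ _ => ?_)
    have h1 : (f ^ k).restrict (hmaps k μ) = μ ^ k • LinearMap.id := by
      ext v
      simp only [LinearMap.smul_apply, LinearMap.id_coe, id_eq,
        Submodule.coe_smul]
      exact hpow k μ v v.2
    rw [h1, map_smul, LinearMap.trace_id, smul_eq_mul, nsmul_eq_mul, mul_comm]
  rw [htr, Finset.sum_multiset_map_count]
  have h2 : hfin.toFinset = f.charpoly.roots.toFinset := by
    ext μ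
    rw [Set.Finite.mem_toFinset, Multiset.mem_toFinset, ← Multiset.one_le_count_iff_mem, ← hcount,
      Set.mem_ofPred_eq]
    rw [Nat.one_le_iff_ne_zero, ne_eq, ne_eq, Submodule.finrank_eq_zero]
  rw [h2]
  exact Finset.sum_congr rfl (fun μ _ => by rw [hcount])

/-- If the powers `f ^ k`, `k` not divisible by `e`, have trace zero, then all `e`-th roots of
unity are eigenvalues of `f` of the same multiplicity. -/
theorem det_of_trace_zero {f : End ℂ V} {e t : ℕ} (he : e ≠ 0) (hf : f ^ e = 1)
    (htr : ∀ k, ¬ e ∣ k → LinearMap.trace ℂ V (f ^ k) = 0) (hdim : finrank ℂ V = e * t) :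
    LinearMap.det f = (-1) ^ ((e + 1) * t) := by
  classical
  haveI : NeZero e := ⟨he⟩
  set s := f.charpoly.roots with hs
  have hse : ∀ ω ∈ s, ω ^ e = 1 := fun ω hω => endo_pow_eq_one_of_mem_roots hf hω
  have hcard : Multiset.card s = e * t := by rw [hs, endo_card_roots, hdim]
  have hcount : ∀ ω : ℂ, ω ^ e = 1 → s.count ω = t := by
    intro ω hω
    have hω0 : ω ≠ 0 := by
      rintro rfl
      rw [zero_pow he] at hω
      exact zero_ne_one hω
    -- compute `∑_{k < e} ω⁻ᵏ p_k` in two ways
    have h1 : ∑ k ∈ Finset.range e, ω⁻¹ ^ k * (s.map (· ^ k)).sum = (e * t : ℕ) := by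
      rw [Finset.sum_eq_single 0]
      · simp [hcard]
      · intro k hk hk0
        rw [← trace_pow_eq_roots he hf, htr k, mul_zero]
        intro hd
        exact hk0 (Nat.eq_zero_of_dvd_of_lt hd (Finset.mem_range.mp hk))
      · intro h; exact absurd (Finset.mem_range.mpr (Nat.pos_of_ne_zero he)) h
    have h2 : ∑ k ∈ Finset.range e, ω⁻¹ ^ k * (s.map (· ^ k)).sum =
        ∑ x ∈ s.toFinset, (s.count x : ℂ) * ∑ k ∈ Finset.range e, (ω⁻¹ * x) ^ k := by
      simp_rw [Finset.sum_multiset_map_count, Finset.mul_sum, nsmul_eq_mul]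
      rw [Finset.sum_comm]
      apply Finset.sum_congr rfl
      intro x _
      apply Finset.sum_congr rfl
      intro k _
      rw [mul_pow]; ring
    have h3 : ∀ x ∈ s.toFinset, x ≠ ω → (s.count x : ℂ) * ∑ k ∈ Finset.range e, (ω⁻¹ * x) ^ k = 0 := by
      intro x hx hxω
      have h4 : ω⁻¹ * x ≠ 1 := by
        intro h5
        apply hxω
        rw [inv_mul_eq_one₀ hω0] at h5
        exact h5.symm
      have h5 : (ω⁻¹ * x) ^ e = 1 := by
        rw [mul_pow, inv_pow, hω, hse x (Multiset.mem_toFinset.mp hx)]; simp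
      have h6 : ∑ k ∈ Finset.range e, (ω⁻¹ * x) ^ k = 0 := by
        have := geom_sum_mul (ω⁻¹ * x) e
        rw [h5, sub_self] at this
        rcases mul_eq_zero.mp this with h | h
        · exact h
        · exact absurd (sub_eq_zero.mp h) h4
      rw [h6, mul_zero]
    have h4 : ∑ x ∈ s.toFinset, (s.count x : ℂ) * ∑ k ∈ Finset.range e, (ω⁻¹ * x) ^ k =
        (s.count ω : ℂ) * e := by
      rw [Finset.sum_eq_single ω h3]
      · rw [inv_mul_cancel₀ hω0]; simp
      · intro h
        rw [Multiset.mem_toFinset] at h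
        rw [Multiset.count_eq_zero_of_notMem h]; simp
    rw [h2, h4] at h1
    have h5 : ((s.count ω * e : ℕ) : ℂ) = ((t * e : ℕ) : ℂ) := by
      push_cast
      rw [h1]; push_cast; ring
    exact Nat.eq_of_mul_eq_mul_right (Nat.pos_of_ne_zero he) (by exact_mod_cast h5)
  rw [End.det_eq_prod_roots_charpoly_of_splits (IsAlgClosed.splits _), ← hs,
    Finset.prod_multiset_count]
  have hprim := Complex.isPrimitiveRoot_exp e he
  have h6 : ∏ x ∈ s.toFinset, x ^ s.count x = ∏ x ∈ Polynomial.nthRootsFinset e (1 : ℂ), x ^ t := by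
    rw [Finset.prod_subset (s₂ := Polynomial.nthRootsFinset e (1 : ℂ))]
    · apply Finset.prod_congr rfl
      intro x hx
      rw [hcount x ((Polynomial.mem_nthRootsFinset (Nat.pos_of_ne_zero he) 1).mp hx)]
    · intro x hx
      exact (Polynomial.mem_nthRootsFinset (Nat.pos_of_ne_zero he) 1).mpr
        (hse x (Multiset.mem_toFinset.mp hx))
    · intro x _ hx
      rw [Multiset.mem_toFinset] at hx
      rw [Multiset.count_eq_zero_of_notMem hx, pow_zero]
  rw [h6, Finset.prod_pow]
  have h7 : ∏ x ∈ Polynomial.nthRootsFinset e (1 : ℂ), x = (-1) ^ (e + 1) := by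
    have h8 := Polynomial.X_pow_sub_one_eq_prod (Nat.pos_of_ne_zero he) hprim
    have h9 := congrArg (Polynomial.eval 0) h8
    rw [Polynomial.eval_prod] at h9
    simp only [Polynomial.eval_sub, Polynomial.eval_pow, Polynomial.eval_X, Polynomial.eval_one,
      Polynomial.eval_C, zero_sub, zero_pow he] at h9
    rw [Finset.prod_neg, hprim.card_nthRootsFinset] at h9
    have h10 : ((-1 : ℂ) ^ e) * ((-1 : ℂ) ^ e) = 1 := by
      rw [← mul_pow]; simp
    calc ∏ x ∈ Polynomial.nthRootsFinset e (1 : ℂ), x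
        = ((-1 : ℂ) ^ e * (-1 : ℂ) ^ e) * ∏ x ∈ Polynomial.nthRootsFinset e (1 : ℂ), x := by
          rw [h10, one_mul]
      _ = (-1 : ℂ) ^ e * ((-1 : ℂ) ^ e * ∏ x ∈ Polynomial.nthRootsFinset e (1 : ℂ), x) := by ring
      _ = (-1) ^ (e + 1) := by rw [← h9]; ring
  rw [h7, ← pow_mul]

end Endo

theorem even_index_of_det {G : Type*} [Group G] [Finite G] {V : Type*} [AddCommGroup V] [Module ℂ V]
    [FiniteDimensional ℂ V] (ρ : Representation ℂ G V) {g : G} (hg : LinearMap.det (ρ g) = -1) :
    Even (commutator G).index := by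
  let d : G →* ℂˣ := MonoidHom.toHomUnits (LinearMap.det.comp ρ)
  have h1 : commutator G ≤ d.ker := Abelianization.commutator_subset_ker d
  have h2 : d.ker.index ∣ (commutator G).index := Subgroup.index_dvd_of_le h1
  have h3 : d g = -1 := by
    apply Units.ext
    rw [MonoidHom.coe_toHomUnits]
    rw [Units.val_neg, Units.val_one]
    exact hg
  have h4 : 2 ∣ d.ker.index := by
    rw [Subgroup.index_ker]
    have h5 : orderOf (⟨-1, ⟨g, h3⟩⟩ : d.range) = 2 := by
      apply orderOf_eq_prime
      · apply Subtype.ext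
        rw [Subgroup.coe_pow, Subgroup.coe_one]
        simp
      · intro h
        have h6 : (-1 : ℂˣ) = 1 := congrArg Subtype.val h
        have h7 : (-1 : ℂ) = 1 := by
          have := congrArg Units.val h6
          simpa using this
        norm_num at h7
    rw [← h5]
    exact orderOf_dvd_natCard _
  exact even_iff_two_dvd.mpr (h4.trans h2)

end Cfsg.Agent.H75
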