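import Cfsg.Agent.H75.TwoDeg3
import Cfsg.Agent.Coh.DegBound

/-!
# Groups with character degrees 1 and p (owner: helper75)
-/

set_option autoImplicit false
set_option linter.style.haveILetI false
set_option linter.unusedSectionVars false

namespace Cfsg.Agent.H75.TwoDeg

open scoped ComplexConjugate BigOperators commutatorElement
open Cfsg Cfsg.Agent.CharBase Cfsg.Agent.H75

universe u v

section Count

variable {H : Type u} {Λ : Type v} [Group H] [CommGroup Λ] [Finite H] [Finite Λ]

/-- fixed points of one automorphism -/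
def fixS (φ : H →* MulAut Λ) (h : H) : Subgroup Λ where
  carrier := {x | φ h x = x}
  one_mem' := map_one _
  mul_mem' := fun {a b} ha hb => by
    show φ h (a * b) = a * b
    rw [map_mul, show φ h a = a from ha, show φ h b = b from hb]
  inv_mem' := fun {a} ha => by
    show φ h a⁻¹ = a⁻¹
    rw [map_inv, show φ h a = a from ha]

theorem mem_fixS (φ : H →* MulAut Λ) (h : H) (x : Λ) : x ∈ fixS φ h ↔ φ h x = x := Iff.rfl

/-- a nontrivially acting element of a `p`-group fixes at most `1/p` of the points -/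
theorem card_fixS_mul_le (φ : H →* MulAut Λ) {p k : ℕ} (hp : p.Prime) (hH : Nat.card H = p ^ k)
    (h : H) (hh : φ h ≠ 1) : Nat.card (fixS φ h) * p ≤ Nat.card Λ := by
  classical
  obtain ⟨x, hx⟩ : ∃ x, φ h x ≠ x := by
    by_contra hcon
    push Not at hcon
    exact hh (MulEquiv.ext hcon)
  let δ : Λ →* Λ := MonoidHom.mk' (fun y => φ h y * y⁻¹) (fun a b => by
    simp only [map_mul, mul_inv]
    exact mul_mul_mul_comm _ _ _ _)
  have hδ : ∀ y, δ y = φ h y * y⁻¹ := fun y => rfl
  have hker : δ.ker = fixS φ h := by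
    ext y
    rw [MonoidHom.mem_ker, hδ, mul_inv_eq_one, mem_fixS]
  have hpw : ∀ i : ℕ, φ (h ^ i) x * x⁻¹ ∈ δ.range := by
    intro i
    induction i with
    | zero => simp
    | succ i ih =>
      obtain ⟨y, hy⟩ := ih
      refine ⟨φ h y * x, ?_⟩
      have e1 : φ (h ^ i) x = δ y * x := by rw [hy, inv_mul_cancel_right]
      rw [pow_succ', map_mul φ, MulAut.mul_apply, e1, hδ, hδ, map_mul, map_mul, map_mul, map_inv,
        mul_inv]
      group
      rw [mul_right_comm (φ h (φ h y)) (φ h x)]
  have hinj : Function.Injective (fun i : Fin p => (⟨φ (h ^ (i : ℕ)) x * x⁻¹, hpw i⟩ : δ.range)) := by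
    have key : ∀ i j : ℕ, i < j → j < p → φ (h ^ i) x ≠ φ (h ^ j) x := by
      intro i j hij hjp he
      apply hx
      -- h^(j-i) fixes x
      have h1 : h ^ (j - i) ∈ stab φ x := by
        rw [mem_stab]
        have e2 : h ^ j = h ^ i * h ^ (j - i) := by rw [← pow_add]; congr 1; omega
        rw [e2, map_mul, MulAut.mul_apply] at he
        exact ((φ (h ^ i)).injective he).symm
      have h2 : h ^ (p ^ k) ∈ stab φ x := by
        rw [← hH, pow_card_eq_one']; exact one_mem _
      have h3 : Nat.Coprime (j - i) (p ^ k) := by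
        apply Nat.Coprime.pow_right
        rw [Nat.coprime_comm]
        exact (Nat.Prime.coprime_iff_not_dvd hp).mpr (Nat.not_dvd_of_pos_of_lt (by omega) (by omega))
      have h4 : h ∈ stab φ x := by
        have e3 := Nat.gcd_eq_gcd_ab (j - i) (p ^ k)
        rw [h3] at e3
        have e4 : h = (h ^ (j - i)) ^ (Nat.gcdA (j - i) (p ^ k)) *
            (h ^ (p ^ k)) ^ (Nat.gcdB (j - i) (p ^ k)) := by
          rw [← zpow_natCast, ← zpow_natCast, ← zpow_mul, ← zpow_mul, ← zpow_add]
          rw [← e3]; simp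
        rw [e4]
        exact mul_mem (Subgroup.zpow_mem _ h1 _) (Subgroup.zpow_mem _ h2 _)
      exact h4
    intro i j hij
    have hij' : φ (h ^ (i : ℕ)) x = φ (h ^ (j : ℕ)) x := by
      have := congrArg Subtype.val hij
      exact mul_right_cancel this
    rcases lt_trichotomy (i : ℕ) (j : ℕ) with h1 | h1 | h1
    · exact absurd hij' (key _ _ h1 j.2)
    · exact Fin.ext h1
    · exact absurd hij'.symm (key _ _ h1 i.2)
  have h5 : p ≤ Nat.card δ.range := by
    have := Nat.card_le_card_of_injective _ hinj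
    simpa using this
  have h6 : Nat.card Λ = Nat.card δ.ker * Nat.card δ.range := by
    rw [← Subgroup.card_mul_index δ.ker, Subgroup.index_ker]
  rw [h6, hker]
  exact Nat.mul_le_mul_left _ h5

/-- double counting of fixed points -/
theorem sum_card_fix (φ : H →* MulAut Λ) [Fintype H] [Fintype Λ] :
    ∑ h : H, Nat.card (fixS φ h) = ∑ x : Λ, Nat.card (stab φ x) := by
  classical
  have e1 : ∀ h : H, Nat.card (fixS φ h) = ∑ x : Λ, if φ h x = x then 1 else 0 := by
    intro h
    rw [← Finset.card_filter, Nat.card_eq_fintype_card, Fintype.card_subtype]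
    rfl
  have e2 : ∀ x : Λ, Nat.card (stab φ x) = ∑ h : H, if φ h x = x then 1 else 0 := by
    intro x
    rw [← Finset.card_filter, Nat.card_eq_fintype_card, Fintype.card_subtype]
    rfl
  simp only [e1, e2]
  exact Finset.sum_comm

theorem action_count (φ : H →* MulAut Λ) {p : ℕ} (hp : p.Prime) (hH : Nat.card H = p ^ 2)
    (M : Subgroup H) (hM : Nat.card M = p)
    (h1 : ∀ x, stab φ x ≠ ⊤ → Nat.card (stab φ x) = p)
    (hMf : ∀ m ∈ M, m ≠ 1 → ∀ x, φ m x = x → stab φ x = ⊤) :
    ∃ h : H, h ≠ 1 ∧ φ h = 1 := by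
  classical
  haveI := Fintype.ofFinite H
  haveI := Fintype.ofFinite Λ
  by_contra hcon
  push Not at hcon
  have hle : ∀ h : H, h ≠ 1 → Nat.card (fixS φ h) * p ≤ Nat.card Λ := fun h hh =>
    card_fixS_mul_le φ hp hH h (hcon h hh)
  set n := Nat.card Λ with hn
  set a := (Finset.univ.filter fun x : Λ => stab φ x = ⊤).card with ha
  have ha1 : 1 ≤ a := by
    rw [ha, Nat.one_le_iff_ne_zero, Ne, Finset.card_eq_zero, ← Ne, ← Finset.nonempty_iff_ne_empty]
    refine ⟨1, ?_⟩
    rw [Finset.mem_filter]
    refine ⟨Finset.mem_univ _, ?_⟩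
    rw [eq_top_iff]
    intro h _
    exact map_one _
  have hsum := sum_card_fix φ
  -- right side
  have hR : ∑ x : Λ, Nat.card (stab φ x) = n * p + a * (p * (p - 1)) := by
    have h3 : ∀ x ∈ (Finset.univ : Finset Λ), Nat.card (stab φ x) =
        p + if stab φ x = ⊤ then p * (p - 1) else 0 := by
      intro x _
      by_cases hx : stab φ x = ⊤
      · rw [if_pos hx, hx, Subgroup.card_top, hH]
        obtain ⟨q, rfl⟩ : ∃ q, p = q + 1 := ⟨p - 1, by have := hp.pos; omega⟩
        simp only [Nat.add_sub_cancel]; ring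
      · rw [if_neg hx, h1 x hx, add_zero]
    rw [Finset.sum_congr rfl h3, Finset.sum_add_distrib, Finset.sum_const, Finset.card_univ,
      ← Nat.card_eq_fintype_card, smul_eq_mul, ← Finset.sum_filter, Finset.sum_const, smul_eq_mul]
  -- left side
  have hL : p * ∑ h : H, Nat.card (fixS φ h) ≤ p * n + (p - 1) * (p * a) + (p ^ 2 - p) * n := by
    have hMa : ∀ h ∈ M, h ≠ 1 → Nat.card (fixS φ h) ≤ a := by
      intro h hh hh1
      rw [ha, Nat.card_eq_fintype_card, Fintype.card_subtype]
      apply Finset.card_le_card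
      intro x hx
      rw [Finset.mem_filter] at hx ⊢
      exact ⟨hx.1, hMf h hh hh1 x hx.2⟩
    have h3 : ∀ h ∈ (Finset.univ : Finset H), p * Nat.card (fixS φ h) ≤
        (if h = 1 then p * n else 0) + (if h ∈ M ∧ h ≠ 1 then p * a else 0) +
          (if h ∉ M then n else 0) := by
      intro h _
      by_cases hh : h = 1
      · subst hh
        rw [if_pos rfl]
        have : Nat.card (fixS φ (1 : H)) ≤ n := Subgroup.card_le_card_group _
        have := Nat.mul_le_mul_left p this
        omega
      · rw [if_neg hh]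
        by_cases hhM : h ∈ M
        · rw [if_pos ⟨hhM, hh⟩, if_neg (by simpa using hhM)]
          have := Nat.mul_le_mul_left p (hMa h hhM hh)
          omega
        · rw [if_neg (fun h => hhM h.1), if_pos hhM, mul_comm]
          have := hle h hh
          omega
    rw [Finset.mul_sum]
    refine (Finset.sum_le_sum h3).trans ?_
    rw [Finset.sum_add_distrib, Finset.sum_add_distrib]
    have s1 : (∑ h : H, if h = 1 then p * n else 0) = p * n := by simp
    have c0 : (Finset.univ.filter fun h : H => h ∈ M).card = p := by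
      rw [← hM, Nat.card_eq_fintype_card, Fintype.card_subtype]
    have s2 : (∑ h : H, if h ∈ M ∧ h ≠ 1 then p * a else 0) = (p - 1) * (p * a) := by
      rw [← Finset.sum_filter, Finset.sum_const, smul_eq_mul]
      congr 1
      have : (Finset.univ.filter fun h : H => h ∈ M ∧ h ≠ 1) =
          (Finset.univ.filter fun h : H => h ∈ M).erase 1 := by
        ext h; simp [and_comm]
      rw [this, Finset.card_erase_of_mem (by simp [M.one_mem]), c0]
    have s3 : (∑ h : H, if h ∉ M then n else 0) = (p ^ 2 - p) * n := by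
      rw [← Finset.sum_filter, Finset.sum_const, smul_eq_mul]
      congr 1
      have h4 := Finset.card_filter_add_card_filter_not (s := (Finset.univ : Finset H))
        (fun h : H => h ∈ M)
      rw [c0, Finset.card_univ, ← Nat.card_eq_fintype_card, hH] at h4
      omega
    rw [s1, s2, s3]
  rw [hsum, hR] at hL
  obtain ⟨q, hq⟩ : ∃ q, p = q + 2 := ⟨p - 2, by have := hp.two_le; omega⟩
  subst hq
  have e3 : (q + 2) ^ 2 - (q + 2) = (q + 2) * (q + 1) := by
    have : (q + 2) ^ 2 = (q + 2) * (q + 1) + (q + 2) := by ring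
    omega
  rw [e3] at hL
  simp only [show q + 2 - 1 = q + 1 from rfl] at hL
  nlinarith [Nat.zero_le (a * q), Nat.zero_le (n * q), Nat.zero_le (a * q * q),
    Nat.zero_le (a * q * q * q)]

end Count

section Main

variable {G : Type u} [Group G] [Fintype G]

/-- norm form of Clifford's theorem -/
theorem clifford_norm (N : Subgroup G) [hN : N.Normal] [Fintype N] {χ : G → ℂ}
    (hχ : IsIrrCharacter G χ) {θ : N → ℂ} (hθ : IsIrrCharacter N θ)
    (h1 : classInner (fun n : N => χ n) θ ≠ 0) :
    classInner (fun n : N => χ n) (fun n : N => χ n) =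
      classInner (fun n : N => χ n) θ ^ 2 * (Char.inertia N θ).index := by
  classical
  have hcl := isClassFunction_of_isCharacter (isCharacter_of_isIrr hχ)
  obtain ⟨e, he⟩ := classInner_natCast (isCharacter_restrict (isCharacter_of_isIrr hχ) N)
    (isCharacter_of_isIrr hθ)
  have h2 := Char.clifford N hχ hθ h1
  refine (congrArg (fun φ => classInner φ (fun n : N => χ n)) h2).trans ?_
  rw [classInner_smul_left, classInner_sum_left]
  have h3 : ∀ ψ ∈ Char.orb N θ, classInner ψ (fun n : N => χ n) = e := by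
    intro ψ hψ
    obtain ⟨g, rfl⟩ := (Char.mem_orb N).mp hψ
    rw [← classInner_conj_symm (fun n : N => χ n), Char.classInner_restrict_cj N hcl θ g, he]
    simp
  rw [Finset.sum_congr rfl h3, Finset.sum_const, Char.card_orb, nsmul_eq_mul, he]
  ring

theorem card_mul_classInner_restrict (N : Subgroup G) [Fintype N] (χ : G → ℂ) :
    (Nat.card N : ℂ) * classInner (fun n : N => χ n) (fun n : N => χ n) =
      ∑ n : N, χ n * conj (χ n) := by
  unfold classInner
  rw [← mul_assoc, mul_inv_cancel₀, one_mul]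
  exact_mod_cast Nat.card_pos.ne'

/-- the numerical data of Clifford's theorem -/
theorem clifford_data (N : Subgroup G) [hN : N.Normal] [Fintype N] {χ : G → ℂ}
    (hχ : IsIrrCharacter G χ) {θ : N → ℂ} (hθ : IsIrrCharacter N θ)
    (h1 : classInner (fun n : N => χ n) θ ≠ 0) {d : ℕ} (hd : χ 1 = d) {f : ℕ} (hf : θ 1 = f) :
    ∃ e : ℕ, classInner (fun n : N => χ n) θ = e ∧ d = e * ((Char.inertia N θ).index * f) ∧
      ∑ n : N, χ n * conj (χ n) = ((Nat.card N * (e ^ 2 * (Char.inertia N θ).index) : ℕ) : ℂ) := by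
  obtain ⟨e, he⟩ := classInner_natCast (isCharacter_restrict (isCharacter_of_isIrr hχ) N)
    (isCharacter_of_isIrr hθ)
  refine ⟨e, he, ?_, ?_⟩
  · have h2 := Char.clifford_degree N hχ hθ h1
    rw [he, hd, hf] at h2
    exact_mod_cast h2
  · rw [← card_mul_classInner_restrict, clifford_norm N hχ hθ h1, he]
    push_cast
    ring

/-- commutators of the group are detected by nonlinear characters -/
theorem exists_commutator_ne (χ : IrrCharacter G) (h : deg χ ≠ 1) :
    ∃ y ∈ commutator G, (χ : G → ℂ) y ≠ (χ : G → ℂ) 1 := by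
  by_contra hcon
  push Not at hcon
  apply h
  obtain ⟨χ', hχ', hχχ⟩ := exists_deflate_irr (commutator G) χ.2 hcon
  have h1 : χ' 1 = 1 := by
    refine irr_one_of_comm (G := G ⧸ commutator G) ?_ ⟨χ', hχ'⟩
    intro a b
    exact mul_comm (G := Abelianization G) a b
  have h2 := hχχ 1
  rw [QuotientGroup.mk_one, h1, deg_spec] at h2
  exact_mod_cast h2.symm

/-- linear characters separate cosets of the commutator subgroup -/
theorem exists_linear_ne {M : Type u} [Group M] [Finite M] {y : M} (hy : y ∉ commutator M) :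
    ∃ μ : M → ℂ, IsCharacter M μ ∧ μ 1 = 1 ∧ μ y ≠ 1 := by
  by_contra hcon
  push Not at hcon
  apply hy
  have h1 : ∀ χ : IrrCharacter (Abelianization M), χ.1 (Abelianization.of y) = χ.1 1 := by
    intro χ
    have h2 : χ.1 1 = 1 := irr_one_of_comm (fun a b => mul_comm a b) χ
    rw [h2]
    exact hcon (fun m => χ.1 (Abelianization.of m)) (isCharacter_comp (irr_isCharacter χ) _)
      (by rw [map_one]; exact h2)
  have h3 := isConj_of_forall_char h1
  rw [isConj_one_left] at h3
  exact (QuotientGroup.eq_one_iff y).mp h3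

variable (p : ℕ)

/-- If `χ` of degree `p` is nontrivial on `M'` then `χ_M` is irreducible. -/
theorem restrict_irreducible (hp : p.Prime) (M : Subgroup G) [hM : M.Normal] [Fintype M]
    (χ : IrrCharacter G) (hχ : deg χ = p) (hy : ∃ y ∈ commutator M, (χ : G → ℂ) y ≠ (χ : G → ℂ) 1) :
    IsIrrCharacter M (fun n : M => (χ : G → ℂ) n) := by
  classical
  obtain ⟨θ, hθ, hne⟩ := Char.exists_constituent_restrict M (irr_isCharacter χ)
    (irr_one_ne_zero χ.2)
  obtain ⟨e, he, hd, -⟩ := clifford_data M χ.2 hθ hne (deg_spec χ) (deg_spec ⟨θ, hθ⟩)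
  rw [hχ] at hd
  have hθ1 : deg (⟨θ, hθ⟩ : IrrCharacter M) ≠ 1 := by
    intro h1
    obtain ⟨y, hy1, hy2⟩ := hy
    apply hy2
    have h2 := Char.clifford M χ.2 hθ hne
    have h3 : ∀ ψ ∈ Char.orb M θ, ψ y = ψ 1 := by
      intro ψ hψ
      obtain ⟨g, rfl⟩ := (Char.mem_orb M).mp hψ
      have h4 : IsCharacter M (Char.cj M g θ) := Char.isCharacter_cj M g (isCharacter_of_isIrr hθ)
      have h5 : Char.cj M g θ 1 = 1 := by
        rw [Char.cj_one_apply]
        have := deg_spec (⟨θ, hθ⟩ : IrrCharacter M)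
        rw [h1, Nat.cast_one] at this
        exact this
      -- kernel contains the commutator subgroup
      have h6 : commutator M ≤ charKer h4 := by
        rw [commutator_def, Subgroup.commutator_le]
        intro a _ b _
        rw [commutatorElement_def, mem_charKer, linear_commutator h4 h5, h5]
      exact h6 hy1
    have h7 := congrFun h2 y
    have h8 := congrFun h2 1
    simp only [Pi.smul_apply, Finset.sum_apply] at h7 h8
    rw [Finset.sum_congr rfl h3, ← h8] at h7
    exact h7
  have hdvd : deg (⟨θ, hθ⟩ : IrrCharacter M) ∣ p := by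
    rw [hd]; exact (Dvd.intro_left _ rfl).mul_left _
  have hθp : deg (⟨θ, hθ⟩ : IrrCharacter M) = p := ((Nat.dvd_prime hp).mp hdvd).resolve_left hθ1
  rw [hθp] at hd
  have h9 : e * (Char.inertia M θ).index = 1 := by
    have : p * 1 = p * (e * (Char.inertia M θ).index) := by
      rw [mul_one]
      calc p = e * ((Char.inertia M θ).index * p) := hd
        _ = p * (e * (Char.inertia M θ).index) := by ring
    exact (Nat.eq_of_mul_eq_mul_left hp.pos this).symm
  have he1 : e = 1 := Nat.eq_one_of_mul_eq_one_right h9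
  have ht1 : (Char.inertia M θ).index = 1 := Nat.eq_one_of_mul_eq_one_left h9
  have hinv : ∀ g : G, Char.cj M g θ = θ := by
    intro g
    have : g ∈ Char.inertia M θ := by
      rw [Subgroup.index_eq_one.mp ht1]; trivial
    exact this
  have h10 := Char.restrict_eq_smul_of_invariant M χ.2 hθ hne hinv
  rw [he, he1, Nat.cast_one, one_smul] at h10
  rw [h10]
  exact hθ

/-- `cd = {1,p}`: irreducible characters of degree `p` of a normal subgroup are invariant. -/
theorem invariant_of_deg_p (hp : p.Prime)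
    (hcd : ∀ χ : IrrCharacter G, deg χ = 1 ∨ deg χ = p) (M : Subgroup G) [hM : M.Normal] [Fintype M]
    {θ : M → ℂ} (hθ : IsIrrCharacter M θ) (hd : θ 1 = p) (g : G) : Char.cj M g θ = θ := by
  obtain ⟨χ, hχ, hne⟩ := Char.exists_over M hθ
  obtain ⟨e, he, hd, -⟩ := clifford_data M hχ hθ hne (deg_spec ⟨χ, hχ⟩) hd
  have h1 : (Char.inertia M θ).index = 1 := by
    have hpp := hp.one_lt
    have hdp := deg_pos (⟨χ, hχ⟩ : IrrCharacter G)
    rcases hcd ⟨χ, hχ⟩ with h | h
    · rw [h] at hd
      have h2 : (Char.inertia M θ).index * p = 1 := Nat.eq_one_of_mul_eq_one_left hd.symm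
      exact Nat.eq_one_of_mul_eq_one_right h2
    · rw [h] at hd
      have : p * 1 = p * (e * (Char.inertia M θ).index) := by
        rw [mul_one]
        calc p = e * ((Char.inertia M θ).index * p) := hd
          _ = p * (e * (Char.inertia M θ).index) := by ring
      exact Nat.eq_one_of_mul_eq_one_left (Nat.eq_of_mul_eq_mul_left hp.pos this).symm
  have : g ∈ Char.inertia M θ := by
    rw [Subgroup.index_eq_one.mp h1]; trivial
  exact this

/-- vanishing outside `K` -/
theorem vanish (hp : p.Prime) (hcd : ∀ χ : IrrCharacter G, deg χ = 1 ∨ deg χ = p)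
    (M : Subgroup G) [hM : M.Normal] [Fintype M]
    (χ : IrrCharacter G) (hχ : deg χ = p) (hirr : IsIrrCharacter M (fun n : M => (χ : G → ℂ) n))
    (x : G) (hx : x ∈ M) (g : G) (hg : g * x * g⁻¹ * x⁻¹ ∉ ⁅M, M⁆) : (χ : G → ℂ) x = 0 := by
  classical
  by_contra h0
  have hgx : g * x * g⁻¹ ∈ M := hM.conj_mem x hx g
  let y : M := ⟨g * x * g⁻¹, hgx⟩ * (⟨x, hx⟩ : M)⁻¹
  have hy : y ∉ commutator M := by
    intro h
    apply hg
    rw [← Subgroup.map_subtype_commutator]
    exact ⟨y, h, rfl⟩
  obtain ⟨μ, hμ, hμ1, hμy⟩ := exists_linear_ne hy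
  apply hμy
  have hirr2 := Glaub.isIrr_mul_linear hirr hμ hμ1
  have hd2 : (μ * fun n : M => (χ : G → ℂ) n) 1 = (p : ℂ) := by
    rw [Pi.mul_apply, hμ1, one_mul]
    show (χ : G → ℂ) 1 = p
    rw [deg_spec, hχ]
  have hinv := congrFun (invariant_of_deg_p p hp hcd M hirr2 hd2 g) ⟨x, hx⟩
  rw [Char.cj_apply, Pi.mul_apply, Pi.mul_apply] at hinv
  simp only at hinv
  have h1 : (χ : G → ℂ) (g * x * g⁻¹) = (χ : G → ℂ) x := irr_isClassFunction χ x g
  rw [h1] at hinv
  have h2 := mul_right_cancel₀ h0 hinv
  show μ (⟨g * x * g⁻¹, hgx⟩ * (⟨x, hx⟩ : M)⁻¹) = 1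
  rw [Char.linChar_mul hμ hμ1, Char.linChar_inv hμ hμ1, h2,
    mul_inv_cancel₀ (Char.linChar_ne_zero hμ hμ1 _)]

omit [Group G] in
theorem sum_subtype_eq [Group G] (N : Subgroup G) [Fintype N] [DecidablePred (· ∈ N)] (F : G → ℂ) :
    ∑ n : N, F n = ∑ g : G, if g ∈ N then F g else 0 := by
  rw [← Finset.sum_filter]
  exact (Finset.sum_subtype _ (by simp) _).symm

theorem mem_commutator_iff (M : Subgroup G) (y : G) :
    y ∈ ⁅M, M⁆ ↔ ∃ z ∈ commutator M, (z : G) = y := by
  rw [← Subgroup.map_subtype_commutator]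
  rfl

theorem K_data (hp : p.Prime) (hcd : ∀ χ : IrrCharacter G, deg χ = 1 ∨ deg χ = p)
    (M : Subgroup G) [hM : M.Normal] [Fintype M]
    (K : Subgroup G) [hKn : K.Normal] [Fintype K] (hKM : K ≤ M) (hKne : K ≠ M)
    (hK : ∀ x ∈ M, x ∉ K → ∃ g, g * x * g⁻¹ * x⁻¹ ∉ ⁅M, M⁆)
    (hK' : ∀ x ∈ K, ∀ g, g * x * g⁻¹ * x⁻¹ ∈ ⁅M, M⁆)
    {ν : K → ℂ} (hν : IsIrrCharacter K ν) (χ : IrrCharacter G)
    (hne : classInner (fun n : K => (χ : G → ℂ) n) ν ≠ 0) :
    ν 1 = 1 ∧ ((∀ y ∈ ⁅M, M⁆, (χ : G → ℂ) y = (χ : G → ℂ) 1) → (Char.inertia K ν).index = 1) ∧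
      ((¬ ∀ y ∈ ⁅M, M⁆, (χ : G → ℂ) y = (χ : G → ℂ) 1) →
        (K.relIndex M = p ^ 2 ∧ (Char.inertia K ν).index = 1) ∨
        (K.relIndex M = p ∧ (Char.inertia K ν).index = p)) := by
  classical
  obtain ⟨e, he, hd, hs⟩ := clifford_data K χ.2 hν hne (deg_spec χ) (deg_spec ⟨ν, hν⟩)
  set f := deg (⟨ν, hν⟩ : IrrCharacter K) with hf
  set t := (Char.inertia K ν).index with ht
  have hfpos : 0 < f := deg_pos _
  have htpos : 0 < t := Nat.pos_of_ne_zero Subgroup.index_ne_zero_of_finite
  have hdpos := deg_pos χ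
  have hν1 : ν 1 = (f : ℂ) := deg_spec (⟨ν, hν⟩ : IrrCharacter K)
  have hepos : 0 < e := by
    rcases Nat.eq_zero_or_pos e with h | h
    · rw [h, Nat.zero_mul] at hd; omega
    · exact h
  by_cases hty : ∀ y ∈ ⁅M, M⁆, (χ : G → ℂ) y = (χ : G → ℂ) 1
  · have h1 : ∀ x ∈ K, (χ : G → ℂ) x * conj ((χ : G → ℂ) x) = (χ : G → ℂ) 1 * (χ : G → ℂ) 1 := by
      intro x hx
      apply Coh.norm_sq_of_central_mod χ.2
      intro g
      rw [classFun_mul_comm (irr_isClassFunction χ)]
      exact hty _ (hK' x hx g)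
    have h2 : (∑ n : K, (χ : G → ℂ) n * conj ((χ : G → ℂ) n)) = ((Nat.card K * deg χ ^ 2 : ℕ) : ℂ) := by
      rw [Finset.sum_congr rfl fun (n : K) _ => h1 n n.2, Finset.sum_const, Finset.card_univ, deg_spec,
        ← Nat.card_eq_fintype_card]
      push_cast
      rw [nsmul_eq_mul]; ring
    rw [h2] at hs
    have h3 : Nat.card K * deg χ ^ 2 = Nat.card K * (e ^ 2 * t) := by exact_mod_cast hs
    have h4 := Nat.eq_of_mul_eq_mul_left Nat.card_pos h3
    have h5 : t * f ^ 2 = 1 := by
      rw [hd] at h4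
      have h6 : (e ^ 2 * t) * (t * f ^ 2) = (e ^ 2 * t) * 1 := by
        rw [mul_one]
        calc (e ^ 2 * t) * (t * f ^ 2) = (e * (t * f)) ^ 2 := by ring
          _ = e ^ 2 * t := h4
      exact Nat.eq_of_mul_eq_mul_left (by positivity) h6
    have ht1 : t = 1 := Nat.eq_one_of_mul_eq_one_right h5
    have hf1 : f = 1 := by
      have := Nat.eq_one_of_mul_eq_one_left h5
      exact Nat.pow_eq_one.mp this |>.resolve_right (by norm_num)
    refine ⟨by rw [hν1, hf1, Nat.cast_one], fun _ => ht1, fun h => absurd hty h⟩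
  · have hdχ : deg χ = p := by
      rcases hcd χ with h | h
      · exfalso
        apply hty
        have h1 : (χ : G → ℂ) 1 = 1 := by rw [deg_spec, h, Nat.cast_one]
        have h6 : ⁅M, M⁆ ≤ charKer (irr_isCharacter χ) := by
          rw [Subgroup.commutator_le]
          intro a _ b _
          rw [commutatorElement_def, mem_charKer, linear_commutator (irr_isCharacter χ) h1, h1]
        exact fun y hy => h6 hy
      · exact h
    have hirr : IsIrrCharacter M (fun n : M => (χ : G → ℂ) n) := by
      apply restrict_irreducible p hp M χ hdχ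
      push Not at hty
      obtain ⟨y, hy, hy2⟩ := hty
      rw [mem_commutator_iff] at hy
      obtain ⟨z, hz, rfl⟩ := hy
      exact ⟨z, hz, hy2⟩
    have hvan : ∀ x ∈ M, x ∉ K → (χ : G → ℂ) x = 0 := by
      intro x hx hxK
      obtain ⟨g, hg⟩ := hK x hx hxK
      exact vanish p hp hcd M χ hdχ hirr x hx g hg
    have hsM : (∑ n : M, (χ : G → ℂ) n * conj ((χ : G → ℂ) n)) = (Nat.card M : ℂ) := by
      rw [← card_mul_classInner_restrict, Char.classInner_self_of_irr hirr, mul_one]
    have hsK : (∑ n : K, (χ : G → ℂ) n * conj ((χ : G → ℂ) n)) =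
        ∑ n : M, (χ : G → ℂ) n * conj ((χ : G → ℂ) n) := by
      rw [sum_subtype_eq K (fun g => (χ : G → ℂ) g * conj ((χ : G → ℂ) g)),
        sum_subtype_eq M (fun g => (χ : G → ℂ) g * conj ((χ : G → ℂ) g))]
      refine Finset.sum_congr rfl fun g _ => ?_
      by_cases h1 : g ∈ K
      · rw [if_pos h1, if_pos (hKM h1)]
      · rw [if_neg h1]
        by_cases h2 : g ∈ M
        · rw [if_pos h2, hvan g h2 h1, zero_mul]
        · rw [if_neg h2]
    have hMK : Nat.card M = Nat.card K * K.relIndex M := by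
      have h1 := Subgroup.card_mul_index (K.subgroupOf M)
      rw [Nat.card_congr (Subgroup.subgroupOfEquivOfLe hKM).toEquiv] at h1
      exact h1.symm
    rw [hsK, hsM, hMK] at hs
    have h3 : Nat.card K * K.relIndex M = Nat.card K * (e ^ 2 * t) := by exact_mod_cast hs
    have h4 : K.relIndex M = e ^ 2 * t := Nat.eq_of_mul_eq_mul_left Nat.card_pos h3
    have h5 : K.relIndex M ≠ 1 := by
      rw [Ne, Subgroup.relIndex_eq_one]
      exact fun h => hKne (le_antisymm hKM h)
    rw [hdχ] at hd
    have hep : e ∣ p := Dvd.intro _ hd.symm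
    rcases (Nat.dvd_prime hp).mp hep with h6 | h6
    · rw [h6, one_mul] at hd
      rw [h6, one_pow, one_mul] at h4
      have htp : t ∣ p := Dvd.intro _ hd.symm
      rcases (Nat.dvd_prime hp).mp htp with h7 | h7
      · exact absurd (h4.trans h7) h5
      · have hf1 : f = 1 := by
          rw [h7] at hd
          exact (Nat.eq_of_mul_eq_mul_left hp.pos (by rw [mul_one]; exact hd)).symm
        refine ⟨by rw [hν1, hf1, Nat.cast_one], fun h => absurd h hty, fun _ => Or.inr ⟨?_, h7⟩⟩
        rw [h4, h7]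
    · rw [h6] at hd h4
      have h7 : t * f = 1 := (Nat.eq_of_mul_eq_mul_left hp.pos (by rw [mul_one]; exact hd)).symm
      have ht1 : t = 1 := Nat.eq_one_of_mul_eq_one_right h7
      have hf1 : f = 1 := Nat.eq_one_of_mul_eq_one_left h7
      refine ⟨by rw [hν1, hf1, Nat.cast_one], fun h => absurd h hty, fun _ => Or.inl ⟨?_, ht1⟩⟩
      rw [h4, ht1, mul_one]

theorem structure_nilpotent [Group.IsNilpotent G] (hp : p.Prime)
    (hcd : ∀ χ : IrrCharacter G, deg χ = 1 ∨ deg χ = p) (hm : ∃ χ : IrrCharacter G, deg χ = p) :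
    (∃ A : Subgroup G, A.Normal ∧ (∀ a ∈ A, ∀ b ∈ A, a * b = b * a) ∧ A.index = p) ∨
      (Subgroup.center G).index = p ^ 3 := by
  classical
  obtain ⟨χ0, hχ0⟩ := hm
  obtain ⟨M, lam, hχM⟩ := isMonomialChar_of_nilpotent χ0.2
  have hMi : M.index = p := by
    have h2 : (χ0 : G → ℂ) 1 = M.index := by
      rw [hχM, Char.indFun_one_apply]
      simp
    rw [deg_spec, hχ0] at h2
    exact_mod_cast h2.symm
  have hG'M : commutator G ≤ M := by
    rw [commutator_def, Subgroup.commutator_le]
    intro x _ y _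
    rw [commutatorElement_def]
    exact comm_mem_of_induced p hcd M hMi x y
  haveI hM : M.Normal := by
    constructor
    intro m hm g
    have h1 : g * m * g⁻¹ * m⁻¹ ∈ M := by
      apply hG'M
      rw [commutator_def]
      exact Subgroup.commutator_mem_commutator (Subgroup.mem_top g) (Subgroup.mem_top m)
    have h2 : g * m * g⁻¹ = (g * m * g⁻¹ * m⁻¹) * m := by group
    rw [h2]
    exact M.mul_mem h1 hm
  haveI := Fintype.ofFinite M
  set D : Subgroup G := ⁅M, M⁆ with hD
  haveI hDn : D.Normal := Subgroup.commutator_normal M M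
  have hDM : D ≤ M := Subgroup.commutator_le_left M M
  -- D is in the kernel of χ0
  have hDker : ∀ y ∈ D, (χ0 : G → ℂ) y = (χ0 : G → ℂ) 1 := by
    intro y hy
    rw [hχM, Char.indFun_apply', Char.indFun_apply']
    congr 1
    refine Finset.sum_congr rfl fun x _ => ?_
    have h1 : x * y * x⁻¹ ∈ D := hDn.conj_mem y hy x
    rw [hD, mem_commutator_iff] at h1
    obtain ⟨z, hz, hz2⟩ := h1
    have hz3 : lam z = 1 := by
      have : commutator M ≤ lam.ker := by
        exact Abelianization.commutator_subset_ker lam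
      exact this hz
    rw [← hz2, mul_one, mul_inv_cancel, Char.extendByZero_coe,
      Char.extendByZero_of_mem M _ M.one_mem]
    show ((lam z : ℂˣ) : ℂ) = ((lam 1 : ℂˣ) : ℂ)
    rw [hz3, map_one]
  have hGD : ¬ commutator G ≤ D := by
    intro h
    obtain ⟨y, hy, hy2⟩ := exists_commutator_ne χ0 (by rw [hχ0]; exact hp.one_lt.ne')
    exact hy2 (hDker y (h hy))
  -- K
  let K : Subgroup G := (Subgroup.center (G ⧸ D)).comap (QuotientGroup.mk' D) ⊓ M
  haveI hKn : K.Normal := inferInstance
  haveI := Fintype.ofFinite K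
  have hKM : K ≤ M := inf_le_right
  have hcomm_iff : ∀ x g : G, g * x * g⁻¹ * x⁻¹ ∈ D ↔ ((g : G ⧸ D) * x = x * g) := by
    intro x g
    rw [← QuotientGroup.eq_one_iff]
    simp only [QuotientGroup.mk_mul, QuotientGroup.mk_inv]
    rw [mul_inv_eq_one, mul_inv_eq_iff_eq_mul]
  have hKmem : ∀ x, x ∈ K ↔ x ∈ M ∧ ∀ g, g * x * g⁻¹ * x⁻¹ ∈ D := by
    intro x
    constructor
    · rintro ⟨h1, h2⟩
      refine ⟨h2, fun g => ?_⟩
      have h1' : (QuotientGroup.mk x : G ⧸ D) ∈ Subgroup.center (G ⧸ D) := h1
      rw [hcomm_iff]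
      exact Subgroup.mem_center_iff.mp h1' _
    · rintro ⟨h1, h2⟩
      refine ⟨?_, h1⟩
      show (QuotientGroup.mk x : G ⧸ D) ∈ Subgroup.center (G ⧸ D)
      rw [Subgroup.mem_center_iff]
      intro g
      obtain ⟨g, rfl⟩ := QuotientGroup.mk_surjective g
      rw [← hcomm_iff]
      exact h2 g
  haveI : Fact p.Prime := ⟨hp⟩
  have hcyc : IsCyclic (G ⧸ M) := isCyclic_of_prime_card (p := p) (by
    rw [← Subgroup.index_eq_card]; exact hMi)
  have hKne : K ≠ M := by
    intro hKM'
    apply hGD
    let q : G ⧸ D →* G ⧸ M := QuotientGroup.map D M (MonoidHom.id G) hDM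
    have hq : q.ker ≤ Subgroup.center (G ⧸ D) := by
      intro x hx
      obtain ⟨x, rfl⟩ := QuotientGroup.mk_surjective x
      have h1 : (QuotientGroup.mk x : G ⧸ M) = 1 := hx
      rw [QuotientGroup.eq_one_iff, ← hKM'] at h1
      exact h1.1
    rw [commutator_def, Subgroup.commutator_le]
    intro a _ b _
    rw [commutatorElement_def, hcomm_iff]
    exact (q.isMulCommutative_of_isCyclic_of_ker_le_center hq).is_comm.comm _ _
  have hK : ∀ x ∈ M, x ∉ K → ∃ g, g * x * g⁻¹ * x⁻¹ ∉ D := by
    intro x hx hxK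
    by_contra hcon
    push Not at hcon
    exact hxK ((hKmem x).mpr ⟨hx, hcon⟩)
  have hK' : ∀ x ∈ K, ∀ g, g * x * g⁻¹ * x⁻¹ ∈ D := fun x hx => ((hKmem x).mp hx).2
  -- the centre is in K
  have hZK : Subgroup.center G ≤ K := by
    intro z hz
    have hz' := Subgroup.mem_center_iff.mp hz
    rw [hKmem]
    have h1 : ∀ g, g * z * g⁻¹ * z⁻¹ ∈ D := by
      intro g
      rw [hz' g]; simp [D.one_mem]
    refine ⟨?_, h1⟩
    by_contra hzM
    apply hKne
    refine le_antisymm hKM fun m hm => ?_
    rw [hKmem]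
    refine ⟨hm, ?_⟩
    let S : Subgroup G := (Subgroup.centralizer ({(QuotientGroup.mk m : G ⧸ D)} : Set (G ⧸ D))).comap
      (QuotientGroup.mk' D)
    have hSmem : ∀ g, g ∈ S ↔ g * m * g⁻¹ * m⁻¹ ∈ D := by
      intro g
      rw [hcomm_iff]
      show (QuotientGroup.mk g : G ⧸ D) ∈ Subgroup.centralizer _ ↔ _
      rw [Subgroup.mem_centralizer_singleton_iff]
    have hMS : M ≤ S := by
      intro g hg
      rw [hSmem, ← commutatorElement_def]
      exact Subgroup.commutator_mem_commutator hg hm
    have hzS : z ∈ S := by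
      rw [hSmem, show z * m * z⁻¹ * m⁻¹ = 1 by rw [← hz' m]; group]
      exact D.one_mem
    have hStop : S = ⊤ := by
      have h2 := Subgroup.relIndex_mul_index hMS
      rw [hMi] at h2
      rcases (Nat.dvd_prime hp).mp (Dvd.intro _ h2) with h3 | h3
      · exfalso
        rw [Subgroup.relIndex_eq_one] at h3
        exact hzM (h3 hzS)
      · rw [h3] at h2
        rw [← Subgroup.index_eq_one]
        exact Nat.eq_of_mul_eq_mul_left hp.pos (by rw [h2, mul_one])
    intro g
    rw [← hSmem, hStop]
    trivial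
  -- trivial case
  by_cases hDb : D = ⊥
  · left
    refine ⟨M, hM, fun a ha b hb => ?_, hMi⟩
    have h1 : ⁅a, b⁆ ∈ D := Subgroup.commutator_mem_commutator ha hb
    rw [hDb, Subgroup.mem_bot, commutatorElement_eq_one_iff_mul_comm] at h1
    exact h1
  -- a character of type II
  obtain ⟨χ1, y1, hy1, hχ1⟩ : ∃ χ : IrrCharacter G, ∃ y ∈ D, (χ : G → ℂ) y ≠ (χ : G → ℂ) 1 := by
    by_contra hcon
    push Not at hcon
    apply hDb
    rw [Subgroup.eq_bot_iff_forall]
    intro y hy
    have := isConj_of_forall_char (fun χ => hcon χ y hy)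
    rwa [isConj_one_left] at this
  have hdata := fun {ν : K → ℂ} (hν : IsIrrCharacter K ν) (χ : IrrCharacter G)
    (hne : classInner (fun n : K => (χ : G → ℂ) n) ν ≠ 0) =>
      K_data p hp hcd M K hKM hKne hK hK' hν χ hne
  have hKab : ∀ a ∈ K, ∀ b ∈ K, a * b = b * a := by
    have hlin : ∀ β : IrrCharacter K, β.1 1 = 1 := by
      intro β
      obtain ⟨χ, hχ, hne⟩ := Char.exists_over K β.2
      exact (hdata β.2 ⟨χ, hχ⟩ hne).1
    intro a ha b hb
    exact congrArg Subtype.val (comm_of_forall_linear hlin ⟨a, ha⟩ ⟨b, hb⟩)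
  have hr : K.relIndex M = p ^ 2 ∨ K.relIndex M = p := by
    obtain ⟨ν, hν, hne⟩ := Char.exists_constituent_restrict K (irr_isCharacter χ1)
      (irr_one_ne_zero χ1.2)
    have := (hdata hν χ1 hne).2.2 (fun h => hχ1 (h y1 hy1))
    rcases this with h | h
    · exact Or.inl h.1
    · exact Or.inr h.1
  have hKi : K.index = K.relIndex M * p := by
    rw [← hMi]; exact (Subgroup.relIndex_mul_index hKM).symm
  by_cases hall : ∀ ν : K → ℂ, IsIrrCharacter K ν → (Char.inertia K ν).index = 1
  · -- K is central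
    have hKZ : K ≤ Subgroup.center G := by
      intro x hx
      rw [Subgroup.mem_center_iff]
      intro g
      have hgx : g * x * g⁻¹ ∈ K := hKn.conj_mem x hx g
      have h1 : IsConj (⟨g * x * g⁻¹, hgx⟩ : K) ⟨x, hx⟩ := by
        apply isConj_of_forall_char
        intro ν
        have h2 : g ∈ Char.inertia K (ν : K → ℂ) := by
          rw [Subgroup.index_eq_one.mp (hall ν ν.2)]; trivial
        exact congrFun h2 ⟨x, hx⟩
      rw [isConj_iff] at h1
      obtain ⟨c, hc⟩ := h1
      have h3 : (c : G) * (g * x * g⁻¹) * (c : G)⁻¹ = x := congrArg Subtype.val hc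
      rw [hKab c c.2 _ hgx, mul_inv_cancel_right] at h3
      rw [mul_inv_eq_iff_eq_mul] at h3
      exact h3
    have hKeq : K = Subgroup.center G := le_antisymm hKZ hZK
    rcases hr with h | h
    · right
      rw [← hKeq, hKi, h]; ring
    · -- relative index p: impossible (or abelian of index p)
      exfalso
      obtain ⟨ν, hν, hne⟩ := Char.exists_constituent_restrict K (irr_isCharacter χ1)
        (irr_one_ne_zero χ1.2)
      have := (hdata hν χ1 hne).2.2 (fun h => hχ1 (h y1 hy1))
      rcases this with h' | h'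
      · rw [h] at h'
        have h2 := h'.1
        have := hp.one_lt
        nlinarith
      · have := hall ν hν
        rw [h'.2] at this
        exact hp.one_lt.ne' this
  · -- there is a noninvariant character
    push Not at hall
    obtain ⟨ν1, hν1, hν1i⟩ := hall
    have hrp : K.relIndex M = p := by
      obtain ⟨χ, hχ, hne⟩ := Char.exists_over K hν1
      have h1 := hdata hν1 ⟨χ, hχ⟩ hne
      have h2 : ¬ ∀ y ∈ D, χ y = χ 1 := fun h => hν1i (h1.2.1 h)
      rcases h1.2.2 h2 with h | h
      · exact absurd h.2 hν1i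
      · exact h.1
    left
    have hKi2 : K.index = p ^ 2 := by rw [hKi, hrp]; ring
    have hH : Nat.card (G ⧸ K) = p ^ 2 := by rw [← hKi2, Subgroup.index_eq_card]
    -- the two values of the inertia index
    have hinert : ∀ f : Dual K, stab (quotAct K hKab) f ≠ ⊤ →
        (Char.inertia K (dfun K f)).index = p ∧
        ∃ χ : IrrCharacter G, classInner (fun n : K => (χ : G → ℂ) n) (dfun K f) ≠ 0 ∧
          ¬ ∀ y ∈ D, (χ : G → ℂ) y = (χ : G → ℂ) 1 := by
      intro f hf
      obtain ⟨χ, hχ, hne⟩ := Char.exists_over K (dfun_isIrr K f)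
      have h1 := hdata (dfun_isIrr K f) ⟨χ, hχ⟩ hne
      have h0 : (Char.inertia K (dfun K f)).index ≠ 1 := by
        rw [inertia_index K hKab, Ne, Subgroup.index_eq_one]; exact hf
      have h2 : ¬ ∀ y ∈ D, χ y = χ 1 := fun h => h0 (h1.2.1 h)
      refine ⟨?_, ⟨χ, hχ⟩, hne, h2⟩
      rcases h1.2.2 h2 with h | h
      · exact absurd h.2 h0
      · exact h.2
    have hcard : ∀ f : Dual K, stab (quotAct K hKab) f ≠ ⊤ →
        Nat.card (stab (quotAct K hKab) f) = p := by
      intro f hf
      have h1 := (hinert f hf).1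
      rw [inertia_index K hKab] at h1
      have h2 := Subgroup.card_mul_index (stab (quotAct K hKab) f)
      rw [h1, hH, pow_two] at h2
      exact Nat.eq_of_mul_eq_mul_right hp.pos h2
    let Mb : Subgroup (G ⧸ K) := M.map (QuotientGroup.mk' K)
    have hMbmem : ∀ g : G, (QuotientGroup.mk g : G ⧸ K) ∈ Mb ↔ g ∈ M := by
      intro g
      constructor
      · rintro ⟨m, hm, hmg⟩
        have h1 : (QuotientGroup.mk m : G ⧸ K) = QuotientGroup.mk g := hmg
        rw [QuotientGroup.eq] at h1
        have h2 := M.mul_mem hm (hKM h1)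
        rwa [mul_inv_cancel_left] at h2
      · intro hg
        exact ⟨g, hg, rfl⟩
    have hMb : Nat.card Mb = p := by
      have h1 : Mb.index = p := by
        have h2 : Mb.comap (QuotientGroup.mk' K) = M := by
          ext g
          exact hMbmem g
        rw [← Subgroup.index_comap_of_surjective _ (QuotientGroup.mk'_surjective K), h2, hMi]
      have h2 := Subgroup.card_mul_index Mb
      rw [h1, hH, pow_two] at h2
      exact Nat.eq_of_mul_eq_mul_right hp.pos h2
    haveI : Finite (Dual K) :=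
      Nat.finite_of_card_ne_zero (by rw [card_dual K hKab]; exact Nat.card_pos.ne')
    obtain ⟨h, hh1, hh2⟩ := action_count (quotAct K hKab) hp hH Mb hMb hcard (by
      intro m hm hm1 f hmf
      by_contra hs
      -- stab = Mb
      have hle : ∀ S : Subgroup (G ⧸ K), Nat.card S = p → m ∈ S → Subgroup.zpowers m = S := by
        intro S hS hmS
        apply Subgroup.eq_of_le_of_card_ge
        · rw [Subgroup.zpowers_le]; exact hmS
        · rw [hS]
          have h1 : Nat.card (Subgroup.zpowers m) ∣ p := by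
            rw [← hS]
            exact Subgroup.card_dvd_of_le (by rw [Subgroup.zpowers_le]; exact hmS)
          rcases (Nat.dvd_prime hp).mp h1 with h2 | h2
          · rw [Nat.card_zpowers, orderOf_eq_one_iff] at h2
            exact absurd h2 hm1
          · exact h2.ge
      have hst : stab (quotAct K hKab) f = Mb :=
        (hle _ (hcard f hs) hmf).symm.trans (hle _ hMb hm)
      obtain ⟨hTi, χ, hne, hχD⟩ := hinert f hs
      have hTM : Char.inertia K (dfun K f) = M := by
        ext g
        rw [mem_inertia_iff K hKab, hst, hMbmem]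
      haveI := Fintype.ofFinite (Char.inertia K (dfun K f))
      obtain ⟨ψ, hψ, hind, -⟩ := Char.clifford_correspondence K _ (dfun_isIrr K f) rfl
        (Char.le_inertia K (isClassFunction_of_isCharacter (dfun_isCharacter K f))) χ.2 hne
      haveI : (Char.inertia K (dfun K f)).Normal := by rw [hTM]; exact hM
      have hvan : ∀ g : G, g ∉ M → (χ : G → ℂ) g = 0 := by
        intro g hg
        rw [← hind]
        apply Char.indFun_normal_of_notMem
        rw [hTM]; exact hg
      have hdχ : deg χ = p := by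
        rcases hcd χ with h | h
        · exfalso
          apply hχD
          have h1 : (χ : G → ℂ) 1 = 1 := by rw [deg_spec, h, Nat.cast_one]
          have h6 : ⁅M, M⁆ ≤ charKer (irr_isCharacter χ) := by
            rw [Subgroup.commutator_le]
            intro a _ b _
            rw [commutatorElement_def, mem_charKer, linear_commutator (irr_isCharacter χ) h1, h1]
          exact fun y hy => h6 hy
        · exact h
      have hirr : IsIrrCharacter M (fun n : M => (χ : G → ℂ) n) := by
        apply restrict_irreducible p hp M χ hdχ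
        push Not at hχD
        obtain ⟨y, hy, hy2⟩ := hχD
        rw [hD, mem_commutator_iff] at hy
        obtain ⟨z, hz, rfl⟩ := hy
        exact ⟨z, hz, hy2⟩
      have hsM : (∑ n : M, (χ : G → ℂ) n * conj ((χ : G → ℂ) n)) = (Nat.card M : ℂ) := by
        rw [← card_mul_classInner_restrict, Char.classInner_self_of_irr hirr, mul_one]
      have hsG : (∑ g : G, (χ : G → ℂ) g * conj ((χ : G → ℂ) g)) = (Nat.card G : ℂ) := by
        have h1 := Char.classInner_self_of_irr χ.2
        unfold classInner at h1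
        have h0 : (Nat.card G : ℂ) ≠ 0 := by exact_mod_cast Nat.card_pos.ne'
        rw [inv_mul_eq_one₀ h0] at h1
        exact h1.symm
      have heq : (∑ g : G, (χ : G → ℂ) g * conj ((χ : G → ℂ) g)) =
          ∑ n : M, (χ : G → ℂ) n * conj ((χ : G → ℂ) n) := by
        rw [sum_subtype_eq M (fun g => (χ : G → ℂ) g * conj ((χ : G → ℂ) g))]
        refine Finset.sum_congr rfl fun g _ => ?_
        by_cases h2 : g ∈ M
        · rw [if_pos h2]
        · rw [if_neg h2, hvan g h2, zero_mul]
      rw [hsG, hsM] at heq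
      have h3 : Nat.card G = Nat.card M := by exact_mod_cast heq
      have h4 := Subgroup.card_mul_index M
      rw [hMi, h3] at h4
      have h5 : p = 1 := Nat.eq_of_mul_eq_mul_left (Nat.card_pos (α := M)) (by rw [h4, mul_one])
      exact hp.one_lt.ne' h5)
    -- an element of order p in the kernel
    have hkc : p ∣ Nat.card (quotAct K hKab).ker := by
      have h1 : Nat.card (quotAct K hKab).ker ∣ p ^ 2 := by
        rw [← hH]; exact Subgroup.card_subgroup_dvd_card _
      obtain ⟨j, -, hj⟩ := (Nat.dvd_prime_pow hp).mp h1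
      rw [hj]
      rcases Nat.eq_zero_or_pos j with h0 | h0
      · exfalso
        rw [h0, pow_zero, Subgroup.card_eq_one] at hj
        have : h ∈ (quotAct K hKab).ker := hh2
        rw [hj, Subgroup.mem_bot] at this
        exact hh1 this
      · exact dvd_pow_self p h0.ne'
    obtain ⟨x, hx⟩ := exists_prime_orderOf_dvd_card' p hkc
    have hxo : orderOf (x : G ⧸ K) = p := by rw [Subgroup.orderOf_coe]; exact hx
    haveI := IsPGroup.isMulCommutative_of_card_eq_prime_sq hH
    refine ⟨(Subgroup.zpowers (x : G ⧸ K)).comap (QuotientGroup.mk' K), ?_, ?_, ?_⟩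
    · haveI : (Subgroup.zpowers (x : G ⧸ K)).Normal := by
        constructor
        intro n hn g
        rw [mul_comm' g n, mul_inv_cancel_right]
        exact hn
      infer_instance
    · intro a ha b hb
      set A := (Subgroup.zpowers (x : G ⧸ K)).comap (QuotientGroup.mk' K) with hA
      let q : A →* Subgroup.zpowers (x : G ⧸ K) :=
        ((QuotientGroup.mk' K).comp A.subtype).codRestrict _ (fun a => a.2)
      have hq : q.ker ≤ Subgroup.center A := by
        intro y hy
        have hyK : (y : G) ∈ K := by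
          have : q y = 1 := hy
          have h1 : (QuotientGroup.mk (y : G) : G ⧸ K) = 1 := congrArg Subtype.val this
          exact (QuotientGroup.eq_one_iff _).mp h1
        rw [Subgroup.mem_center_iff]
        intro z
        apply Subtype.ext
        refine conj_of_dual K hKab (z : G) (fun f => ?_) y hyK
        have h1 : (QuotientGroup.mk (z : G) : G ⧸ K) ∈ (quotAct K hKab).ker := by
          have h2 : Subgroup.zpowers (x : G ⧸ K) ≤ (quotAct K hKab).ker := by
            rw [Subgroup.zpowers_le]; exact x.2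
          exact h2 z.2
        rw [← quotAct_mk K hKab, MonoidHom.mem_ker.mp h1]
        rfl
      have h1 := (q.isMulCommutative_of_isCyclic_of_ker_le_center hq).is_comm.comm ⟨a, ha⟩ ⟨b, hb⟩
      exact congrArg Subtype.val h1
    · rw [Subgroup.index_comap_of_surjective _ (QuotientGroup.mk'_surjective K)]
      have h2 := Subgroup.card_mul_index (Subgroup.zpowers (x : G ⧸ K))
      rw [Nat.card_zpowers, hxo, hH, pow_two] at h2
      exact Nat.eq_of_mul_eq_mul_left hp.pos h2

end Main

end Cfsg.Agent.H75.TwoDeg
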