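import Cfsg.Agent.H53.T3
import Cfsg.Agent.JY.S4781I

/-!
# Piece (S11b) of S4781 (owner: helper75)
-/

set_option autoImplicit false
set_option linter.style.haveILetI false
set_option linter.unusedSectionVars false

namespace Cfsg.Agent.H75.S4781S11b

open scoped ComplexConjugate BigOperators commutatorElement
open Cfsg Cfsg.Agent.CharBase Cfsg.Agent.Char Cfsg.Agent.H75 Cfsg.Agent.H53.D3

universe u

section abstract

variable {X : Type u} [Group X]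

/-- the commutator as an element of the derived subgroup -/
def cm (z h : X) : ↥(commutator X) :=
  ⟨z * h * z⁻¹ * h⁻¹, Subgroup.commutator_mem_commutator (Subgroup.mem_top z) (Subgroup.mem_top h)⟩

theorem cm_coe (z h : X) : (cm z h : X) = z * h * z⁻¹ * h⁻¹ := rfl

/-- `z ↦ μ [z,h]` -/
def fh (hcen : ∀ a ∈ commutator X, ∀ h : X, a * h = h * a) (μ : ↥(commutator X) →* ℂˣ) (h : X) :
    X →* ℂˣ where
  toFun z := μ (cm z h)
  map_one' := by
    have : cm (1 : X) h = 1 := Subtype.ext (by rw [cm_coe]; simp)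
    rw [this, map_one]
  map_mul' z w := by
    have h1 : cm (z * w) h = cm z h * cm w h := by
      apply Subtype.ext
      rw [Subgroup.coe_mul, cm_coe, cm_coe, cm_coe]
      have h2 := hcen _ (cm w h).2 z⁻¹
      rw [cm_coe] at h2
      calc z * w * h * (z * w)⁻¹ * h⁻¹ = z * ((w * h * w⁻¹ * h⁻¹) * (h * z⁻¹ * h⁻¹)) := by group
        _ = z * ((h * z⁻¹ * h⁻¹) * (w * h * w⁻¹ * h⁻¹)) := by
          have h3 := hcen _ (cm w h).2 (h * z⁻¹ * h⁻¹)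
          rw [cm_coe] at h3
          rw [h3]
        _ = _ := by group
    rw [h1, map_mul]

/-- uniqueness of fixed extensions -/
theorem ext_unique [Finite X] {Z : Subgroup X} (hMZ : commutator X ≤ Z) (a : X ≃* X)
    (hafp : ∀ h : X, a h * h⁻¹ ∈ commutator X → h ∈ commutator X)
    (haZ : ∀ z ∈ Z, a z ∈ Z) (ν ν' : Z →* ℂˣ)
    (hM : ∀ m : Z, (m : X) ∈ commutator X → ν m = ν' m)
    (h1 : ∀ z z' : Z, (z' : X) = a z → ν z' = ν z)
    (h2 : ∀ z z' : Z, (z' : X) = a z → ν' z' = ν' z) : ν = ν' := by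
  classical
  let N : Subgroup Z := (commutator X).subgroupOf Z
  let g : Z → Z := fun w => ⟨a w, haZ w w.2⟩ * w⁻¹
  have hg : ∀ w, (g w : X) = a w * (w : X)⁻¹ := fun w => rfl
  let f : Z ⧸ N → Z ⧸ N := fun q => QuotientGroup.mk (g q.out)
  have hab : ∀ y : X, y ∈ commutator X ↔ Abelianization.of y = 1 := by
    intro y
    rw [← MonoidHom.mem_ker, Abelianization.ker_of]
  have hinj : Function.Injective f := by
    intro q q' hqq
    have h3 : (QuotientGroup.mk (g q.out) : Z ⧸ N) = QuotientGroup.mk (g q'.out) := hqq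
    rw [QuotientGroup.eq, Subgroup.mem_subgroupOf, Subgroup.coe_mul, Subgroup.coe_inv, hg, hg,
      hab] at h3
    have h4 : ((q.out : X))⁻¹ * (q'.out : X) ∈ commutator X := by
      apply hafp
      rw [hab]
      rw [← h3]
      simp only [map_mul, map_inv, mul_inv_rev, inv_inv]
      rw [mul_comm (Abelianization.of (q'.out : X))⁻¹ (Abelianization.of (q.out : X))]
      rw [mul_comm (Abelianization.of (q.out : X)) ((Abelianization.of (a (q.out : X)))⁻¹)]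
      rw [mul_mul_mul_comm]
    rw [← q.out_eq', ← q'.out_eq']
    exact QuotientGroup.eq.mpr h4
  have hsurj := Finite.surjective_of_injective hinj
  ext z
  obtain ⟨q, hq⟩ := hsurj (QuotientGroup.mk z)
  have h3 : (QuotientGroup.mk (g q.out) : Z ⧸ N) = QuotientGroup.mk z := hq
  rw [QuotientGroup.eq, Subgroup.mem_subgroupOf] at h3
  have h4 := hM _ h3
  have h5 : ν (g q.out) = 1 := by
    show ν (⟨a q.out, haZ _ (q.out).2⟩ * (q.out)⁻¹) = 1
    rw [map_mul, map_inv, h1 q.out ⟨a q.out, haZ _ (q.out).2⟩ rfl, mul_inv_cancel]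
  have h6 : ν' (g q.out) = 1 := by
    show ν' (⟨a q.out, haZ _ (q.out).2⟩ * (q.out)⁻¹) = 1
    rw [map_mul, map_inv, h2 q.out ⟨a q.out, haZ _ (q.out).2⟩ rfl, mul_inv_cancel]
  rw [map_mul, map_mul, map_inv, map_inv, h5, h6, inv_one, one_mul, one_mul] at h4
  rw [h4]

theorem abs_lem [Finite X]
    (hcen : ∀ a ∈ commutator X, ∀ h : X, a * h = h * a)
    {x : X} (hx' : x ∉ commutator X) (μ : ↥(commutator X) →* ℂˣ) (hμ : μ ≠ 1)
    (hxμ : ∀ h : X, μ (cm x h) = 1)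
    (A : Set (X ≃* X)) (hAcomm : ∀ a ∈ A, ∀ b ∈ A, ∀ y, a (b y) = b (a y))
    (hAfp : ∀ a ∈ A, ∀ h : X, a h * h⁻¹ ∈ commutator X → h ∈ commutator X) :
    ∃ θ : IrrCharacter X, deg θ ≠ 1 ∧ ∀ a ∈ A, ¬ ∀ y, (θ : X → ℂ) (a y) = (θ : X → ℂ) y := by
  classical
  haveI := Fintype.ofFinite X
  let Z : Subgroup X := ⨅ h : X, (fh hcen μ h).ker
  haveI hZn : Z.Normal := Subgroup.normal_iInf_normal (fun h => inferInstance)
  haveI := Fintype.ofFinite Z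
  have memZ : ∀ z : X, z ∈ Z ↔ ∀ h, μ (cm z h) = 1 := by
    intro z
    show z ∈ ⨅ h : X, (fh hcen μ h).ker ↔ _
    rw [Subgroup.mem_iInf]
    exact Iff.rfl
  have hMZ : commutator X ≤ Z := by
    intro m hm
    rw [memZ]
    intro h
    have : cm m h = 1 := by
      apply Subtype.ext
      rw [cm_coe, hcen m hm h]
      show h * m * m⁻¹ * h⁻¹ = 1
      group
    rw [this, map_one]
  have hxZ : x ∈ Z := (memZ x).mpr hxμ
  have hZZ : ⁅Z, Z⁆ ≤ commutator X := Subgroup.commutator_mono le_top le_top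
  obtain ⟨ν₁, ν₂, hne, hν₁, hν₂⟩ := Cfsg.Agent.JY.S4781I.two_ext hMZ hZZ ⟨x, hxZ, hx'⟩
    (fun m hm z _ => (hcen m hm z).symm) μ (fun a ha b _ hm => (memZ a).mp ha b)
  -- automorphisms fixing μ preserve Z
  let FixM : (X ≃* X) → Prop := fun a => ∀ m m' : ↥(commutator X), (m' : X) = a m → μ m' = μ m
  have hpresM : ∀ (a : X ≃* X), ∀ m ∈ commutator X, a m ∈ commutator X := by
    intro a m hm
    have h1 : (commutator X).map (a : X →* X) = commutator X := by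
      rw [commutator_def, Subgroup.map_commutator]
      congr 1
      · exact Subgroup.map_top_of_surjective _ a.surjective
      · exact Subgroup.map_top_of_surjective _ a.surjective
    rw [← h1]
    exact ⟨m, hm, rfl⟩
  have hpresZ : ∀ a, FixM a → ∀ z ∈ Z, a z ∈ Z := by
    intro a ha z hz
    rw [memZ] at hz ⊢
    intro h
    have h1 := ha (cm z (a.symm h)) (cm (a z) h) (by
      rw [cm_coe, cm_coe, map_mul, map_mul, map_mul, map_inv, map_inv, a.apply_symm_apply])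
    rw [h1, hz]
  let FixZ : (X ≃* X) → (Z →* ℂˣ) → Prop := fun a ν => ∀ z z' : Z, (z' : X) = a z → ν z' = ν z
  have hclaim : ∃ ν : Z →* ℂˣ, (∀ m : ↥(commutator X), ν ⟨m, hMZ m.2⟩ = μ m) ∧
      ∀ a ∈ A, FixM a → ¬ FixZ a ν := by
    by_contra hcon
    push Not at hcon
    obtain ⟨b₁, hb₁, hM₁, hF₁⟩ := hcon ν₁ hν₁
    obtain ⟨b₂, hb₂, hM₂, hF₂⟩ := hcon ν₂ hν₂
    let ν₃ : Z →* ℂˣ :=
      { toFun := fun z => ν₁ ⟨b₂ z, hpresZ b₂ hM₂ z z.2⟩
        map_one' := by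
          have : (⟨b₂ ((1 : Z) : X), hpresZ b₂ hM₂ _ (1 : Z).2⟩ : Z) = 1 :=
            Subtype.ext (by simp)
          rw [this, map_one]
        map_mul' := fun z w => by
          rw [← map_mul]
          congr 1
          apply Subtype.ext
          show b₂ (((z * w : Z)) : X) = b₂ z * b₂ w
          rw [Subgroup.coe_mul, map_mul] }
    have hν₃ : ∀ z, ν₃ z = ν₁ ⟨b₂ z, hpresZ b₂ hM₂ z z.2⟩ := fun z => rfl
    have e1 : ν₃ = ν₁ := by
      apply ext_unique hMZ b₁ (hAfp b₁ hb₁) (hpresZ b₁ hM₁)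
      · intro m hm
        rw [hν₃]
        have h1 := hν₁ ⟨b₂ m, hpresM b₂ m hm⟩
        have h2 := hν₁ ⟨m, hm⟩
        have h3 := hM₂ ⟨m, hm⟩ ⟨b₂ m, hpresM b₂ m hm⟩ rfl
        rw [h1, h3, ← h2]
      · intro z z' hz
        rw [hν₃, hν₃]
        apply hF₁
        show b₂ z' = b₁ (b₂ z)
        rw [hz, hAcomm b₁ hb₁ b₂ hb₂]
      · exact hF₁
    have hF₃ : FixZ b₂ ν₁ := by
      intro z z' hz
      have h1 := DFunLike.congr_fun e1 z
      rw [hν₃] at h1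
      rw [← h1]
      congr 1
      exact Subtype.ext hz
    apply hne
    apply ext_unique hMZ b₂ (hAfp b₂ hb₂) (hpresZ b₂ hM₂) _ _ _ hF₃ hF₂
    intro m hm
    have h1 := hν₁ ⟨m, hm⟩
    have h2 := hν₂ ⟨m, hm⟩
    exact h1.trans h2.symm
  obtain ⟨ν, hν, hνA⟩ := hclaim
  -- ν is X-invariant
  have hinv : ∀ g : X, cj Z g (linIrr ν : Z → ℂ) = (linIrr ν : Z → ℂ) := by
    intro g
    funext z
    show (linIrr ν : Z → ℂ) ⟨g * z * g⁻¹, hZn.conj_mem z z.2 g⟩ = (linIrr ν : Z → ℂ) z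
    rw [linIrr_apply, linIrr_apply]
    congr 1
    have h1 : (⟨g * z * g⁻¹, hZn.conj_mem z z.2 g⟩ : Z) =
        (⟨(cm (z : X) g : X), hMZ (cm (z : X) g).2⟩ : Z)⁻¹ * z := by
      apply Subtype.ext
      rw [Subgroup.coe_mul, Subgroup.coe_inv]
      show g * z * g⁻¹ = (z * g * (z : X)⁻¹ * g⁻¹)⁻¹ * z
      group
    rw [h1, map_mul, map_inv, hν, (memZ z).mp z.2 g, inv_one, one_mul]
  obtain ⟨θ, hθ⟩ := exists_above Z (linIrr ν)
  have hres := restrict_eq_smul_of_invariant Z θ.2 (linIrr ν).2 ((over_iff Z _ _).mp hθ) hinv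
  have hval : ∀ z : Z, (θ : X → ℂ) z = (θ : X → ℂ) 1 * (ν z : ℂ) := by
    intro z
    have h1 := congrFun hres z
    have h2 := congrFun hres 1
    rw [Pi.smul_apply, smul_eq_mul, linIrr_apply] at h1 h2
    rw [map_one, Units.val_one, mul_one] at h2
    rw [← h2] at h1
    exact h1
  have hθ1 : (θ : X → ℂ) 1 ≠ 0 := irr_one_ne_zero θ.2
  refine ⟨θ, ?_, ?_⟩
  · intro hd
    obtain ⟨φ, hφ⟩ := linIrr_surj θ hd
    apply hμ
    ext m
    have h1 := hval ⟨m, hMZ m.2⟩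
    rw [hν, ← hφ, linIrr_apply, linIrr_apply, map_one, Units.val_one, one_mul] at h1
    have h2 : φ (m : X) = 1 := Abelianization.commutator_subset_ker φ m.2
    rw [← h1]
    show ((φ (m : X) : ℂˣ) : ℂ) = _
    rw [h2]
    rfl
  · intro a ha hfix
    have hfM : FixM a := by
      intro m m' hmm
      have h1 := hval ⟨m, hMZ m.2⟩
      have h2 := hval ⟨m', hMZ m'.2⟩
      have h3 := hfix m
      have h4 : (θ : X → ℂ) (m' : X) = (θ : X → ℂ) (m : X) := by rw [hmm, h3]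
      rw [hν] at h1 h2
      have h5 : (θ : X → ℂ) 1 * (μ m' : ℂ) = (θ : X → ℂ) 1 * (μ m : ℂ) := by
        rw [← h1, ← h2]; exact h4
      exact Units.ext (mul_left_cancel₀ hθ1 h5)
    apply hνA a ha hfM
    intro z z' hzz
    have h1 := hval z
    have h2 := hval z'
    have h4 : (θ : X → ℂ) (z' : X) = (θ : X → ℂ) (z : X) := by rw [hzz, hfix]
    have h5 : (θ : X → ℂ) 1 * (ν z' : ℂ) = (θ : X → ℂ) 1 * (ν z : ℂ) := by
      rw [← h1, ← h2]; exact h4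
    exact Units.ext (mul_left_cancel₀ hθ1 h5)

end abstract

end Cfsg.Agent.H75.S4781S11b

namespace Cfsg.Agent.H53.D3

open scoped ComplexConjugate BigOperators commutatorElement
open Cfsg Cfsg.Agent.CharBase Cfsg.Agent.Char Cfsg.Agent.H75

universe u

variable {G : Type u} [Group G] [Finite G] {K L Y C : Subgroup G} [hL : L.Normal] {p r k : ℕ}

/-- a nonlinear character of `L'` fixed by few elements of `L ⊓ Y` -/
theorem Core2.no_theta (c : Core2 G K L Y C p r k) (θ : IrrCharacter ↥⁅L, L⁆) (hθ : deg θ ≠ 1)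
    (hfix : ∀ b ∈ L ⊓ Y, b ∈ inertia ⁅L, L⁆ (θ : ↥⁅L, L⁆ → ℂ) → b ∈ C) : False := by
  classical
  have hHL : ⁅L, L⁆ ≤ L := Subgroup.commutator_le_left L L
  let N : Subgroup L := (⁅L, L⁆).subgroupOf L
  haveI : N.Normal := inferInstance
  let e : N ≃* ↥⁅L, L⁆ := Subgroup.subgroupOfEquivOfLe hHL
  have he : ∀ n : N, ((e n : ↥⁅L, L⁆) : G) = ((n : L) : G) := fun n => rfl
  let θ' : IrrCharacter N := ⟨(θ : ↥⁅L, L⁆ → ℂ) ∘ e,
    isIrrCharacter_comp_surjective θ.2 (e : N →* ↥⁅L, L⁆) e.surjective⟩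
  have hθ' : ∀ n : N, (θ' : N → ℂ) n = (θ : ↥⁅L, L⁆ → ℂ) (e n) := fun n => rfl
  have hdeg' : deg θ' = deg θ := by
    have h1 : ((deg θ' : ℕ) : ℂ) = ((deg θ : ℕ) : ℂ) := by
      rw [← deg_spec, ← deg_spec, hθ', map_one]
    exact_mod_cast h1
  obtain ⟨ψ, hψ⟩ := exists_above N θ'
  have hdvd := hψ.inertia_dvd
  rw [hdeg'] at hdvd
  have hle : inertia N (θ' : N → ℂ) ≤ (⁅L, L⁆ ⊔ C).subgroupOf L := by
    intro l hl
    have hl2 : (l : G) ∈ inertia ⁅L, L⁆ (θ : ↥⁅L, L⁆ → ℂ) := by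
      rw [mem_inertia_iff] at hl ⊢
      intro n
      have h1 := hl (e.symm n)
      rw [hθ', hθ'] at h1
      rw [e.apply_symm_apply] at h1
      rw [← h1]
      congr 1
    have hlL : (l : G) ∈ ⁅L, L⁆ ⊔ (L ⊓ Y) := by rw [c.h4]; exact l.2
    obtain ⟨v, hv, b, hb, hvb⟩ := Subgroup.mem_sup_of_normal_left.mp hlL
    rw [Subgroup.mem_subgroupOf, ← hvb]
    refine Subgroup.mul_mem_sup hv (hfix b hb ?_)
    have h2 := (inertia ⁅L, L⁆ (θ : ↥⁅L, L⁆ → ℂ)).mul_mem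
      ((inertia ⁅L, L⁆ (θ : ↥⁅L, L⁆ → ℂ)).inv_mem (le_inertia' ⁅L, L⁆ θ hv)) hl2
    rw [← hvb, inv_mul_cancel_left] at h2
    exact h2
  have hidx : (⁅L, L⁆ ⊔ C).relIndex L ∣ (inertia N (θ' : N → ℂ)).index :=
    Subgroup.index_dvd_of_le hle
  obtain ⟨ψ₀, hψ₀, hψ₀d⟩ := c.hdeg
  have h3 : deg ψ₀ * deg θ ∣ deg ψ := by
    rw [hψ₀d]
    exact (Nat.mul_dvd_mul_right hidx _).trans hdvd
  have h4 := c.hyp.anti ψ₀ ψ hψ₀ ((Dvd.intro _ rfl).trans h3)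
  rw [← h4] at h3
  apply hθ
  have h5 : 0 < deg ψ₀ := deg_pos ψ₀
  have h6 := Nat.le_of_dvd h5 h3
  have h7 := deg_pos θ
  nlinarith

theorem Core2.s11b (c : Core2 G K L Y C p r k)
    (hcen : ∀ a ∈ ⁅⁅L, L⁆, ⁅L, L⁆⁆, ∀ h ∈ ⁅L, L⁆, a * h = h * a) {x : G} (hx : x ∈ ⁅L, L⁆)
    (hx' : x ∉ ⁅⁅L, L⁆, ⁅L, L⁆⁆) (μ : ↥⁅⁅L, L⁆, ⁅L, L⁆⁆ →* ℂˣ) (hμ : μ ≠ 1)
    (hxμ : ∀ h ∈ ⁅L, L⁆, ∀ hm : x * h * x⁻¹ * h⁻¹ ∈ ⁅⁅L, L⁆, ⁅L, L⁆⁆,
      μ ⟨x * h * x⁻¹ * h⁻¹, hm⟩ = 1) : False := by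
  classical
  have hHn : (⁅L, L⁆).Normal := inferInstance
  have hcs : ∀ y : ↥⁅L, L⁆, y ∈ commutator ↥⁅L, L⁆ ↔ (y : G) ∈ ⁅⁅L, L⁆, ⁅L, L⁆⁆ := by
    intro y
    rw [← comm_subgroupOf, Subgroup.mem_subgroupOf]
  let ι : ↥(commutator ↥⁅L, L⁆) →* ↥⁅⁅L, L⁆, ⁅L, L⁆⁆ :=
    { toFun := fun m => ⟨((m : ↥⁅L, L⁆) : G), (hcs m).mp m.2⟩
      map_one' := rfl
      map_mul' := fun _ _ => rfl }
  have hιs : Function.Surjective ι := by
    intro m
    exact ⟨⟨⟨m, Subgroup.commutator_le_left _ _ m.2⟩, (hcs _).mpr m.2⟩, rfl⟩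
  let A : Set (↥⁅L, L⁆ ≃* ↥⁅L, L⁆) := {a | ∃ b ∈ L ⊓ Y, b ∉ C ∧ a = cjEquiv ⁅L, L⁆ b}
  obtain ⟨θ, hθ, hA⟩ := Cfsg.Agent.H75.S4781S11b.abs_lem (X := ↥⁅L, L⁆)
    (fun a ha h => Subtype.ext (hcen a ((hcs a).mp ha) h h.2))
    (x := ⟨x, hx⟩) (fun h => hx' ((hcs _).mp h)) (μ.comp ι)
    (by
      intro h
      apply hμ
      ext m
      obtain ⟨m', rfl⟩ := hιs m
      exact congrArg Units.val (DFunLike.congr_fun h m'))
    (by
      intro h
      exact hxμ h h.2 _)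
    A
    (by
      rintro a ⟨b, hb, -, rfl⟩ a' ⟨b', hb', -, rfl⟩ y
      apply Subtype.ext
      show b * (b' * (y : G) * b'⁻¹) * b⁻¹ = b' * (b * (y : G) * b⁻¹) * b'⁻¹
      have h1 := c.hB b hb b' hb'
      calc b * (b' * (y : G) * b'⁻¹) * b⁻¹ = (b * b') * y * (b * b')⁻¹ := by group
        _ = (b' * b) * y * (b' * b)⁻¹ := by rw [h1]
        _ = _ := by group)
    (by
      rintro a ⟨b, hb, hbC, rfl⟩ h hh
      rw [hcs] at hh ⊢
      exact c.fpV hb hbC h.2 hh)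
  refine c.no_theta θ hθ ?_
  intro b hb hbi
  by_contra hbC
  apply hA (cjEquiv ⁅L, L⁆ b) ⟨b, hb, hbC, rfl⟩
  rw [mem_inertia_iff] at hbi
  exact hbi

end Cfsg.Agent.H53.D3
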