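import Cfsg.Agent.BlkInd.CoverD
import Cfsg.Agent.H4.BlkQuot
import Cfsg.Agent.H75.BlkGal
import Cfsg.Agent.H75.Inflate
import Cfsg.Agent.Blk.Orth2

/-!
# Sums over the principal block: rationality and inflation (owner: helper75)
-/

set_option autoImplicit false
set_option linter.style.haveILetI false
set_option linter.unusedSectionVars false

namespace Cfsg.Agent.H75

open scoped ComplexConjugate
open Cfsg Cfsg.Agent.CharBase Cfsg.Agent.Blk

universe u

variable {G : Type u} [Group G] [Finite G]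

open Classical in
theorem finsum_mem_ite {X : Type*} {A : Type*} [AddCommMonoid A] [Fintype X] (B : Set X) (f : X → A) :
    ∑ᶠ χ ∈ B, f χ = ∑ χ : X, if χ ∈ B then f χ else 0 := by
  rw [finsum_mem_def, finsum_eq_sum_of_fintype]
  refine Finset.sum_congr rfl fun χ _ => ?_
  rw [Set.indicator_apply]

/-- the Galois conjugate `g ↦ χ (g ^ k)` -/
noncomputable def tauIrr {k : ℕ} (hk : k.Coprime (Nat.card G)) (χ : IrrCharacter G) : IrrCharacter G :=
  ⟨tau k (χ : G → ℂ), tau_irr hk χ.2⟩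

theorem tauIrr_injective {k : ℕ} (hk : k.Coprime (Nat.card G)) :
    Function.Injective (tauIrr hk) := by
  intro χ ψ h
  apply Subtype.ext
  funext g
  obtain ⟨x, rfl⟩ := (tau_bijective (H := G) hk).2 g
  exact congrFun (congrArg Subtype.val h) x

theorem tauIrr_mem_principal {k : ℕ} (hk : k.Coprime (Nat.card G)) {M : Ideal AlgInt}
    {χ : IrrCharacter G} (h : χ ∈ principalBlock M G) : tauIrr hk χ ∈ principalBlock M G := by
  haveI := Fintype.ofFinite G
  have h1 : SameBlock M (fun _ : G => (1 : ℂ)) (χ : G → ℂ) := h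
  exact sameBlock_tau hk h1

theorem tauIrr_bijOn {k : ℕ} (hk : k.Coprime (Nat.card G)) (M : Ideal AlgInt) :
    Set.BijOn (tauIrr hk) (principalBlock M G) (principalBlock M G) :=
  ((Set.toFinite _).injOn_iff_bijOn_of_mapsTo (fun _ h => tauIrr_mem_principal hk h)).mp
    ((tauIrr_injective hk).injOn)

/-- `∑_{χ ∈ B₀} |χ(x)|²` is a positive integer. -/
theorem principal_normSq_nat (M : Ideal AlgInt) (hone : oneIrr G ∈ principalBlock M G) (x : G) :
    ∃ n : ℕ, 0 < n ∧ ∑ᶠ χ ∈ principalBlock M G, Complex.normSq ((χ : G → ℂ) x) = n := by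
  classical
  haveI := Fintype.ofFinite (IrrCharacter G)
  have hn0 : Nat.card G ≠ 0 := Nat.card_pos.ne'
  set z : ℂ := ∑ᶠ χ ∈ principalBlock M G, (χ : G → ℂ) x * (χ : G → ℂ) x⁻¹ with hz
  have hz' : z = ∑ χ : IrrCharacter G, if χ ∈ principalBlock M G then (χ : G → ℂ) x * (χ : G → ℂ) x⁻¹ else 0 := by
    rw [hz, finsum_mem_ite]
  have hcl : z ∈ Subring.closure {ζ : ℂ | ζ ^ Nat.card G = 1} := by
    rw [hz']
    refine Subring.sum_mem _ fun χ _ => ?_
    split_ifs
    · exact Subring.mul_mem _ (Char.char_mem_closure (irr_isCharacter χ) x dvd_rfl)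
        (Char.char_mem_closure (irr_isCharacter χ) x⁻¹ dvd_rfl)
    · exact Subring.zero_mem _
  obtain ⟨m, hm⟩ := Char.exists_int_of_fixed hn0 z hcl (by
    intro k σ hk hσ
    have h1 : σ z = ∑ᶠ χ ∈ principalBlock M G, (tauIrr hk χ : G → ℂ) x * (tauIrr hk χ : G → ℂ) x⁻¹ := by
      rw [hz', map_sum, finsum_mem_ite]
      refine Finset.sum_congr rfl fun χ _ => ?_
      split_ifs
      · rw [map_mul, Char.map_char_eq (irr_isCharacter χ) x (orderOf_dvd_natCard x) σ hσ,
          Char.map_char_eq (irr_isCharacter χ) x⁻¹ (orderOf_dvd_natCard _) σ hσ]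
        rfl
      · rw [map_zero]
    rw [h1, hz]
    exact finsum_mem_eq_of_bijOn (tauIrr hk) (tauIrr_bijOn hk M) (fun χ _ => rfl))
  have h2 : ((∑ᶠ χ ∈ principalBlock M G, Complex.normSq ((χ : G → ℂ) x) : ℝ) : ℂ) = z := by
    rw [hz', finsum_mem_ite]
    push_cast
    refine Finset.sum_congr rfl fun χ _ => ?_
    split_ifs
    · rw [irr_inv χ x, Complex.mul_conj]
    · simp
  have h3 : (∑ᶠ χ ∈ principalBlock M G, Complex.normSq ((χ : G → ℂ) x)) = (m : ℝ) := by
    have : ((∑ᶠ χ ∈ principalBlock M G, Complex.normSq ((χ : G → ℂ) x) : ℝ) : ℂ) = ((m : ℝ) : ℂ) := by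
      rw [h2, hm]; simp
    exact_mod_cast this
  have h4 : (1 : ℝ) ≤ ∑ᶠ χ ∈ principalBlock M G, Complex.normSq ((χ : G → ℂ) x) := by
    rw [finsum_mem_ite]
    have h5 : (if oneIrr G ∈ principalBlock M G then Complex.normSq ((oneIrr G : G → ℂ) x) else 0) = 1 := by
      rw [if_pos hone]; simp
    rw [← h5]
    refine Finset.single_le_sum (f := fun χ : IrrCharacter G => if χ ∈ principalBlock M G then
      Complex.normSq ((χ : G → ℂ) x) else 0) (fun χ _ => ?_) (Finset.mem_univ _)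
    split_ifs
    · exact Complex.normSq_nonneg _
    · exact le_rfl
  have h5 : 0 < m := by
    have : (1 : ℝ) ≤ (m : ℝ) := by rw [← h3]; exact h4
    have : (1 : ℤ) ≤ m := by exact_mod_cast this
    omega
  refine ⟨m.toNat, by omega, ?_⟩
  rw [h3]
  have : ((m.toNat : ℕ) : ℤ) = m := Int.toNat_of_nonneg h5.le
  exact_mod_cast this.symm

/-- inflation of irreducible characters -/
noncomputable def inflIrr (N : Subgroup G) [N.Normal] (χ : IrrCharacter (G ⧸ N)) : IrrCharacter G :=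
  ⟨fun g => (χ : G ⧸ N → ℂ) (QuotientGroup.mk g), isIrrCharacter_inflate N χ.2⟩

theorem inflIrr_injective (N : Subgroup G) [N.Normal] : Function.Injective (inflIrr N) := by
  intro χ ψ h
  apply Subtype.ext
  funext g
  obtain ⟨x, rfl⟩ := QuotientGroup.mk_surjective g
  exact congrFun (congrArg Subtype.val h) x

/-- inflation over a normal `p'`-subgroup identifies the principal blocks -/
theorem inflIrr_bijOn {p : ℕ} [Fact p.Prime] {M : Ideal AlgInt} (hM : IsPModular p M) (N : Subgroup G) [N.Normal]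
    (hN : ¬ p ∣ Nat.card N) :
    Set.BijOn (inflIrr N) (principalBlock M (G ⧸ N)) (principalBlock M G) := by
  classical
  haveI := Fintype.ofFinite G
  haveI : M.IsPrime := hM.2.1.isPrime
  refine ⟨fun χ h => ?_, (inflIrr_injective N).injOn, fun ψ hψ => ?_⟩
  · have h1 : SameBlock M (fun _ : G ⧸ N => (1 : ℂ)) (χ : G ⧸ N → ℂ) := h
    exact H4.sameBlock_inflate hM N h1
  · have hψ' : SameBlock M (oneIrr G : G → ℂ) (ψ : G → ℂ) := hψ
    have hker := BlkInd.sameBlock_inflate_ker N hM hN (χ := oneIrr G) (ψ := ψ)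
      (fun n hn => rfl) hψ'
    obtain ⟨ψ', h1, h2⟩ := exists_deflate_irr N ψ.2 hker
    refine ⟨⟨ψ', h1⟩, ?_, Subtype.ext (funext h2)⟩
    have h3 : SameBlock M (oneIrr (G ⧸ N) : G ⧸ N → ℂ) ψ' := by
      refine BlkInd.sameBlock_of_inflate N hM hN (oneIrr (G ⧸ N)) ⟨ψ', h1⟩ ?_
      have h4 : (fun g : G => ψ' (QuotientGroup.mk g)) = (ψ : G → ℂ) := funext h2
      change SameBlock M (fun g : G => (1 : ℂ)) (fun g : G => ψ' (QuotientGroup.mk g))
      rw [h4]
      exact hψ'
    exact h3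

end Cfsg.Agent.H75
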