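import Cfsg.Agent.H75.Zeros
import Cfsg.Agent.H75.Tools
import Cfsg.Agent.H75.Ito
import Cfsg.Agent.Char.ModP
import Cfsg.Agent.Glaub.PGroup
import Cfsg.Agent.S0154
import Cfsg.Agent.Hall.Hall

/-!
# The alternating group `A₅` has an irreducible character of degree divisible by `5`
(owner: helper75)
-/

set_option autoImplicit false
set_option linter.style.haveILetI false

namespace Cfsg.Agent.H75

open scoped ComplexConjugate commutatorElement
open Cfsg Cfsg.Agent.CharBase Cfsg.Agent.Blk

universe u

/-- characters of degree prime to `p` do not vanish on `p`-elements -/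
theorem ne_zero_of_ppow {G : Type u} [Group G] [Finite G] {p : ℕ} (hp : p.Prime) (χ : IrrCharacter G)
    (hd : ¬ p ∣ deg χ) {g : G} {k : ℕ} (hg : orderOf g = p ^ k) : (χ : G → ℂ) g ≠ 0 := by
  obtain ⟨M, hM⟩ := Glaub.exists_isPModular hp
  haveI := isPrime_of_isPModular hM
  intro h0
  have h1 : IsPPart p g g := ⟨1, mul_one g, Commute.one_right g, ⟨k, hg⟩, by
    rw [orderOf_one]; exact hp.one_lt.ne' ∘ Nat.dvd_one.1⟩
  have h2 := Char.MP.rd_char_ppart hM (irr_isCharacter χ) h1
  rw [inv_mul_cancel, h0, deg_spec, rd_natCast, rd_zero] at h2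
  haveI := charP_kM hM
  exact hd ((CharP.cast_eq_zero_iff (kM M) p _).mp h2.symm)

theorem card_irr_le_of_nonvanish {G : Type u} [Group G] [Finite G] (S : Finset G) (hS0 : S.Nonempty)
    (hS : ∀ k : ℕ, k.Coprime (Nat.card G) → ∀ g ∈ S, g ^ k ∈ S) (c : ℕ)
    (hc : ∀ g ∈ S, Nat.card (Subgroup.centralizer ({g} : Set G)) ≤ c)
    (h0 : ∀ χ : IrrCharacter G, ∀ g ∈ S, (χ : G → ℂ) g ≠ 0) : Nat.card (IrrCharacter G) ≤ c := by
  classical
  haveI := Fintype.ofFinite (IrrCharacter G)
  have h1 : ∀ χ : IrrCharacter G, (S.card : ℝ) ≤ ∑ g ∈ S, Complex.normSq ((χ : G → ℂ) g) := fun χ =>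
    card_le_sum_normSq (irr_isCharacter χ) S hS (h0 χ)
  have h2 : ∀ g : G, ∑ χ : IrrCharacter G, Complex.normSq ((χ : G → ℂ) g) =
      (Nat.card (Subgroup.centralizer ({g} : Set G)) : ℝ) := by
    intro g
    have h3 := column_orthogonality_of_isConj (IsConj.refl g)
    have : (((∑ χ : IrrCharacter G, Complex.normSq ((χ : G → ℂ) g) : ℝ)) : ℂ) =
        (((Nat.card (Subgroup.centralizer ({g} : Set G)) : ℝ)) : ℂ) := by
      push_cast
      rw [← h3]
      exact Finset.sum_congr rfl fun χ _ => (Complex.mul_conj _).symm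
    exact_mod_cast this
  have h3 : (Nat.card (IrrCharacter G) : ℝ) * S.card ≤ c * S.card := by
    calc (Nat.card (IrrCharacter G) : ℝ) * S.card = ∑ χ : IrrCharacter G, (S.card : ℝ) := by
          rw [Finset.sum_const, Finset.card_univ, nsmul_eq_mul, Nat.card_eq_fintype_card]
      _ ≤ ∑ χ : IrrCharacter G, ∑ g ∈ S, Complex.normSq ((χ : G → ℂ) g) :=
          Finset.sum_le_sum fun χ _ => h1 χ
      _ = ∑ g ∈ S, (Nat.card (Subgroup.centralizer ({g} : Set G)) : ℝ) := by
          rw [Finset.sum_comm]; exact Finset.sum_congr rfl fun g _ => h2 g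
      _ ≤ ∑ g ∈ S, (c : ℝ) := Finset.sum_le_sum fun g hg => by exact_mod_cast hc g hg
      _ = c * S.card := by rw [Finset.sum_const, nsmul_eq_mul, mul_comm]
  have h4 : (0 : ℝ) < S.card := by exact_mod_cast Finset.card_pos.mpr hS0
  have h5 := le_of_mul_le_mul_right h3 h4
  exact_mod_cast h5

theorem card_A5 : Nat.card (alternatingGroup (Fin 5)) = 60 := by
  rw [nat_card_alternatingGroup]
  simp [Nat.factorial]

theorem centralizer_A5 (g : alternatingGroup (Fin 5)) (hg : orderOf g = 5) :
    Nat.card (Subgroup.centralizer ({g} : Set (alternatingGroup (Fin 5)))) ≤ 5 := by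
  have h1 : orderOf (g : Equiv.Perm (Fin 5)) = 5 := by rw [Subgroup.orderOf_coe, hg]
  have hcyc : (g : Equiv.Perm (Fin 5)).IsCycle :=
    Equiv.Perm.isCycle_of_prime_order'' (by simp; norm_num) (by simp [h1])
  have h2 : (g : Equiv.Perm (Fin 5)).cycleType = {5} := by
    rw [hcyc.cycleType, ← hcyc.orderOf, h1]
  have h3 : Nat.card (Subgroup.centralizer ({(g : Equiv.Perm (Fin 5))} : Set (Equiv.Perm (Fin 5)))) = 5 := by
    rw [Equiv.Perm.nat_card_centralizer, h2]
    simp
  refine le_trans ?_ h3.le
  let f : Subgroup.centralizer ({g} : Set (alternatingGroup (Fin 5))) →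
      Subgroup.centralizer ({(g : Equiv.Perm (Fin 5))} : Set (Equiv.Perm (Fin 5))) := fun x =>
    ⟨(x : alternatingGroup (Fin 5)), by
      have := x.2
      rw [Subgroup.mem_centralizer_singleton_iff] at this ⊢
      exact congrArg Subtype.val this⟩
  refine Nat.card_le_card_of_injective f ?_
  intro x y hxy
  apply Subtype.ext
  apply Subtype.ext
  exact congrArg (fun z => z.1) hxy

theorem A5_noncomm : ∃ a b : alternatingGroup (Fin 5), a * b ≠ b * a := by
  refine ⟨⟨c[0, 1, 2], by rw [Equiv.Perm.mem_alternatingGroup]; decide⟩,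
    ⟨c[0, 1, 3], by rw [Equiv.Perm.mem_alternatingGroup]; decide⟩, fun h => ?_⟩
  have h3 := congrArg (fun g : alternatingGroup (Fin 5) => (g : Equiv.Perm (Fin 5)) 0) h
  revert h3
  decide

theorem five_dvd_A5 : ∃ χ : IrrCharacter (alternatingGroup (Fin 5)), 5 ∣ deg χ := by
  classical
  by_contra hcon
  push Not at hcon
  set G := alternatingGroup (Fin 5) with hG
  haveI : Fact (Nat.Prime 5) := ⟨by norm_num⟩
  haveI := Fintype.ofFinite (IrrCharacter G)
  have hk : Nat.card (IrrCharacter G) ≤ 5 := by
    refine card_irr_le_of_nonvanish (Finset.univ.filter (fun g : G => orderOf g = 5)) ?_ ?_ 5 ?_ ?_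
    · obtain ⟨g, hg⟩ := exists_prime_orderOf_dvd_card' (G := G) 5 (by rw [card_A5]; norm_num)
      exact ⟨g, by simp [hg]⟩
    · intro k hk g hg
      rw [Finset.mem_filter] at hg ⊢
      refine ⟨Finset.mem_univ _, ?_⟩
      rw [Nat.Coprime.orderOf_pow, hg.2]
      exact (hk.coprime_dvd_right (orderOf_dvd_natCard g)).symm
    · intro g hg
      exact centralizer_A5 g (Finset.mem_filter.mp hg).2
    · intro χ g hg
      exact ne_zero_of_ppow (by norm_num) χ (hcon χ) (k := 1) (by rw [pow_one]; exact (Finset.mem_filter.mp hg).2)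
  have hlin : Nat.card {χ : IrrCharacter G // (χ : G → ℂ) 1 = 1} = 1 := by
    rw [S0154.result, Subgroup.index_eq_one]
    have h1 := (inferInstance : (commutator G).Normal).eq_bot_or_eq_top
    rcases h1 with h1 | h1
    · exfalso
      obtain ⟨a, b, hab⟩ := A5_noncomm
      have h2 : ⁅a, b⁆ ∈ commutator G :=
        Subgroup.commutator_mem_commutator (Subgroup.mem_top a) (Subgroup.mem_top b)
      rw [h1, Subgroup.mem_bot, commutatorElement_eq_one_iff_mul_comm] at h2
      exact hab h2
    · exact h1
  have hsq := sum_deg_sq (G := G)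
  rw [card_A5] at hsq
  have hdeg : ∀ χ : IrrCharacter G, deg χ = 1 ∨ deg χ = 2 ∨ deg χ = 3 ∨ deg χ = 4 ∨ deg χ = 6 := by
    intro χ
    have h1 := deg_dvd χ
    rw [card_A5] at h1
    have h2 : deg χ ^ 2 ≤ 60 := by
      rw [← hsq]
      exact Finset.single_le_sum (f := fun χ : IrrCharacter G => deg χ ^ 2) (fun _ _ => Nat.zero_le _)
        (Finset.mem_univ χ)
    have h3 : deg χ ≤ 7 := by nlinarith
    have h4 := hcon χ
    have h5 := deg_pos χ
    interval_cases h : deg χ <;> simp_all
  have hc : ∀ n, (Finset.univ.filter (fun χ : IrrCharacter G => deg χ = n)).card =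
      ∑ χ : IrrCharacter G, if deg χ = n then 1 else 0 := fun n => Finset.card_filter _ _
  have hk' : (Finset.univ : Finset (IrrCharacter G)).card ≤ 5 := by
    rw [Finset.card_univ, ← Nat.card_eq_fintype_card]; exact hk
  have e1 : (Finset.univ : Finset (IrrCharacter G)).card =
      (Finset.univ.filter (fun χ : IrrCharacter G => deg χ = 1)).card +
      (Finset.univ.filter (fun χ : IrrCharacter G => deg χ = 2)).card +
      (Finset.univ.filter (fun χ : IrrCharacter G => deg χ = 3)).card +
      (Finset.univ.filter (fun χ : IrrCharacter G => deg χ = 4)).card +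
      (Finset.univ.filter (fun χ : IrrCharacter G => deg χ = 6)).card := by
    rw [hc, hc, hc, hc, hc, Finset.card_eq_sum_ones, ← Finset.sum_add_distrib, ← Finset.sum_add_distrib,
      ← Finset.sum_add_distrib, ← Finset.sum_add_distrib]
    refine Finset.sum_congr rfl fun χ _ => ?_
    rcases hdeg χ with h | h | h | h | h <;> rw [h] <;> simp
  have e2 : 60 =
      (Finset.univ.filter (fun χ : IrrCharacter G => deg χ = 1)).card +
      4 * (Finset.univ.filter (fun χ : IrrCharacter G => deg χ = 2)).card +
      9 * (Finset.univ.filter (fun χ : IrrCharacter G => deg χ = 3)).card +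
      16 * (Finset.univ.filter (fun χ : IrrCharacter G => deg χ = 4)).card +
      36 * (Finset.univ.filter (fun χ : IrrCharacter G => deg χ = 6)).card := by
    rw [hc, hc, hc, hc, hc, ← hsq, Finset.mul_sum, Finset.mul_sum, Finset.mul_sum, Finset.mul_sum,
      ← Finset.sum_add_distrib, ← Finset.sum_add_distrib, ← Finset.sum_add_distrib,
      ← Finset.sum_add_distrib]
    refine Finset.sum_congr rfl fun χ _ => ?_
    rcases hdeg χ with h | h | h | h | h <;> rw [h] <;> simp
  have e3 : (Finset.univ.filter (fun χ : IrrCharacter G => deg χ = 1)).card = 1 := by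
    rw [Nat.card_eq_fintype_card, Fintype.card_subtype] at hlin
    refine Eq.trans ?_ hlin
    congr 1
    ext χ
    simp only [Finset.mem_filter, Finset.mem_univ, true_and]
    rw [deg_spec]
    constructor
    · intro h; rw [h]; simp
    · intro h; exact_mod_cast h
  rw [e1, e3] at hk'
  rw [e3] at e2
  omega

/-- a group of order `60` with an irreducible character of degree divisible by `5` is not solvable -/
theorem not_solvable_of_five {G : Type u} [Group G] [Finite G] (hG : Nat.card G = 60)
    (χ : IrrCharacter G) (hχ : 5 ∣ deg χ) : ¬ Group.IsSolvable G := by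
  classical
  intro hs
  haveI := hs
  haveI : Fact (Nat.Prime 5) := ⟨by norm_num⟩
  obtain ⟨H, hH⟩ := Hall.hall_exists (G := G) 15 4 (by rw [hG]) (by norm_num)
  have hHi : H.index = 4 := by
    have := H.card_mul_index
    rw [hH, hG] at this
    omega
  set K := H.normalCore with hK
  have hKH : K ≤ H := H.normalCore_le
  have hKi : K.index ∣ 24 := by
    rw [hK, Subgroup.normalCore_eq_ker, Subgroup.index_ker]
    have h1 : Nat.card (MulAction.toPermHom G (G ⧸ H)).range ∣ Nat.card (Equiv.Perm (G ⧸ H)) :=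
      Subgroup.card_subgroup_dvd_card _
    rw [Nat.card_perm, ← Subgroup.index_eq_card, hHi] at h1
    exact h1
  have hKc : Nat.card K ∣ 15 := by rw [← hH]; exact Subgroup.card_dvd_of_le hKH
  have hK60 := K.card_mul_index
  rw [hG] at hK60
  have h5K : 5 ∣ Nat.card K := by
    have h1 : 5 ∣ Nat.card K * K.index := by rw [hK60]; norm_num
    refine (Nat.Prime.dvd_mul (by norm_num)).mp h1 |>.resolve_right fun h => ?_
    have := h.trans hKi
    norm_num at this
  -- the Sylow 5-subgroup of K is normal in G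
  obtain ⟨Q⟩ : Nonempty (Sylow 5 K) := inferInstance
  have hQn : (Q : Subgroup K).Normal := by
    have h1 : Nat.card (Sylow 5 K) ≡ 1 [MOD 5] := card_sylow_modEq_one 5 K
    have h2 : Nat.card (Sylow 5 K) ∣ (Q : Subgroup K).index := Q.card_dvd_index
    have h3 : (Q : Subgroup K).index ∣ 3 := by
      have h4 := (Q : Subgroup K).card_mul_index
      have h5 : 5 ∣ Nat.card Q := by
        rw [Sylow.card_eq_multiplicity]
        exact dvd_pow_self 5 ((Nat.Prime.factorization_pos_of_dvd (by norm_num) Nat.card_pos.ne' h5K).ne')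
      obtain ⟨c, hc⟩ := h5
      have h6 : 5 * c * (Q : Subgroup K).index ∣ 15 := by rw [← hc, h4]; exact hKc
      have h7 : 5 * (c * (Q : Subgroup K).index) ∣ 5 * 3 := by rw [← mul_assoc]; exact h6
      exact (Dvd.intro_left _ rfl).trans (Nat.dvd_of_mul_dvd_mul_left (by norm_num) h7)
    have h4 := h2.trans h3
    have h5 : Nat.card (Sylow 5 K) = 1 := by
      have h6 := Nat.le_of_dvd (by norm_num) h4
      unfold Nat.ModEq at h1
      interval_cases h : Nat.card (Sylow 5 K) <;> simp_all
    haveI : Subsingleton (Sylow 5 K) := (Nat.card_eq_one_iff_unique.mp h5).1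
    exact Sylow.normal_of_subsingleton Q
  have hQc : Nat.card Q = 5 := by
    rw [Sylow.card_eq_multiplicity]
    have : (Nat.card K).factorization 5 = 1 := by
      have h1 : Nat.card K = 5 ∨ Nat.card K = 15 := by
        have h6 := Nat.le_of_dvd (by norm_num) hKc
        have h7 : 0 < Nat.card K := Nat.card_pos
        obtain ⟨c, hc⟩ := h5K
        rw [hc] at h6 h7 hKc ⊢
        have : c ≤ 3 := by omega
        interval_cases c <;> simp_all
      rcases h1 with h1 | h1 <;> rw [h1]
      · exact Nat.Prime.factorization_self (by norm_num)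
      · rw [show 15 = 3 * 5 by norm_num, Nat.factorization_mul (by norm_num) (by norm_num)]
        simp [Nat.Prime.factorization_self, Nat.factorization_eq_zero_of_not_dvd,
          Nat.Prime.factorization (show Nat.Prime 3 by norm_num), Nat.Prime.factorization (show Nat.Prime 5 by norm_num)]
    rw [this, pow_one]
  haveI hQchar : (Q : Subgroup K).Characteristic := Q.characteristic_of_normal hQn
  set P : Subgroup G := (Q : Subgroup K).map K.subtype with hP
  have hPn : P.Normal := by rw [hP]; infer_instance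
  have hPc : Nat.card P = 5 := by
    rw [hP, Nat.card_congr ((Q : Subgroup K).equivMapOfInjective _ K.subtype_injective).symm.toEquiv]
    exact hQc
  have hPab : ∀ a ∈ P, ∀ b ∈ P, a * b = b * a := by
    haveI : IsCyclic P := isCyclic_of_prime_card hPc
    intro a ha b hb
    letI := IsCyclic.commGroup (α := P)
    exact congrArg Subtype.val (mul_comm (⟨a, ha⟩ : P) ⟨b, hb⟩)
  have h1 := hχ.trans (ito χ P hPab)
  have h2 := P.card_mul_index
  rw [hPc, hG] at h2
  have : P.index = 12 := by omega
  rw [this] at h1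
  norm_num at h1

end Cfsg.Agent.H75
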