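import Mathlib

/-!
# An action lemma for groups with two character degrees (owner: helper75)
-/

set_option autoImplicit false
set_option linter.style.haveILetI false
set_option linter.unusedSectionVars false

namespace Cfsg.Agent.H75.TwoDeg

open scoped BigOperators

universe u v

variable {H : Type u} {Λ : Type v} [Group H] [CommGroup Λ]

/-- the stabilizer of a point for an action by automorphisms -/
def stab (φ : H →* MulAut Λ) (x : Λ) : Subgroup H where
  carrier := {h | φ h x = x}
  one_mem' := by simp
  mul_mem' := fun {a b} ha hb => by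
    have ha' : φ a x = x := ha
    have hb' : φ b x = x := hb
    show φ (a * b) x = x
    rw [map_mul, MulAut.mul_apply, hb', ha']
  inv_mem' := fun {a} ha => by
    have ha' : φ a x = x := ha
    show φ a⁻¹ x = x
    rw [map_inv]
    conv_lhs => rw [← ha']
    exact MulAut.inv_apply_self _ _ _

theorem mem_stab (φ : H →* MulAut Λ) (x : Λ) (h : H) : h ∈ stab φ x ↔ φ h x = x := Iff.rfl

theorem action_key [Finite H] [Finite Λ] (φ : H →* MulAut Λ) (hcop : (Nat.card H).Coprime (Nat.card Λ))
    [hnil : Group.IsNilpotent H] (m : ℕ)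
    (h1 : ∀ x : Λ, stab φ x ≠ ⊤ → (stab φ x).index = m ∧
      ∀ a ∈ stab φ x, ∀ b ∈ stab φ x, a * b = b * a)
    (h2 : ∀ (N B : Subgroup H), N.Normal → N ≤ B →
      (∀ a ∈ B, ∀ b ∈ B, a * b * a⁻¹ * b⁻¹ ∈ N) → B.index < m →
      ∀ a b : H, a * b * a⁻¹ * b⁻¹ ∈ N)
    (h3 : ∃ x : Λ, stab φ x ≠ ⊤) :
    φ.ker.index = m ∧ ∀ a ∈ φ.ker, ∀ b ∈ φ.ker, a * b = b * a := by
  classical
  haveI := Fintype.ofFinite H
  haveI := Fintype.ofFinite Λ
  let nrm : Λ →* Λ := ∏ h : H, ((φ h : Λ ≃* Λ) : Λ →* Λ)
  have hnrm : ∀ x, nrm x = ∏ h : H, φ h x := fun x => by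
    simp only [nrm, MonoidHom.finsetProd_apply]; rfl
  have hnrm1 : ∀ (g : H) (x : Λ), nrm (φ g x) = nrm x := by
    intro g x
    rw [hnrm, hnrm]
    exact Fintype.prod_equiv (Equiv.mulRight g) _ _ fun h => by
      simp [MulAut.mul_apply]
  have hfix1 : ∀ x : Λ, nrm x = 1 → stab φ x = ⊤ → x = 1 := by
    intro x hx hs
    have h4 : x ^ Nat.card H = 1 := by
      rw [← hx, hnrm]
      have : ∀ h ∈ (Finset.univ : Finset H), φ h x = x := fun h _ => by
        have : h ∈ stab φ x := by rw [hs]; trivial
        exact this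
      rw [Finset.prod_congr rfl this]
      simp [Nat.card_eq_fintype_card]
    have h5 : x ^ Nat.card Λ = 1 := pow_card_eq_one'
    have := (pow_gcd_eq_one (a := x)).mpr ⟨h4, h5⟩
    rwa [hcop, pow_one] at this
  -- minimal invariant subgroup
  let P : Set (Subgroup Λ) := {S | S ≠ ⊥ ∧ (∀ h, ∀ x ∈ S, φ h x ∈ S) ∧ ∀ x ∈ S, nrm x = 1}
  obtain ⟨S, hS⟩ : ∃ S, Minimal (· ∈ P) S := by
    refine Set.Finite.exists_minimal (Set.toFinite P) ⟨nrm.ker, ?_, ?_, ?_⟩
    · obtain ⟨x, hx⟩ := h3
      intro hb
      apply hx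
      rw [eq_top_iff]
      intro h _
      have : φ h x * x⁻¹ ∈ nrm.ker := by
        rw [MonoidHom.mem_ker, map_mul, map_inv, hnrm1, mul_inv_cancel]
      rw [hb, Subgroup.mem_bot] at this
      exact mul_inv_eq_one.mp this
    · intro h x hx
      rw [MonoidHom.mem_ker] at hx ⊢
      rw [hnrm1, hx]
    · intro x hx
      exact hx
  obtain ⟨⟨hSne, hSinv, hSn⟩, hSmin⟩ := hS
  have hstS : ∀ x ∈ S, x ≠ 1 → stab φ x ≠ ⊤ := fun x hx hx1 hs => hx1 (hfix1 x (hSn x hx) hs)
  -- kernel on S
  let C : Subgroup H :=
    { carrier := {h | ∀ x ∈ S, φ h x = x}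
      one_mem' := fun x _ => by simp
      mul_mem' := fun {a b} ha hb x hx => by
        rw [map_mul, MulAut.mul_apply, hb x hx, ha x hx]
      inv_mem' := fun {a} ha x hx => by
        have := ha x hx
        rw [map_inv]
        conv_lhs => rw [← this]
        exact MulAut.inv_apply_self _ _ _ }
  have hCmem : ∀ h, h ∈ C ↔ ∀ x ∈ S, φ h x = x := fun h => Iff.rfl
  haveI hCn : C.Normal := by
    constructor
    intro c hc g
    rw [hCmem] at hc ⊢
    intro x hx
    rw [map_mul, map_mul, MulAut.mul_apply, MulAut.mul_apply, hc _ (hSinv _ _ hx), ← MulAut.mul_apply,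
      ← map_mul, mul_inv_cancel, map_one, MulAut.one_apply]
  have hCle : ∀ x ∈ S, C ≤ stab φ x := fun x hx c hc => hc x hx
  obtain ⟨x0, hx0, hx01⟩ : ∃ x ∈ S, x ≠ 1 := by
    by_contra hcon
    push Not at hcon
    exact hSne ((Subgroup.eq_bot_iff_forall S).mpr hcon)
  -- claim X
  have claimX : ∀ z : H, (∀ h : H, z⁻¹ * h⁻¹ * z * h ∈ C) → ∀ x ∈ S, x ≠ 1 → φ z x = x → z ∈ C := by
    intro z hz x hx hx1 hzx
    let F : Subgroup Λ :=
      { carrier := {y | y ∈ S ∧ φ z y = y}
        one_mem' := ⟨S.one_mem, map_one _⟩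
        mul_mem' := fun {a b} ha hb => ⟨S.mul_mem ha.1 hb.1, by rw [map_mul, ha.2, hb.2]⟩
        inv_mem' := fun {a} ha => ⟨S.inv_mem ha.1, by rw [map_inv, ha.2]⟩ }
    have hF : F ∈ P := by
      refine ⟨?_, ?_, ?_⟩
      · intro hb
        have : x ∈ F := ⟨hx, hzx⟩
        rw [hb, Subgroup.mem_bot] at this
        exact hx1 this
      · intro h y hy
        refine ⟨hSinv h y hy.1, ?_⟩
        have h4 : z * h = h * z * (z⁻¹ * h⁻¹ * z * h) := by group
        rw [← MulAut.mul_apply, ← map_mul, h4, map_mul, map_mul, MulAut.mul_apply, MulAut.mul_apply,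
          (hz h) y hy.1, hy.2]
      · intro y hy
        exact hSn y hy.1
    have hle : S ≤ F := hSmin hF (fun y hy => hy.1)
    intro y hy
    exact (hle hy).2
  -- all commutators lie in C
  obtain ⟨hidx0, hcm0⟩ := h1 x0 (hstS x0 hx0 hx01)
  have hCne : C ≠ ⊤ := by
    intro h
    apply hstS x0 hx0 hx01
    rw [eq_top_iff, ← h]
    exact hCle x0 hx0
  have hcomm : ∀ a b : H, a * b * a⁻¹ * b⁻¹ ∈ C := by
    haveI : Nontrivial (H ⧸ C) := by
      rw [← not_subsingleton_iff_nontrivial]
      intro h
      exact hCne (QuotientGroup.subgroup_eq_top_of_subsingleton C h)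
    haveI : Nontrivial (Subgroup.center (H ⧸ C)) := by
      exact (Subgroup.nontrivial_iff_ne_bot _).mpr (Group.IsNilpotent.center_ne_bot _)
    obtain ⟨⟨z', hz'⟩, hz1⟩ := exists_ne (1 : Subgroup.center (H ⧸ C))
    obtain ⟨z, rfl⟩ := QuotientGroup.mk_surjective z'
    have hzC : z ∉ C := by
      intro h
      apply hz1
      apply Subtype.ext
      exact (QuotientGroup.eq_one_iff z).mpr h
    have hzc : ∀ h : H, z⁻¹ * h⁻¹ * z * h ∈ C := by
      intro h
      rw [← QuotientGroup.eq_one_iff]
      rw [Subgroup.mem_center_iff] at hz'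
      have := hz' (QuotientGroup.mk h : H ⧸ C)
      simp only [QuotientGroup.mk_mul, QuotientGroup.mk_inv]
      rw [mul_assoc, ← this]
      group
    have hzc' : ∀ h : H, z * h * z⁻¹ * h⁻¹ ∈ C := by
      intro h
      rw [← QuotientGroup.eq_one_iff]
      rw [Subgroup.mem_center_iff] at hz'
      have := hz' (QuotientGroup.mk h : H ⧸ C)
      simp only [QuotientGroup.mk_mul, QuotientGroup.mk_inv]
      rw [← this]
      group
    have hzs : z ∉ stab φ x0 := fun h => hzC (claimX z hzc x0 hx0 hx01 h)
    let B : Subgroup H := stab φ x0 ⊔ Subgroup.zpowers z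
    refine h2 C B hCn ((hCle x0 hx0).trans le_sup_left) ?_ ?_
    · -- the image in H/C is commutative
      have hmap : ∀ a ∈ B, ∀ b ∈ B, (QuotientGroup.mk' C) a * (QuotientGroup.mk' C) b =
          (QuotientGroup.mk' C) b * (QuotientGroup.mk' C) a := by
        have hB : Subgroup.map (QuotientGroup.mk' C) B =
            Subgroup.closure ((QuotientGroup.mk' C) '' ((stab φ x0 : Set H) ∪ {z})) := by
          rw [← MonoidHom.map_closure]
          congr 1
          rw [Subgroup.closure_union, Subgroup.closure_eq, ← Subgroup.zpowers_eq_closure]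
        have hcl : ∀ x ∈ ((QuotientGroup.mk' C) '' ((stab φ x0 : Set H) ∪ {z})),
            ∀ y ∈ ((QuotientGroup.mk' C) '' ((stab φ x0 : Set H) ∪ {z})), x * y = y * x := by
          rintro _ ⟨a, ha, rfl⟩ _ ⟨b, hb, rfl⟩
          have hz2 : ∀ h : H, (QuotientGroup.mk' C) h * (QuotientGroup.mk' C) z =
              (QuotientGroup.mk' C) z * (QuotientGroup.mk' C) h := fun h =>
            (Subgroup.mem_center_iff.mp hz') _
          rcases ha with ha | ha
          · rcases hb with hb | hb
            · rw [← map_mul, hcm0 a ha b hb, map_mul]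
            · rw [Set.mem_singleton_iff] at hb
              subst hb
              exact hz2 a
          · rw [Set.mem_singleton_iff] at ha
            subst ha
            exact (hz2 b).symm
        haveI := Subgroup.isMulCommutative_closure hcl
        intro a ha b hb
        have ha' : (QuotientGroup.mk' C) a ∈ Subgroup.closure
            ((QuotientGroup.mk' C) '' ((stab φ x0 : Set H) ∪ {z})) := by
          rw [← hB]; exact Subgroup.mem_map_of_mem _ ha
        have hb' : (QuotientGroup.mk' C) b ∈ Subgroup.closure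
            ((QuotientGroup.mk' C) '' ((stab φ x0 : Set H) ∪ {z})) := by
          rw [← hB]; exact Subgroup.mem_map_of_mem _ hb
        exact congrArg Subtype.val (mul_comm' (⟨_, ha'⟩ : Subgroup.closure
            ((QuotientGroup.mk' C) '' ((stab φ x0 : Set H) ∪ {z}))) ⟨_, hb'⟩)
      intro a ha b hb
      rw [← QuotientGroup.eq_one_iff]
      have h4 := hmap a ha b hb
      have h5 : ((a * b * a⁻¹ * b⁻¹ : H) : H ⧸ C) = (QuotientGroup.mk' C) a * (QuotientGroup.mk' C) b *
          ((QuotientGroup.mk' C) a)⁻¹ * ((QuotientGroup.mk' C) b)⁻¹ := rfl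
      rw [h5, h4]
      group
    · rw [← hidx0]
      apply Subgroup.index_strictAnti
      refine lt_of_le_of_ne le_sup_left ?_
      intro he
      apply hzs
      rw [he]
      exact Subgroup.mem_sup_right (Subgroup.mem_zpowers z)
  have hcomm' : ∀ z h : H, z⁻¹ * h⁻¹ * z * h ∈ C := by
    intro z h
    have := hcomm z⁻¹ h⁻¹
    simpa using this
  have hstC : ∀ x ∈ S, x ≠ 1 → stab φ x = C := by
    intro x hx hx1
    apply le_antisymm
    · intro z hz
      exact claimX z (hcomm' z) x hx hx1 hz
    · exact hCle x hx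
  have hCm : C.index = m := by rw [← hstC x0 hx0 hx01]; exact hidx0
  have hCcm : ∀ a ∈ C, ∀ b ∈ C, a * b = b * a := by
    rw [← hstC x0 hx0 hx01]; exact hcm0
  -- C acts trivially
  have hker : φ.ker = C := by
    apply le_antisymm
    · intro h hh x _
      rw [MonoidHom.mem_ker] at hh
      rw [hh]; rfl
    · intro c hc
      rw [MonoidHom.mem_ker]
      ext y
      rw [MulAut.one_apply]
      -- D
      let D : Subgroup H :=
        { carrier := {g | φ g y * y⁻¹ ∈ S}
          one_mem' := by simp
          mul_mem' := fun {a b} ha hb => by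
            have ha' : φ a y * y⁻¹ ∈ S := ha
            have hb' : φ b y * y⁻¹ ∈ S := hb
            show φ (a * b) y * y⁻¹ ∈ S
            have h4 := hSinv a _ hb'
            have h5 := S.mul_mem h4 ha'
            rw [map_mul, map_inv] at h5
            rw [map_mul, MulAut.mul_apply]
            have h6 : (φ a) ((φ b) y) * ((φ a) y)⁻¹ * ((φ a) y * y⁻¹) =
              (φ a) ((φ b) y) * y⁻¹ := by group
            rwa [h6] at h5
          inv_mem' := fun {a} ha => by
            have ha' : φ a y * y⁻¹ ∈ S := ha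
            show φ a⁻¹ y * y⁻¹ ∈ S
            have h4 := S.inv_mem (hSinv a⁻¹ _ ha')
            have h5 : φ a⁻¹ (φ a y) = y := by
              rw [← MulAut.mul_apply, ← map_mul, inv_mul_cancel, map_one, MulAut.one_apply]
            rw [map_mul, h5, map_inv, mul_inv_rev, inv_inv] at h4
            exact h4 }
      have hDmem : ∀ g, g ∈ D ↔ φ g y * y⁻¹ ∈ S := fun g => Iff.rfl
      have hDcop : (Nat.card D).Coprime (Nat.card Λ) :=
        Nat.Coprime.coprime_dvd_left (Subgroup.card_subgroup_dvd_card D) hcop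
      have hDcopS : (Nat.card S).Coprime (Nat.card D) :=
        (Nat.Coprime.coprime_dvd_right (Subgroup.card_subgroup_dvd_card S) hDcop).symm
      let ν : Λ := ∏ d : D, φ d y
      have hν : ∀ e ∈ D, φ e ν = ν := by
        intro e he
        simp only [ν, map_prod]
        exact Fintype.prod_equiv (Equiv.mulLeft (⟨e, he⟩ : D)) _ _ fun h => by
          simp [MulAut.mul_apply]
      have hνS : ν = (∏ d : D, (φ d y * y⁻¹)) * y ^ Nat.card D := by
        rw [Nat.card_eq_fintype_card, ← Finset.card_univ, ← Finset.prod_const,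
          ← Finset.prod_mul_distrib]
        refine Finset.prod_congr rfl fun d _ => ?_
        rw [inv_mul_cancel_right]
      have hsS : (∏ d : D, (φ d y * y⁻¹)) ∈ S := S.prod_mem fun d _ => d.2
      obtain ⟨s', hs'⟩ := (powCoprime hDcopS).surjective ⟨_, hsS⟩
      have hs'' : (s' : Λ) ^ Nat.card D = ∏ d : D, (φ d y * y⁻¹) := congrArg Subtype.val hs'
      have hfix : ∀ e ∈ D, φ e (y * s') = y * s' := by
        intro e he
        apply (powCoprime hDcop.symm).injective
        show (φ e (y * s')) ^ Nat.card D = (y * s') ^ Nat.card D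
        have h4 : (y * s') ^ Nat.card D = ν := by
          rw [mul_pow, hs'', hνS, mul_comm]
        rw [← map_pow, h4, hν e he]
      have hle : ∀ s ∈ S, stab φ (y * s) ≤ D := by
        intro s hs g hg
        rw [mem_stab, map_mul] at hg
        rw [hDmem]
        have h4 : φ g y * y⁻¹ = s * (φ g s)⁻¹ := by
          rw [eq_mul_inv_iff_mul_eq, mul_right_comm, hg, mul_right_comm, mul_inv_cancel, one_mul]
        rw [h4]
        exact S.mul_mem hs (S.inv_mem (hSinv g s hs))
      have hcD : c ∈ D := by
        by_cases hD : D = ⊤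
        · rw [hD]; trivial
        · have e1 : stab φ (y * s') = D := le_antisymm (hle _ s'.2) hfix
          have hne1 : stab φ (y * s') ≠ ⊤ := by rw [e1]; exact hD
          have hDm : D.index = m := by rw [← e1]; exact (h1 _ hne1).1
          have hne2 : stab φ (y * (s' * x0)) ≠ ⊤ := fun h =>
            hD (top_le_iff.mp (h ▸ hle _ (S.mul_mem s'.2 hx0)))
          have e2 : stab φ (y * (s' * x0)) = D := by
            refine Subgroup.eq_of_le_of_card_ge (hle _ (S.mul_mem s'.2 hx0)) ?_
            have h5 := Subgroup.card_mul_index D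
            have h6 := Subgroup.card_mul_index (stab φ (y * (s' * x0)))
            rw [(h1 _ hne2).1] at h6
            rw [hDm] at h5
            have hm0 : 0 < m := by
              rw [← hDm]; exact Nat.pos_of_ne_zero Subgroup.index_ne_zero_of_finite
            exact (Nat.eq_of_mul_eq_mul_right hm0 (h5.trans h6.symm)).le
          have hDC : D ≤ C := by
            rw [← hstC x0 hx0 hx01]
            intro d hd
            have h5 := hfix d hd
            rw [← e2, mem_stab, ← mul_assoc, map_mul, h5] at hd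
            exact mul_left_cancel hd
          have e3 : D = C := by
            refine Subgroup.eq_of_le_of_card_ge hDC ?_
            have h5 := Subgroup.card_mul_index D
            have h6 := Subgroup.card_mul_index C
            rw [hDm] at h5
            rw [hCm] at h6
            have hm0 : 0 < m := by
              rw [← hDm]; exact Nat.pos_of_ne_zero Subgroup.index_ne_zero_of_finite
            exact (Nat.eq_of_mul_eq_mul_right hm0 (h6.trans h5.symm)).le
          rw [e3]; exact hc
      have h7 := hfix c hcD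
      rw [map_mul, hc s' s'.2] at h7
      exact mul_right_cancel h7
  rw [hker]
  exact ⟨hCm, hCcm⟩

end Cfsg.Agent.H75.TwoDeg
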