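import Cfsg.Agent.H75.TwoDeg
import Cfsg.Agent.H75.ItoConv
import Cfsg.Agent.H80.IndUtil
import Cfsg.Agent.Glaub.Count

/-!
# Groups with two character degrees (owner: helper75)
-/

set_option autoImplicit false
set_option linter.style.haveILetI false
set_option linter.unusedSectionVars false

namespace Cfsg.Agent.H75.TwoDeg

open scoped ComplexConjugate BigOperators
open Cfsg Cfsg.Agent.CharBase Cfsg.Agent.H75

universe u

variable {G : Type u} [Group G] [Finite G]

/-- characters over a linear character of an abelian normal Hall subgroup -/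
theorem exists_deg_inertia (L : Subgroup G) [hL : L.Normal] (hcop : (Nat.card L).Coprime L.index)
    {θ : L → ℂ} (hθ : IsIrrCharacter L θ) (h1 : θ 1 = 1)
    (hLT : L ≤ Char.inertia L θ) [hKn : (L.subgroupOf (Char.inertia L θ)).Normal]
    (β : IrrCharacter (Char.inertia L θ ⧸ L.subgroupOf (Char.inertia L θ))) :
    ∃ χ : IrrCharacter G, deg χ = (Char.inertia L θ).index * deg β := by
  classical
  haveI := Fintype.ofFinite G
  haveI := Fintype.ofFinite L
  let T := Char.inertia L θ
  haveI := Fintype.ofFinite T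
  let K : Subgroup T := L.subgroupOf T
  haveI : K.Normal := hKn
  let e : K ≃* L := Subgroup.subgroupOfEquivOfLe hLT
  have hec : ∀ k : K, ((e k : L) : G) = ((k : T) : G) := fun k => rfl
  let θ' : K → ℂ := θ ∘ e
  have hθ' : IsIrrCharacter K θ' :=
    isIrrCharacter_comp_surjective hθ (e : K →* L) e.surjective
  have hcopK : (Nat.card K).Coprime K.index := by
    have e1 : Nat.card K = Nat.card L := Nat.card_congr e.toEquiv
    have e2 : K.index ∣ L.index := Subgroup.relIndex_dvd_index_of_le hLT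
    rw [e1]
    exact Nat.Coprime.coprime_dvd_right e2 hcop
  have hinv : ∀ g : T, Char.cj K g θ' = θ' := by
    intro g
    funext k
    rw [Char.cj_apply]
    have h2 := congrFun (Char.mem_inertia L |>.mp g.2) (e k)
    rw [Char.cj_apply] at h2
    simp only [θ', Function.comp]
    rw [← h2]
    congr 1
  obtain ⟨η, hη, hηK⟩ := Glaub.exists_extension_of_hall K hcopK hθ' hinv
  have hη1 : η 1 = 1 := by
    have := hηK 1
    simpa [θ', h1] using this
  let β' : T → ℂ := fun t => (β : T ⧸ K → ℂ) (QuotientGroup.mk t)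
  have hβ : IsIrrCharacter T β' := isIrrCharacter_inflate K β.2
  have hψ : IsIrrCharacter T (η * β') :=
    Glaub.isIrr_mul_linear hβ (isCharacter_of_isIrr hη) hη1
  have hres : ∀ n : L, (η * β') ⟨n, hLT n.2⟩ = (deg β : ℂ) * θ n := by
    intro n
    have h3 : (⟨n, hLT n.2⟩ : T) ∈ K := Subgroup.mem_subgroupOf.mpr n.2
    have h4 : η ⟨n, hLT n.2⟩ = θ n := hηK ⟨_, h3⟩
    have h5 : β' ⟨n, hLT n.2⟩ = deg β := by
      show (β : T ⧸ K → ℂ) ((⟨n, hLT n.2⟩ : T) : T ⧸ K) = _
      rw [(QuotientGroup.eq_one_iff _).mpr h3, deg_spec]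
    rw [Pi.mul_apply, h4, h5, mul_comm]
  have hne : classInner (fun n : L => (η * β') ⟨n, hLT n.2⟩) θ ≠ 0 := by
    rw [show (fun n : L => (η * β') ⟨n, hLT n.2⟩) =
      (deg β : ℂ) • θ from funext fun n => by rw [hres n]; rfl]
    rw [classInner_smul_left, Char.classInner_self_of_irr hθ, mul_one]
    exact_mod_cast (deg_pos β).ne'
  have hirr := Char.isIrr_indFun_of_inertia L T hθ rfl hLT hψ hne
  refine ⟨⟨_, hirr⟩, ?_⟩
  have h6 : ((deg (⟨_, hirr⟩ : IrrCharacter G) : ℕ) : ℂ) = ((T.index * deg β : ℕ) : ℂ) := by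
    rw [← deg_spec]
    show indFun T _ 1 = _
    rw [Char.indFun_one_apply, Pi.mul_apply, hη1, one_mul]
    push_cast
    congr 1
    have := deg_spec β
    rw [← this]
    rfl
  exact_mod_cast h6

/-- the dual of a subgroup -/
def Dual (L : Subgroup G) : Type u := L →* ℂˣ

noncomputable instance (L : Subgroup G) : CommGroup (Dual L) :=
  inferInstanceAs (CommGroup (L →* ℂˣ))

/-- an element of the dual as a homomorphism -/
def Dual.hom {L : Subgroup G} (f : Dual L) : L →* ℂˣ := f

theorem Dual.ext' {L : Subgroup G} {f g : Dual L} (h : ∀ l, f.hom l = g.hom l) : f = g :=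
  MonoidHom.ext h

/-- the conjugation action on the dual of an abelian normal subgroup -/
noncomputable def dualAct (L : Subgroup G) [hL : L.Normal] : G →* MulAut (Dual L) where
  toFun g := (MulEquiv.monoidHomCongrLeft (MulAut.conjNormal g : L ≃* L) :
    (L →* ℂˣ) ≃* (L →* ℂˣ))
  map_one' := by
    refine MulEquiv.ext fun f => Dual.ext' fun l => ?_
    show f ((MulAut.conjNormal (1 : G) : L ≃* L).symm l) = f l
    rw [map_one]; rfl
  map_mul' a b := by
    refine MulEquiv.ext fun f => Dual.ext' fun l => ?_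
    show f ((MulAut.conjNormal (a * b : G) : L ≃* L).symm l) =
      f ((MulAut.conjNormal (b : G) : L ≃* L).symm ((MulAut.conjNormal (a : G) : L ≃* L).symm l))
    rw [map_mul]; rfl

theorem dualAct_apply (L : Subgroup G) [hL : L.Normal] (g : G) (f : Dual L) (l : L) :
    (dualAct L g f).hom l = f.hom ⟨g⁻¹ * l * g, by simpa using hL.conj_mem (l : G) l.2 g⁻¹⟩ := by
  show f.hom ((MulAut.conjNormal g : L ≃* L).symm l) = _
  congr 1
  rw [MulEquiv.symm_apply_eq]
  ext
  simp [mul_assoc]

theorem card_dual (L : Subgroup G) (hab : ∀ a ∈ L, ∀ b ∈ L, a * b = b * a) :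
    Nat.card (Dual L) = Nat.card L := by
  letI : CommGroup L :=
    { (inferInstance : Group L) with mul_comm := fun a b => Subtype.ext (hab a a.2 b b.2) }
  exact CommGroup.card_monoidHom_of_hasEnoughRootsOfUnity L ℂ

theorem eq_of_dual (L : Subgroup G) (hab : ∀ a ∈ L, ∀ b ∈ L, a * b = b * a) {x y : L}
    (h : ∀ f : Dual L, f.hom x = f.hom y) : x = y := by
  letI : CommGroup L :=
    { (inferInstance : Group L) with mul_comm := fun a b => Subtype.ext (hab a a.2 b b.2) }
  by_contra hne
  have hne' : x * y⁻¹ ≠ 1 := fun h => hne (mul_inv_eq_one.mp h)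
  obtain ⟨f, hf⟩ := CommGroup.exists_apply_ne_one_of_hasEnoughRootsOfUnity L ℂ hne'
  apply hf
  have h' : f x = f y := h f
  rw [map_mul, h', ← map_mul, mul_inv_cancel, map_one]

/-- the action of the quotient on the dual of an abelian normal subgroup -/
noncomputable def quotAct (L : Subgroup G) [hL : L.Normal]
    (hab : ∀ a ∈ L, ∀ b ∈ L, a * b = b * a) : G ⧸ L →* MulAut (Dual L) :=
  QuotientGroup.lift L (dualAct L) (fun l hl => by
    ext f
    apply Dual.ext'
    intro x
    rw [dualAct_apply]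
    show f.hom _ = f.hom _
    congr 1
    apply Subtype.ext
    show l⁻¹ * (x : G) * l = x
    rw [mul_assoc, hab x x.2 l hl, inv_mul_cancel_left])

theorem quotAct_mk (L : Subgroup G) [hL : L.Normal]
    (hab : ∀ a ∈ L, ∀ b ∈ L, a * b = b * a) (g : G) (f : Dual L) :
    quotAct L hab (g : G ⧸ L) f = dualAct L g f := rfl

/-- the function attached to a linear character -/
noncomputable def dfun (L : Subgroup G) (f : Dual L) : L → ℂ := fun l => (f.hom l : ℂ)

theorem dfun_isCharacter (L : Subgroup G) (f : Dual L) : IsCharacter L (dfun L f) :=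
  Char.isCharacter_of_hom ((Units.coeHom ℂ).comp f.hom)

theorem dfun_one (L : Subgroup G) (f : Dual L) : dfun L f 1 = 1 := by simp [dfun]

theorem dfun_isIrr (L : Subgroup G) (f : Dual L) : IsIrrCharacter L (dfun L f) :=
  Char.linChar_isIrr (dfun_isCharacter L f) (dfun_one L f)

theorem mem_inertia_iff (L : Subgroup G) [hL : L.Normal]
    (hab : ∀ a ∈ L, ∀ b ∈ L, a * b = b * a) (f : Dual L) (g : G) :
    g ∈ Char.inertia L (dfun L f) ↔ (g : G ⧸ L) ∈ stab (quotAct L hab) f := by
  rw [← Subgroup.inv_mem_iff (H := stab (quotAct L hab) f), mem_stab, ← QuotientGroup.mk_inv,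
    quotAct_mk, Char.mem_inertia]
  constructor
  · intro h
    apply Dual.ext'
    intro l
    rw [dualAct_apply]
    have := congrFun h l
    rw [Char.cj_apply] at this
    simp only [inv_inv]
    exact Units.ext this
  · intro h
    funext l
    rw [Char.cj_apply]
    have := congrArg (fun f : Dual L => f.hom l) h
    rw [dualAct_apply] at this
    simp only [inv_inv] at this
    show ((f.hom _ : ℂˣ) : ℂ) = ((f.hom l : ℂˣ) : ℂ)
    rw [this]

theorem inertia_index (L : Subgroup G) [hL : L.Normal]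
    (hab : ∀ a ∈ L, ∀ b ∈ L, a * b = b * a) (f : Dual L) :
    (Char.inertia L (dfun L f)).index = (stab (quotAct L hab) f).index := by
  have : Char.inertia L (dfun L f) = (stab (quotAct L hab) f).comap (QuotientGroup.mk' L) := by
    ext g
    rw [mem_inertia_iff L hab, Subgroup.mem_comap]; rfl
  rw [this, Subgroup.index_comap_of_surjective _ (QuotientGroup.mk'_surjective L)]

theorem stab_props (m : ℕ) (hcd : ∀ χ : IrrCharacter G, deg χ = 1 ∨ deg χ = m)
    (L : Subgroup G) [hL : L.Normal] (hab : ∀ a ∈ L, ∀ b ∈ L, a * b = b * a)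
    (hcop : (Nat.card L).Coprime L.index) (f : Dual L)
    (hf : stab (quotAct L hab) f ≠ ⊤) :
    (stab (quotAct L hab) f).index = m ∧
      ∀ a ∈ stab (quotAct L hab) f, ∀ b ∈ stab (quotAct L hab) f, a * b = b * a := by
  classical
  haveI := Fintype.ofFinite G
  have hLT : L ≤ Char.inertia L (dfun L f) :=
    Char.le_inertia L (isClassFunction_of_isCharacter (dfun_isCharacter L f))
  haveI hKn : (L.subgroupOf (Char.inertia L (dfun L f))).Normal := Subgroup.normal_subgroupOf
  have hT1 : (Char.inertia L (dfun L f)).index ≠ 1 := by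
    rw [inertia_index L hab, Ne, Subgroup.index_eq_one]; exact hf
  have hTm : (Char.inertia L (dfun L f)).index = m := by
    obtain ⟨χ, hχ⟩ := exists_deg_inertia L hcop (dfun_isIrr L f) (dfun_one L f) hLT
      ⟨_, Char.isIrrCharacter_one⟩
    have hd1 : deg (⟨_, Char.isIrrCharacter_one⟩ :
        IrrCharacter (Char.inertia L (dfun L f) ⧸ L.subgroupOf (Char.inertia L (dfun L f)))) = 1 := by
      rw [← charDegree_eq_deg]
      exact charDegree_eq (by simp)
    rw [hd1, mul_one] at hχ
    rcases hcd χ with h | h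
    · exact absurd (hχ.symm.trans h) hT1
    · exact hχ.symm.trans h
  refine ⟨by rw [← inertia_index L hab]; exact hTm, ?_⟩
  have hlin : ∀ β : IrrCharacter (Char.inertia L (dfun L f) ⧸ L.subgroupOf (Char.inertia L (dfun L f))),
      β.1 1 = 1 := by
    intro β
    obtain ⟨χ, hχ⟩ := exists_deg_inertia L hcop (dfun_isIrr L f) (dfun_one L f) hLT β
    rw [hTm] at hχ hT1
    have hm0 : 0 < m := by
      rw [← hTm]; exact Nat.pos_of_ne_zero Subgroup.index_ne_zero_of_finite
    have hb : deg β = 1 := by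
      rcases hcd χ with h | h
      · rw [h] at hχ
        exact absurd (Nat.eq_one_of_mul_eq_one_right hχ.symm) hT1
      · rw [h] at hχ
        exact Nat.eq_of_mul_eq_mul_left hm0 (by rw [← hχ, mul_one])
    rw [deg_spec, hb, Nat.cast_one]
  intro a ha b hb
  obtain ⟨a, rfl⟩ := QuotientGroup.mk_surjective a
  obtain ⟨b, rfl⟩ := QuotientGroup.mk_surjective b
  have ha' := (mem_inertia_iff L hab f a).mpr ha
  have hb' := (mem_inertia_iff L hab f b).mpr hb
  have hc := comm_of_forall_linear hlin (QuotientGroup.mk ⟨a, ha'⟩) (QuotientGroup.mk ⟨b, hb'⟩)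
  rw [← QuotientGroup.mk_mul, ← QuotientGroup.mk_mul, QuotientGroup.eq,
    Subgroup.mem_subgroupOf] at hc
  rw [← QuotientGroup.mk_mul, ← QuotientGroup.mk_mul, QuotientGroup.eq]
  exact hc

theorem quot_comm (m : ℕ) (hcd : ∀ χ : IrrCharacter G, deg χ = 1 ∨ deg χ = m)
    (L : Subgroup G) [hL : L.Normal] (N B : Subgroup (G ⧸ L)) (hN : N.Normal) (hNB : N ≤ B)
    (hB : ∀ a ∈ B, ∀ b ∈ B, a * b * a⁻¹ * b⁻¹ ∈ N) (hBm : B.index < m) (a b : G ⧸ L) :
    a * b * a⁻¹ * b⁻¹ ∈ N := by
  classical
  haveI := hN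
  have hBi : (B.map (QuotientGroup.mk' N)).index = B.index := by
    rw [Subgroup.index_map, QuotientGroup.ker_mk', sup_eq_left.mpr hNB,
      (MonoidHom.range_eq_top_of_surjective _ (QuotientGroup.mk'_surjective N)),
      Subgroup.index_top, mul_one]
  have hlin : ∀ β : IrrCharacter ((G ⧸ L) ⧸ N), β.1 1 = 1 := by
    intro β
    have h1 := isIrrCharacter_inflate L (isIrrCharacter_inflate N β.2)
    have h2 : deg (⟨_, h1⟩ : IrrCharacter G) = deg β := by
      have : ((deg (⟨_, h1⟩ : IrrCharacter G) : ℕ) : ℂ) = deg β := by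
        rw [← deg_spec, ← deg_spec]; rfl
      exact_mod_cast this
    have h3 : deg β ≤ B.index := by
      rw [← hBi]
      haveI := Fintype.ofFinite ((G ⧸ L) ⧸ N)
      apply H80.deg_le_index_of_comm β
      rintro ⟨_, ⟨a, ha, rfl⟩⟩ ⟨_, ⟨b, hb, rfl⟩⟩
      apply Subtype.ext
      show (QuotientGroup.mk' N a) * (QuotientGroup.mk' N b) =
        (QuotientGroup.mk' N b) * (QuotientGroup.mk' N a)
      have h4 := hB a ha b hb
      rw [← QuotientGroup.eq_one_iff] at h4
      have h5 : ((a * b * a⁻¹ * b⁻¹ : G ⧸ L) : (G ⧸ L) ⧸ N) = (QuotientGroup.mk' N a) *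
          (QuotientGroup.mk' N b) * ((QuotientGroup.mk' N b) * (QuotientGroup.mk' N a))⁻¹ := by
        simp only [QuotientGroup.mk_mul, QuotientGroup.mk_inv, QuotientGroup.mk'_apply,
          mul_inv_rev, mul_assoc]
      rw [h5] at h4
      exact mul_inv_eq_one.mp h4
    rcases hcd ⟨_, h1⟩ with h | h
    · rw [deg_spec, ← h2, h, Nat.cast_one]
    · rw [h2] at h
      omega
  have h6 := comm_of_forall_linear hlin (a : (G ⧸ L) ⧸ N) b
  rw [← QuotientGroup.eq_one_iff]
  simp only [QuotientGroup.mk_mul, QuotientGroup.mk_inv]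
  rw [h6]; group

theorem conj_of_dual (L : Subgroup G) [hL : L.Normal] (hab : ∀ a ∈ L, ∀ b ∈ L, a * b = b * a)
    (g : G) (h : ∀ f : Dual L, dualAct L g f = f) (l : G) (hl : l ∈ L) : g * l = l * g := by
  have h1 : ∀ f : Dual L, f.hom ⟨g⁻¹ * l * g, by simpa using hL.conj_mem l hl g⁻¹⟩ =
      f.hom ⟨l, hl⟩ := by
    intro f
    have h3 := congrArg (fun f : Dual L => f.hom ⟨l, hl⟩) (h f)
    rw [dualAct_apply] at h3
    exact h3
  have h5 : g⁻¹ * l * g = l := congrArg Subtype.val (eq_of_dual L hab h1)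
  calc g * l = g * (g⁻¹ * l * g) := by rw [h5]
    _ = l * g := by group

/-- an extension of a central subgroup by an abelian group of coprime order is abelian -/
theorem comm_of_central_coprime (A L : Subgroup G) (hLn : L.Normal)
    (hcent : ∀ a ∈ A, ∀ l ∈ L, a * l = l * a)
    (hcop : (Nat.card L).Coprime L.index)
    (hk2 : ∀ a ∈ A, ∀ b ∈ A, a * b * a⁻¹ * b⁻¹ ∈ L) :
    ∀ a ∈ A, ∀ b ∈ A, a * b = b * a := by
  intro a ha b hb
  have hcL : a * b * a⁻¹ * b⁻¹ ∈ L := hk2 a ha b hb
  have hca : Commute (a * b * a⁻¹ * b⁻¹) a := ((hcent a ha _ hcL)).symm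
  have hpow : ∀ n : ℕ, a ^ n * b = (a * b * a⁻¹ * b⁻¹) ^ n * b * a ^ n := by
    intro n
    induction n with
    | zero => simp
    | succ n ih =>
      have h6 : a * b = (a * b * a⁻¹ * b⁻¹) * b * a := by group
      set c := a * b * a⁻¹ * b⁻¹ with hc
      calc a ^ (n + 1) * b = a ^ n * (a * b) := by rw [pow_succ, mul_assoc]
        _ = a ^ n * (c * b * a) := by rw [← h6]
        _ = (a ^ n * c) * (b * a) := by group
        _ = (c * a ^ n) * (b * a) := by rw [(hca.pow_right n).eq]
        _ = c * (a ^ n * b) * a := by group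
        _ = c * (c ^ n * b * a ^ n) * a := by rw [ih]
        _ = c ^ (n + 1) * b * a ^ (n + 1) := by
          rw [pow_succ' c, pow_succ a]; group
  have hn := hpow L.index
  have haL : a ^ L.index ∈ L := Subgroup.pow_index_mem L a
  have h7 : a ^ L.index * b = b * a ^ L.index := (hcent b hb _ haL).symm
  have h8 : (a * b * a⁻¹ * b⁻¹) ^ L.index = 1 := by
    rw [mul_assoc, ← h7] at hn
    exact (mul_eq_right.mp hn.symm)
  have h9 : (a * b * a⁻¹ * b⁻¹) ^ Nat.card L = 1 := by
    have := pow_card_eq_one' (x := (⟨_, hcL⟩ : L))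
    exact congrArg Subtype.val this
  have h10 := (pow_gcd_eq_one (a := a * b * a⁻¹ * b⁻¹)).mpr ⟨h9, h8⟩
  rw [hcop, pow_one] at h10
  have h11 : a * b = (a * b * a⁻¹ * b⁻¹) * (b * a) := by group
  rw [h11, h10, one_mul]

theorem abelian_of_noncentral (m : ℕ) (hcd : ∀ χ : IrrCharacter G, deg χ = 1 ∨ deg χ = m)
    (L : Subgroup G) [hL : L.Normal] (hab : ∀ a ∈ L, ∀ b ∈ L, a * b = b * a)
    (hcop : (Nat.card L).Coprime L.index) [Group.IsNilpotent (G ⧸ L)]
    (hnc : ¬ L ≤ Subgroup.center G) :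
    ∃ A : Subgroup G, A.Normal ∧ (∀ a ∈ A, ∀ b ∈ A, a * b = b * a) ∧ A.index = m := by
  classical
  haveI : Finite (Dual L) :=
    Nat.finite_of_card_ne_zero (by rw [card_dual L hab]; exact Nat.card_pos.ne')
  have hcop' : (Nat.card (G ⧸ L)).Coprime (Nat.card (Dual L)) := by
    rw [card_dual L hab]; exact hcop.symm
  have h3 : ∃ f : Dual L, stab (quotAct L hab) f ≠ ⊤ := by
    by_contra hcon
    push Not at hcon
    apply hnc
    intro l hl
    rw [Subgroup.mem_center_iff]
    intro g
    refine conj_of_dual L hab g (fun f => ?_) l hl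
    have h2 : (g : G ⧸ L) ∈ stab (quotAct L hab) f := by rw [hcon f]; trivial
    rwa [mem_stab, quotAct_mk] at h2
  obtain ⟨hk1, hk2⟩ := action_key (quotAct L hab) hcop' m
    (fun f hf => stab_props m hcd L hab hcop f hf)
    (fun N B hN hNB hB hBm a b => quot_comm m hcd L N B hN hNB hB hBm a b) h3
  refine ⟨(quotAct L hab).ker.comap (QuotientGroup.mk' L), inferInstance, ?_, ?_⟩
  · apply comm_of_central_coprime _ L hL _ hcop
    · intro a ha b hb
      rw [← QuotientGroup.eq_one_iff]
      have := hk2 (a : G ⧸ L) ha (b : G ⧸ L) hb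
      simp only [QuotientGroup.mk_mul, QuotientGroup.mk_inv]
      rw [this]; group
    · intro a ha l hl
      refine conj_of_dual L hab a (fun f => ?_) l hl
      have ha' : quotAct L hab (a : G ⧸ L) = 1 := ha
      rw [← quotAct_mk L hab, ha']; rfl
  · rw [Subgroup.index_comap_of_surjective _ (QuotientGroup.mk'_surjective L)]
    exact hk1

end Cfsg.Agent.H75.TwoDeg
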