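import Cfsg.Agent.H75.TwoDeg2
import Cfsg.Agent.S4456
import Cfsg.Agent.H75.Monomial

/-!
# Groups with two character degrees: the structure theorem (owner: helper75)
-/

set_option autoImplicit false
set_option linter.style.haveILetI false
set_option linter.unusedSectionVars false

namespace Cfsg.Agent.H75.TwoDeg

open scoped ComplexConjugate BigOperators
open Cfsg Cfsg.Agent.CharBase Cfsg.Agent.H75

universe u

variable {G : Type u} [Group G] [Finite G]

/-- a normal subgroup of order prime to the degrees is abelian -/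
theorem comm_of_coprime_degrees (L : Subgroup G) [hL : L.Normal]
    (h : ∀ χ : IrrCharacter G, (Nat.card L).Coprime (deg χ)) :
    ∀ a ∈ L, ∀ b ∈ L, a * b = b * a := by
  classical
  haveI := Fintype.ofFinite G
  haveI := Fintype.ofFinite L
  have hlin : ∀ β : IrrCharacter L, β.1 1 = 1 := by
    intro β
    obtain ⟨χ, hχ, hne⟩ := Char.exists_over L β.2
    have hd := Char.clifford_degree L hχ β.2 hne
    obtain ⟨k, hk⟩ := classInner_natCast (isCharacter_restrict (isCharacter_of_isIrr hχ) L)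
      (isCharacter_of_isIrr β.2)
    rw [hk, deg_spec β] at hd
    have hd' : χ 1 = deg (⟨χ, hχ⟩ : IrrCharacter G) := deg_spec ⟨χ, hχ⟩
    rw [hd'] at hd
    have hnat : deg (⟨χ, hχ⟩ : IrrCharacter G) = k * ((Char.inertia L (β : L → ℂ)).index * deg β) := by
      exact_mod_cast hd
    have h1 : deg β ∣ deg (⟨χ, hχ⟩ : IrrCharacter G) := by
      rw [hnat]; exact (Dvd.intro_left _ rfl).mul_left _
    have h2 := Nat.Coprime.coprime_dvd_right h1 (h ⟨χ, hχ⟩)
    have h3 := Nat.dvd_gcd (deg_dvd β) (dvd_refl (deg β))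
    rw [h2] at h3
    rw [deg_spec, Nat.dvd_one.mp h3, Nat.cast_one]
  intro a ha b hb
  exact congrArg Subtype.val (comm_of_forall_linear hlin ⟨a, ha⟩ ⟨b, hb⟩)

theorem two_deg (m : ℕ) (hcd : ∀ χ : IrrCharacter G, deg χ = 1 ∨ deg χ = m)
    (hm : ∃ χ : IrrCharacter G, deg χ = m) :
    (∃ A : Subgroup G, A.Normal ∧ (∀ a ∈ A, ∀ b ∈ A, a * b = b * a) ∧ A.index = m) ∨
      Group.IsNilpotent G := by
  classical
  have hm0 : 0 < m := by obtain ⟨χ, rfl⟩ := hm; exact deg_pos χ
  have hN : ∀ p : m.primeFactors, ∃ N : Subgroup G, N.Normal ∧ (Nat.card N).Coprime p ∧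
      ∃ k : ℕ, N.index = (p : ℕ) ^ k := by
    intro p
    refine S4456.result p (Nat.prime_of_mem_primeFactors p.2) fun χ hχ => ?_
    rw [charDegree_eq_deg] at hχ ⊢
    rcases hcd χ with h | h
    · exact absurd h hχ
    · rw [h]; exact Nat.dvd_of_mem_primeFactors p.2
  choose N hNn hNc k hNk using hN
  let L : Subgroup G := ⨅ p, N p
  haveI hL : L.Normal := Subgroup.normal_iInf_normal hNn
  have hLm : (Nat.card L).Coprime m := by
    refine Nat.Coprime.symm (Nat.coprime_of_dvd fun q hq hqm hqL => ?_)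
    have hq' : q ∈ m.primeFactors := Nat.mem_primeFactors.mpr ⟨hq, hqm, hm0.ne'⟩
    have h1 : Nat.card L ∣ Nat.card (N ⟨q, hq'⟩) := Subgroup.card_dvd_of_le (iInf_le _ _)
    have h2 := Nat.dvd_gcd (hqL.trans h1) (dvd_refl q)
    rw [hNc ⟨q, hq'⟩] at h2
    exact hq.one_lt.ne' (Nat.dvd_one.mp h2)
  -- embedding
  haveI : ∀ p, Group.IsNilpotent (G ⧸ N p) := by
    intro p
    haveI : Fact (p : ℕ).Prime := ⟨Nat.prime_of_mem_primeFactors p.2⟩
    have : IsPGroup p (G ⧸ N p) := IsPGroup.of_card (n := k p) (by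
      rw [← hNk p]; rfl)
    exact this.isNilpotent
  let F0 : G →* ∀ p, G ⧸ N p := MonoidHom.mk' (fun g p => (g : G ⧸ N p)) (fun a b => rfl)
  have hF0 : F0.ker = L := by
    ext g
    rw [MonoidHom.mem_ker, Subgroup.mem_iInf]
    constructor
    · intro h p
      rw [← QuotientGroup.eq_one_iff]
      exact congrFun h p
    · intro h
      funext p
      exact (QuotientGroup.eq_one_iff g).mpr (h p)
  let F : G ⧸ L →* ∀ p, G ⧸ N p := QuotientGroup.lift L F0 (fun g hg => by
    have : g ∈ F0.ker := by rw [hF0]; exact hg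
    exact this)
  have hFinj : Function.Injective F := by
    rw [injective_iff_map_eq_one]
    intro x hx
    obtain ⟨g, rfl⟩ := QuotientGroup.mk_surjective x
    have : g ∈ F0.ker := hx
    rw [hF0] at this
    exact (QuotientGroup.eq_one_iff g).mpr this
  haveI hnil : Group.IsNilpotent (G ⧸ L) := by
    refine Subgroup.isNilpotent_of_ker_le_center F ?_
    rw [(MonoidHom.ker_eq_bot_iff F).mpr hFinj]
    exact bot_le
  have hidx : L.index ∣ ∏ p : m.primeFactors, (p : ℕ) ^ k p := by
    have h1 := Subgroup.card_dvd_of_injective F hFinj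
    rw [Nat.card_pi] at h1
    have h2 : ∀ p ∈ (Finset.univ : Finset m.primeFactors), Nat.card (G ⧸ N p) = (p : ℕ) ^ k p :=
      fun p _ => by rw [← hNk p]; rfl
    rw [Finset.prod_congr rfl h2] at h1
    exact h1
  have hcop : (Nat.card L).Coprime L.index := by
    refine Nat.coprime_of_dvd fun q hq hqL hqi => ?_
    have h1 := hqi.trans hidx
    rw [hq.prime.dvd_finsetProd_iff] at h1
    obtain ⟨p, -, hp⟩ := h1
    have h2 := hq.dvd_of_dvd_pow hp
    have h3 : q ∣ m := h2.trans (Nat.dvd_of_mem_primeFactors p.2)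
    have h4 := Nat.dvd_gcd hqL h3
    rw [hLm] at h4
    exact hq.one_lt.ne' (Nat.dvd_one.mp h4)
  have hab : ∀ a ∈ L, ∀ b ∈ L, a * b = b * a := by
    apply comm_of_coprime_degrees
    intro χ
    rcases hcd χ with h | h
    · rw [h]; exact Nat.coprime_one_right _
    · rw [h]; exact hLm
  by_cases hc : L ≤ Subgroup.center G
  · right
    refine Subgroup.isNilpotent_of_ker_le_center (QuotientGroup.mk' L) ?_
    rw [QuotientGroup.ker_mk']
    exact hc
  · left
    exact abelian_of_noncentral m hcd L hab hcop hc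

/-- the nilpotent case -/
theorem two_deg_nilpotent (m : ℕ) (hcd : ∀ χ : IrrCharacter G, deg χ = 1 ∨ deg χ = m)
    (hm : ∃ χ : IrrCharacter G, deg χ = m) (hm1 : m ≠ 1) [hnil : Group.IsNilpotent G] :
    ∃ p e : ℕ, p.Prime ∧ m = p ^ e ∧ ∃ P A : Subgroup G, P.Normal ∧ A.Normal ∧
      IsPGroup p P ∧ (∀ a ∈ A, ∀ b ∈ A, a * b = b * a) ∧ P ⊓ A = ⊥ ∧ P ⊔ A = ⊤ := by
  classical
  obtain ⟨p, hp, hpm⟩ := Nat.exists_prime_and_dvd hm1
  haveI : Fact p.Prime := ⟨hp⟩
  obtain ⟨K, hKn, hKc, k, hKk⟩ := S4456.result (G := G) p hp (fun χ hχ => by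
    rw [charDegree_eq_deg] at hχ ⊢
    rcases hcd χ with h | h
    · exact absurd h hχ
    · rw [h]; exact hpm)
  obtain ⟨P⟩ : Nonempty (Sylow p G) := inferInstance
  haveI hPn : (P : Subgroup G).Normal :=
    (Group.isNilpotent_of_finite_tfae.out 0 3 rfl rfl).mp hnil p ⟨hp⟩ P
  have hPidx : ¬ p ∣ (P : Subgroup G).index := P.not_dvd_index
  -- G / P is abelian
  have hGP : ∀ a b : G ⧸ (P : Subgroup G), a * b = b * a := by
    apply comm_of_forall_linear
    intro β
    have h1 := isIrrCharacter_inflate (P : Subgroup G) β.2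
    have h2 : deg (⟨_, h1⟩ : IrrCharacter G) = deg β := by
      have : ((deg (⟨_, h1⟩ : IrrCharacter G) : ℕ) : ℂ) = deg β := by
        rw [← deg_spec, ← deg_spec]; rfl
      exact_mod_cast this
    rcases hcd ⟨_, h1⟩ with h | h
    · rw [deg_spec, ← h2, h, Nat.cast_one]
    · exfalso
      apply hPidx
      rw [h2] at h
      refine hpm.trans ?_
      rw [← h]
      exact deg_dvd β
  have hinf : (P : Subgroup G) ⊓ K = ⊥ := by
    rw [← disjoint_iff]
    apply Subgroup.disjoint_of_coprime_natCard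
    obtain ⟨n, hn⟩ := IsPGroup.iff_card.mp P.isPGroup'
    rw [hn]
    exact (Nat.Coprime.pow_right n hKc).symm
  have hKab : ∀ a ∈ K, ∀ b ∈ K, a * b = b * a := by
    intro a ha b hb
    have h1 := hGP (a : G ⧸ (P : Subgroup G)) b
    have h2 : a * b * a⁻¹ * b⁻¹ ∈ (P : Subgroup G) := by
      rw [← QuotientGroup.eq_one_iff]
      simp only [QuotientGroup.mk_mul, QuotientGroup.mk_inv]
      rw [h1]; group
    have h3 : a * b * a⁻¹ * b⁻¹ ∈ K :=
      K.mul_mem (K.mul_mem (K.mul_mem ha hb) (K.inv_mem ha)) (K.inv_mem hb)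
    have h4 : a * b * a⁻¹ * b⁻¹ ∈ (P : Subgroup G) ⊓ K := ⟨h2, h3⟩
    rw [hinf, Subgroup.mem_bot] at h4
    have h11 : a * b = (a * b * a⁻¹ * b⁻¹) * (b * a) := by group
    rw [h11, h4, one_mul]
  obtain ⟨χ, hχ⟩ := hm
  have hito := ito χ K hKab
  rw [hχ, hKk] at hito
  obtain ⟨e, -, he⟩ := (Nat.dvd_prime_pow hp).mp hito
  refine ⟨p, e, hp, he, P, K, hPn, hKn, P.isPGroup', hKab, hinf, ?_⟩
  rw [← Subgroup.index_eq_one]
  have h1 : ((P : Subgroup G) ⊔ K).index ∣ (P : Subgroup G).index :=
    Subgroup.index_dvd_of_le le_sup_left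
  have h2 : ((P : Subgroup G) ⊔ K).index ∣ p ^ k := by
    rw [← hKk]
    exact Subgroup.index_dvd_of_le le_sup_right
  obtain ⟨j, -, hj⟩ := (Nat.dvd_prime_pow hp).mp h2
  rcases Nat.eq_zero_or_pos j with h0 | h0
  · rw [hj, h0, pow_zero]
  · exfalso
    apply hPidx
    refine (dvd_pow_self p h0.ne').trans ?_
    rw [← hj]
    exact h1

/-- for an M-group (nilpotent) with two degrees the inducing subgroup contains `G'` -/
theorem comm_mem_of_induced [Fintype G] (m : ℕ) (hcd : ∀ χ : IrrCharacter G, deg χ = 1 ∨ deg χ = m)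
    (U : Subgroup G) (hU : U.index = m) (a b : G) : a * b * a⁻¹ * b⁻¹ ∈ U := by
  classical
  haveI := Fintype.ofFinite U
  haveI := Fintype.ofFinite (IrrCharacter G)
  have hπ : IsCharacter G (indFun U (fun _ => (1 : ℂ))) :=
    Char.indFun_isCharacter U _ Char.isCharacter_one
  obtain ⟨k, hk, hsum⟩ := exists_mult_of_isCharacter hπ
  have hm1 : indFun U (fun _ => (1 : ℂ)) 1 = m := by
    rw [Char.indFun_one_apply, hU, mul_one]
  have htriv : k ⟨_, Char.isIrrCharacter_one⟩ = 1 := by
    have h1 := hk ⟨_, Char.isIrrCharacter_one⟩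
    rw [Char.frobenius_reciprocity U _ _
      (isClassFunction_of_isCharacter (isCharacter_of_isIrr Char.isIrrCharacter_one))] at h1
    have h2 : classInner (fun _ : U => (1 : ℂ)) (fun _ : U => (1 : ℂ)) = 1 :=
      Char.classInner_self_of_irr Char.isIrrCharacter_one
    have h3 : ((k ⟨_, Char.isIrrCharacter_one⟩ : ℕ) : ℂ) = 1 := by
      rw [← h1]; exact h2
    exact_mod_cast h3
  have hdegsum : m = ∑ ψ : IrrCharacter G, k ψ * deg ψ := by
    have h1 : (m : ℂ) = ((∑ ψ : IrrCharacter G, k ψ * deg ψ : ℕ) : ℂ) := by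
      rw [← hm1]
      conv_lhs => rw [hsum]
      push_cast
      simp only [Finset.sum_apply, Pi.smul_apply]
      refine Finset.sum_congr rfl (fun ψ _ => ?_)
      rw [deg_spec]; simp
    exact_mod_cast h1
  have htd : deg (⟨_, Char.isIrrCharacter_one⟩ : IrrCharacter G) = 1 := by
    rw [← charDegree_eq_deg]
    exact charDegree_eq (by simp)
  have hlin : ∀ ψ : IrrCharacter G, k ψ ≠ 0 → deg ψ = 1 := by
    intro ψ hψ
    rcases hcd ψ with h | h
    · exact h
    · by_contra hne
      have hψt : ψ ≠ ⟨_, Char.isIrrCharacter_one⟩ := by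
        rintro rfl; exact hne htd
      have h1 : k ψ * deg ψ + k ⟨_, Char.isIrrCharacter_one⟩ *
          deg (⟨_, Char.isIrrCharacter_one⟩ : IrrCharacter G) ≤ m := by
        conv_rhs => rw [hdegsum]
        rw [← Finset.sum_pair (f := fun ψ => k ψ * deg ψ) hψt]
        exact Finset.sum_le_sum_of_subset (Finset.subset_univ _)
      rw [htriv, htd, h] at h1
      have h2 : 1 * m ≤ k ψ * m := Nat.mul_le_mul_right m (Nat.one_le_iff_ne_zero.mpr hψ)
      omega
  set c := a * b * a⁻¹ * b⁻¹ with hc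
  have hval : indFun U (fun _ => (1 : ℂ)) c = indFun U (fun _ => (1 : ℂ)) 1 := by
    rw [hsum]
    simp only [Finset.sum_apply, Pi.smul_apply]
    refine Finset.sum_congr rfl (fun ψ _ => ?_)
    by_cases h0 : k ψ = 0
    · simp [h0]
    · have h2 : (ψ : G → ℂ) 1 = 1 := by rw [deg_spec, hlin ψ h0, Nat.cast_one]
      rw [hc, linear_commutator (irr_isCharacter ψ) h2, h2]
  by_contra hcU
  -- some term vanishes
  rw [Char.indFun_apply', Char.indFun_apply'] at hval
  have hcard : (Nat.card U : ℂ)⁻¹ ≠ 0 := by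
    apply inv_ne_zero
    exact_mod_cast Nat.card_pos.ne'
  have h1 := mul_left_cancel₀ hcard hval
  have h01 : ∀ y : G, (extendByZero U (fun _ => (1 : ℂ)) y) = if y ∈ U then 1 else 0 := by
    intro y
    by_cases hy : y ∈ U
    · rw [Char.extendByZero_of_mem U _ hy, if_pos hy]
    · rw [Char.extendByZero_of_notMem U _ hy, if_neg hy]
  simp only [h01] at h1
  have h2 : (∑ x : G, if x * c * x⁻¹ ∈ U then (1 : ℂ) else 0) =
      ((Finset.univ.filter fun x : G => x * c * x⁻¹ ∈ U).card : ℂ) := by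
    rw [Finset.sum_ite]; simp
  have h3 : (∑ x : G, if x * 1 * x⁻¹ ∈ U then (1 : ℂ) else 0) = ((Finset.univ : Finset G).card : ℂ) := by
    simp
  rw [h2, h3] at h1
  have h4 : (Finset.univ.filter fun x : G => x * c * x⁻¹ ∈ U).card = (Finset.univ : Finset G).card := by
    exact_mod_cast h1
  rw [Finset.card_filter_eq_iff] at h4
  have := h4 1 (Finset.mem_univ _)
  simp at this
  exact hcU this

/-- the commutator subgroup of a nilpotent group with two degrees is abelian -/
theorem commutator_comm_nilpotent [Fintype G] [Group.IsNilpotent G] (m : ℕ)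
    (hcd : ∀ χ : IrrCharacter G, deg χ = 1 ∨ deg χ = m) :
    ∀ a ∈ commutator G, ∀ b ∈ commutator G, a * b = b * a := by
  classical
  intro a ha b hb
  have h1 : IsConj (a * b * a⁻¹ * b⁻¹) 1 := by
    refine isConj_of_forall_char fun χ => ?_
    rcases hcd χ with h | h
    · have h2 : (χ : G → ℂ) 1 = 1 := by rw [deg_spec, h, Nat.cast_one]
      rw [linear_commutator (irr_isCharacter χ) h2, h2]
    · obtain ⟨U, l, hχ⟩ := isMonomialChar_of_nilpotent χ.2
      have hU : U.index = m := by
        have h2 : (χ : G → ℂ) 1 = U.index := by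
          rw [hχ, Char.indFun_one_apply]
          simp
        rw [deg_spec, h] at h2
        exact_mod_cast h2.symm
      have hle : commutator G ≤ U := by
        rw [commutator_def, Subgroup.commutator_le]
        intro x _ y _
        rw [commutatorElement_def]
        exact comm_mem_of_induced m hcd U hU x y
      rw [hχ, Char.indFun_apply', Char.indFun_apply']
      congr 1
      refine Finset.sum_congr rfl fun x _ => ?_
      have hxa : x * a * x⁻¹ ∈ U := hle ((inferInstance : (commutator G).Normal).conj_mem a ha x)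
      have hxb : x * b * x⁻¹ ∈ U := hle ((inferInstance : (commutator G).Normal).conj_mem b hb x)
      have e1 : x * (a * b * a⁻¹ * b⁻¹) * x⁻¹ = (((⟨_, hxa⟩ : U) * ⟨_, hxb⟩ * (⟨_, hxa⟩ : U)⁻¹ *
          (⟨_, hxb⟩ : U)⁻¹ : U) : G) := by
        simp only [Subgroup.coe_mul, Subgroup.coe_inv]
        group
      have e2 : x * 1 * x⁻¹ = ((1 : U) : G) := by simp
      rw [e1, e2, Char.extendByZero_coe, Char.extendByZero_coe]
      congr 1
      simp only [map_mul, map_inv, map_one]
      rw [mul_comm (l _) (l _), mul_inv_cancel_right, mul_inv_cancel]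
  rw [isConj_one_left] at h1
  have h2 : a * b * (b * a)⁻¹ = 1 := by rw [mul_inv_rev, ← mul_assoc]; exact h1
  exact mul_inv_eq_one.mp h2

theorem commutator_comm (m : ℕ) (hcd : ∀ χ : IrrCharacter G, deg χ = 1 ∨ deg χ = m)
    (hm : ∃ χ : IrrCharacter G, deg χ = m) (hm1 : m ≠ 1) :
    ∀ a ∈ commutator G, ∀ b ∈ commutator G, a * b = b * a := by
  classical
  haveI := Fintype.ofFinite G
  have hm0 : 0 < m := by obtain ⟨χ, rfl⟩ := hm; exact deg_pos χ
  rcases two_deg m hcd hm with ⟨A, hAn, hA, hAm⟩ | hnil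
  · have hle : commutator G ≤ A := by
      have hlin : ∀ β : IrrCharacter (G ⧸ A), β.1 1 = 1 := by
        intro β
        have h1 := isIrrCharacter_inflate A β.2
        have h2 : deg (⟨_, h1⟩ : IrrCharacter G) = deg β := by
          have : ((deg (⟨_, h1⟩ : IrrCharacter G) : ℕ) : ℂ) = deg β := by
            rw [← deg_spec, ← deg_spec]; rfl
          exact_mod_cast this
        rcases hcd ⟨_, h1⟩ with h | h
        · rw [deg_spec, ← h2, h, Nat.cast_one]
        · exfalso
          rw [h2] at h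
          haveI := Fintype.ofFinite (IrrCharacter (G ⧸ A))
          have h3 := sum_deg_sq (G := G ⧸ A)
          have h4 : deg β ^ 2 ≤ Nat.card (G ⧸ A) := by
            rw [← h3]
            exact Finset.single_le_sum (f := fun β : IrrCharacter (G ⧸ A) => deg β ^ 2)
              (fun _ _ => Nat.zero_le _) (Finset.mem_univ β)
          rw [h, ← Subgroup.index_eq_card, hAm] at h4
          have h5 : 2 ≤ m := by omega
          nlinarith
      have hc := comm_of_forall_linear hlin
      rw [commutator_def, Subgroup.commutator_le]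
      intro x _ y _
      rw [commutatorElement_def, ← QuotientGroup.eq_one_iff]
      simp only [QuotientGroup.mk_mul, QuotientGroup.mk_inv]
      rw [hc (x : G ⧸ A) y]; group
    intro a ha b hb
    exact hA a (hle ha) b (hle hb)
  · exact commutator_comm_nilpotent m hcd

end Cfsg.Agent.H75.TwoDeg
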