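import Cfsg.Agent.Char.CliffordCorr
import Cfsg.Agent.Char.Linear
import Cfsg.Agent.Char.AvgN
import Cfsg.Agent.Solv.Core
import Cfsg.Agent.H75.Inflate

/-!
# Vanishing elements from linear characters of normal subgroups (owner: helper75)
-/

set_option autoImplicit false
set_option linter.style.haveILetI false
set_option linter.unusedSectionVars false

namespace Cfsg.Agent.H75.VA

open scoped ComplexConjugate BigOperators
open Cfsg Cfsg.Agent.CharBase Cfsg.Agent.Char

universe u

/-- vanishing elements -/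
def Van {G : Type u} [Group G] (g : G) : Prop := ∃ χ : G → ℂ, IsIrrCharacter G χ ∧ χ g = 0

theorem Van.of_quotient {G : Type u} [Group G] {N : Subgroup G} [N.Normal] {g : G}
    (h : Van (QuotientGroup.mk' N g)) : Van g := by
  obtain ⟨χ, hχ, h0⟩ := h
  exact ⟨_, isIrrCharacter_inflate N hχ, h0⟩

section VL

variable {G : Type u} [Group G] [Finite G]

theorem van_of_linear (A : Subgroup G) [hA : A.Normal] (w : A →* ℂˣ) (g : G)
    (h : ∀ t : G, ∃ a : A, w (MulAut.conjNormal (t⁻¹ * g * t) a) ≠ w a) : Van g := by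
  classical
  have := Fintype.ofFinite G
  have := Fintype.ofFinite A
  let θ : A → ℂ := fun a => (w a : ℂ)
  have hθ : IsIrrCharacter A θ := isIrrCharacter_of_hom ((Units.coeHom ℂ).comp w)
  obtain ⟨χ, hχ, hne⟩ := exists_over A hθ
  obtain ⟨φ, -, hφ, -⟩ := CC.exists_indFun_inertia A hχ hθ hne
  refine ⟨χ, hχ, ?_⟩
  rw [← hφ]
  unfold indFun
  rw [Finset.sum_eq_zero, mul_zero]
  intro t _
  unfold extendByZero
  rw [Function.extend_apply' _ _ _ ?_]
  · rfl
  · rintro ⟨⟨y, hy⟩, hyt⟩
    obtain ⟨a, ha⟩ := h t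
    rw [mem_inertia_iff] at hy
    have h1 := hy a
    apply ha
    apply Units.ext
    have h2 : y = t⁻¹ * g * t := hyt
    subst h2
    exact h1

end VL

section RO

theorem eq_one_of_pow {W : Type*} [Group W] {x : W} {a b : ℕ} (h : a.Coprime b) (h1 : x ^ a = 1)
    (h2 : x ^ b = 1) : x = 1 := by
  have h3 := Nat.dvd_gcd (orderOf_dvd_of_pow_eq_one h1) (orderOf_dvd_of_pow_eq_one h2)
  rw [h, Nat.dvd_one, orderOf_eq_one_iff] at h3
  exact h3

theorem regular_orbit {W Q : Type*} [CommGroup W] [CommGroup Q] [Finite Q] (σ : Q →* MulAut W)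
    (m : ℕ) (hm : m.Coprime (Nat.card Q)) (hW : ∀ u : W, u ^ m = 1) :
    ∃ w : W, ∀ q, σ q w = w → ∀ u, σ q u = u := by
  classical
  have := Fintype.ofFinite Q
  let st : W → Subgroup Q := fun w =>
    { carrier := {q | σ q w = w}
      one_mem' := by show σ 1 w = w; rw [map_one]; rfl
      mul_mem' := by
        intro a b ha hb
        show σ (a * b) w = w
        rw [map_mul, MulAut.mul_apply, show σ b w = w from hb]
        exact ha
      inv_mem' := by
        intro a ha
        show σ a⁻¹ w = w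
        have h1 : σ a w = w := ha
        conv_lhs => rw [← h1]
        rw [← MulAut.mul_apply, ← map_mul, inv_mul_cancel, map_one]; rfl }
  have hst : ∀ w q, q ∈ st w ↔ σ q w = w := fun w q => Iff.rfl
  obtain ⟨w, hw⟩ : ∃ w, ∀ w', Nat.card (st w) ≤ Nat.card (st w') := by
    have h1 : (Set.range fun w => Nat.card (st w)).Nonempty := ⟨_, ⟨1, rfl⟩⟩
    obtain ⟨w, hw⟩ := Nat.sInf_mem h1
    refine ⟨w, fun w' => ?_⟩
    have h2 := Nat.sInf_le (s := Set.range fun w => Nat.card (st w)) ⟨w', rfl⟩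
    rw [← hw] at h2
    exact h2
  refine ⟨w, fun b₀ hb₀ u₀ => ?_⟩
  by_contra hne
  set B := st w with hB
  have := Fintype.ofFinite B
  set c := Nat.card B with hc
  have hcm : c.Coprime m := (hm.coprime_dvd_right (Subgroup.card_subgroup_dvd_card B)).symm
  let N : W →* W :=
    { toFun := fun u => ∏ b : B, σ b u
      map_one' := by simp
      map_mul' := fun x y => by
        rw [← Finset.prod_mul_distrib]
        exact Finset.prod_congr rfl fun b _ => map_mul _ _ _ }
  have hN : ∀ u, N u = ∏ b : B, σ b u := fun u => rfl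
  have hNfix : ∀ u, (∀ b ∈ B, σ b u = u) → N u = u ^ c := by
    intro u hu
    rw [hN, Finset.prod_congr rfl fun (b : B) _ => hu b b.2, Finset.prod_const, Finset.card_univ, hc,
      Nat.card_eq_fintype_card]
  have hNinv : ∀ b ∈ B, ∀ u, σ b (N u) = N u := by
    intro b hb u
    rw [hN, map_prod]
    refine Fintype.prod_equiv (Equiv.mulLeft (⟨b, hb⟩ : B)) _ _ fun x => ?_
    rw [Equiv.coe_mulLeft, Subgroup.coe_mul, map_mul, MulAut.mul_apply]
  have hNcomm : ∀ q u, N (σ q u) = σ q (N u) := by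
    intro q u
    rw [hN, hN, map_prod]
    refine Finset.prod_congr rfl fun b _ => ?_
    rw [← MulAut.mul_apply, ← MulAut.mul_apply, ← map_mul, ← map_mul, mul_comm]
  set v := u₀ ^ c * (N u₀)⁻¹ with hv
  have hNv : N v = 1 := by
    rw [hv, map_mul, map_pow, map_inv, hNfix (N u₀) fun b hb => hNinv b hb u₀, mul_inv_cancel]
  obtain ⟨b₁, hb₁, hb₁v⟩ : ∃ b ∈ B, σ b v ≠ v := by
    by_contra hcon
    push Not at hcon
    have h1 : v ^ c = 1 := by rw [← hNfix v hcon, hNv]
    have h2 : v = 1 := eq_one_of_pow hcm h1 (hW v)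
    rw [hv, mul_inv_eq_one] at h2
    have h3 : σ b₀ (u₀ ^ c) = u₀ ^ c := by rw [h2]; exact hNinv b₀ hb₀ u₀
    rw [map_pow] at h3
    have h4 : (σ b₀ u₀ * u₀⁻¹) ^ c = 1 := by rw [mul_pow, inv_pow, h3, mul_inv_cancel]
    exact hne (mul_inv_eq_one.mp (eq_one_of_pow hcm h4 (hW _)))
  have hsub : ∀ q, q ∈ st (w * v) → q ∈ B ∧ σ q v = v := by
    intro q hq
    have h1 : σ q (w * v) = w * v := hq
    have h2 : N (w * v) = w ^ c := by
      rw [map_mul, hNv, mul_one, hNfix w fun b hb => hb]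
    have h3 : σ q w ^ c = w ^ c := by
      rw [← map_pow, ← h2, ← hNcomm, h1]
    have h4 : (σ q w * w⁻¹) ^ c = 1 := by rw [mul_pow, inv_pow, h3, mul_inv_cancel]
    have h5 : σ q w = w := mul_inv_eq_one.mp (eq_one_of_pow hcm h4 (hW _))
    refine ⟨h5, ?_⟩
    rw [map_mul, h5] at h1
    exact mul_left_cancel h1
  have hlt : Nat.card (st (w * v)) < Nat.card B := by
    have h1 : (st (w * v) : Set Q) ⊂ (B : Set Q) := by
      refine ⟨fun q hq => (hsub q hq).1, fun h => hb₁v (hsub b₁ (h hb₁)).2⟩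
    have h2 := Set.ncard_lt_ncard h1 (Set.toFinite _)
    exact h2
  exact absurd (hw (w * v)) (not_le.mpr hlt)

end RO

section V1

variable {G : Type u} [Group G]

/-- action on linear characters -/
def act (A : Subgroup G) [A.Normal] : G →* MulAut (A →* ℂˣ) where
  toFun g :=
    { toFun := fun w => w.comp (MulAut.conjNormal g⁻¹ : MulAut A).toMonoidHom
      invFun := fun w => w.comp (MulAut.conjNormal g : MulAut A).toMonoidHom
      left_inv := fun w => by
        ext a
        show ((w (MulAut.conjNormal g⁻¹ (MulAut.conjNormal g a)) : ℂˣ) : ℂ) = w a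
        rw [← MulAut.mul_apply, ← map_mul, inv_mul_cancel, map_one]; rfl
      right_inv := fun w => by
        ext a
        show ((w (MulAut.conjNormal g (MulAut.conjNormal g⁻¹ a)) : ℂˣ) : ℂ) = w a
        rw [← MulAut.mul_apply, ← map_mul, mul_inv_cancel, map_one]; rfl
      map_mul' := fun w v => rfl }
  map_one' := by
    ext w a
    show ((w (MulAut.conjNormal (1 : G)⁻¹ a) : ℂˣ) : ℂ) = w a
    rw [inv_one, map_one]; rfl
  map_mul' g h := by
    ext w a
    show ((w (MulAut.conjNormal (g * h)⁻¹ a) : ℂˣ) : ℂ) =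
      w (MulAut.conjNormal h⁻¹ (MulAut.conjNormal g⁻¹ a))
    rw [mul_inv_rev, map_mul]; rfl

theorem act_apply (A : Subgroup G) [A.Normal] (g : G) (w : A →* ℂˣ) (a : A) :
    act A g w a = w (MulAut.conjNormal g⁻¹ a) := rfl

theorem act_of_mem (A : Subgroup G) [A.Normal] {g : G} (hg : g ∈ A) : act A g = 1 := by
  ext w a
  rw [act_apply]
  have h1 : MulAut.conjNormal g⁻¹ a = (⟨g, hg⟩ : A)⁻¹ * a * (⟨g, hg⟩ : A) := by
    apply Subtype.ext
    rw [MulAut.conjNormal_apply]
    simp
  rw [h1, map_mul, map_mul, map_inv, mul_comm (w _)⁻¹, inv_mul_cancel_right]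
  rfl

theorem act_eq_iff (A : Subgroup G) [A.Normal] (g : G) (w : A →* ℂˣ) :
    act A g w = w ↔ ∀ a : A, w (MulAut.conjNormal g a) = w a := by
  constructor
  · intro h a
    have h1 := DFunLike.congr_fun h (MulAut.conjNormal g a)
    rw [act_apply, ← MulAut.mul_apply, ← map_mul, inv_mul_cancel, map_one] at h1
    exact h1.symm
  · intro h
    ext a
    rw [act_apply, ← h (MulAut.conjNormal g⁻¹ a), ← MulAut.mul_apply, ← map_mul, mul_inv_cancel,
      map_one]
    rfl

variable [Finite G]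

/-- elements acting nontrivially on the linear characters of `A` -/
theorem van_of_act {p : ℕ} [hp : Fact p.Prime] (A D : Subgroup G) [hA : A.Normal] [hD : D.Normal]
    (hcomm : ∀ r ∈ D, ∀ s ∈ D, r * s * r⁻¹ * s⁻¹ ∈ A) (hexp : ∀ r ∈ D, ∃ k : ℕ, r ^ p ^ k ∈ A)
    (hpA : ¬ p ∣ Nat.card A) {d : G} (hd : d ∈ D) (hne : act A d ≠ 1) : Van d := by
  classical
  let Q : Subgroup (MulAut (A →* ℂˣ)) := D.map (act A)
  haveI hQf : Finite Q := by
    have : Finite D := inferInstance
    exact Set.Finite.to_subtype ((Set.toFinite (D : Set G)).image (act A))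
  letI : CommGroup Q :=
    { (inferInstance : Group Q) with
      mul_comm := by
        rintro ⟨_, r, hr, rfl⟩ ⟨_, s, hs, rfl⟩
        apply Subtype.ext
        show act A r * act A s = act A s * act A r
        have h1 := act_of_mem A (hcomm r hr s hs)
        rw [map_mul, map_mul, map_mul, map_inv, map_inv] at h1
        rw [mul_inv_eq_one, mul_inv_eq_iff_eq_mul] at h1
        exact h1 }
  have hQp : IsPGroup p Q := by
    rintro ⟨_, r, hr, rfl⟩
    obtain ⟨k, hk⟩ := hexp r hr
    refine ⟨k, Subtype.ext ?_⟩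
    show act A r ^ p ^ k = 1
    rw [← map_pow]
    exact act_of_mem A hk
  obtain ⟨j, hj⟩ := IsPGroup.iff_card.mp hQp
  have hcop : (Nat.card A).Coprime (Nat.card Q) := by
    rw [hj]
    exact (Nat.Coprime.pow_left _ ((Nat.Prime.coprime_iff_not_dvd hp.out).mpr hpA)).symm
  obtain ⟨w, hw⟩ := regular_orbit (W := A →* ℂˣ) Q.subtype (Nat.card A) hcop (fun u => by
    ext a
    rw [MonoidHom.pow_apply, ← map_pow, pow_card_eq_one', map_one]; rfl)
  refine van_of_linear A w d fun t => ?_
  by_contra hcon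
  push Not at hcon
  have h1 : act A (t⁻¹ * d * t) w = w := (act_eq_iff A _ w).mpr hcon
  have h2 : t⁻¹ * d * t ∈ D := by
    have := hD.conj_mem d hd t⁻¹
    rwa [inv_inv] at this
  have h3 := hw ⟨act A (t⁻¹ * d * t), ⟨_, h2, rfl⟩⟩ h1
  have h4 : act A (t⁻¹ * d * t) = 1 := MulEquiv.ext fun u => h3 u
  apply hne
  have h5 : d = t * (t⁻¹ * d * t) * t⁻¹ := by group
  rw [h5, map_mul, map_mul, h4, mul_one, ← map_mul, mul_inv_cancel, map_one]

end V1

end Cfsg.Agent.H75.VA
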