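import Cfsg.Agent.H75.VAa

/-!
# Vanishing `p`-singular elements in solvable groups with `O_p = 1` (owner: helper75)
-/

set_option autoImplicit false
set_option linter.style.haveILetI false
set_option linter.unusedSectionVars false

namespace Cfsg.Agent.H75.VA

open scoped ComplexConjugate BigOperators
open Cfsg Cfsg.Agent.CharBase Cfsg.Agent.Char

universe u

variable {p : ℕ} [hp : Fact p.Prime]

theorem mk_one_iff {G : Type u} [Group G] (A : Subgroup G) [A.Normal] (g : G) :
    QuotientGroup.mk' A g = 1 ↔ g ∈ A := by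
  rw [← MonoidHom.mem_ker, QuotientGroup.ker_mk']

theorem core_aux {G : Type u} [Group G] (hO : pCore p G = ⊥) (E : Subgroup G) [hE : E.Normal]
    (hc : ∀ y ∈ E, ∀ z ∈ E, y ^ p = 1 → z ^ p = 1 → y * z = z * y) :
    ∀ y ∈ E, y ^ p = 1 → y = 1 := by
  intro y hy hyp
  let P : Subgroup G :=
    { carrier := {x | x ∈ E ∧ x ^ p = 1}
      one_mem' := ⟨E.one_mem, one_pow p⟩
      mul_mem' := by
        rintro a b ⟨ha, ha'⟩ ⟨hb, hb'⟩
        have h1 : Commute a b := hc a ha b hb ha' hb'
        exact ⟨E.mul_mem ha hb, by rw [h1.mul_pow, ha', hb', one_mul]⟩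
      inv_mem' := by
        rintro a ⟨ha, ha'⟩
        exact ⟨E.inv_mem ha, by rw [inv_pow, ha', inv_one]⟩ }
  have hPn : P.Normal := ⟨fun x hx g => ⟨hE.conj_mem x hx.1 g, by
    rw [conj_pow, hx.2, mul_one, mul_inv_cancel]⟩⟩
  have hPp : IsPGroup p P := fun x => ⟨1, Subtype.ext (by
    rw [pow_one]; exact x.2.2)⟩
  have h1 : P ≤ pCore p G := Solv.le_pCore hPn hPp
  rw [hO] at h1
  exact (Subgroup.mem_bot).mp (h1 ⟨hy, hyp⟩)

theorem exists_abelian_normal {G : Type u} [Group G] [Nontrivial G] (hs : Group.IsSolvable G) :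
    ∃ A : Subgroup G, A.Normal ∧ A ≠ ⊥ ∧ ∀ a ∈ A, ∀ b ∈ A, a * b = b * a := by
  classical
  have hex : ∃ n, derivedSeries G n = ⊥ := hs.solvable
  have h0 : Nat.find hex ≠ 0 := by
    intro h
    have h1 := Nat.find_spec hex
    rw [h, derivedSeries_zero] at h1
    exact top_ne_bot h1
  obtain ⟨k, hk⟩ := Nat.exists_eq_succ_of_ne_zero h0
  refine ⟨derivedSeries G k, derivedSeries_normal G k, Nat.find_min hex (by omega), ?_⟩
  have h1 := Nat.find_spec hex
  rw [hk, Nat.succ_eq_add_one, derivedSeries_succ] at h1
  intro a ha b hb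
  have h2 : a * b * a⁻¹ * b⁻¹ ∈ (⊥ : Subgroup G) := by
    rw [← h1]
    exact Subgroup.commutator_mem_commutator ha hb
  have h3 := Subgroup.mem_bot.mp h2
  rwa [mul_inv_eq_one, mul_inv_eq_iff_eq_mul] at h3

theorem not_dvd_card_of_core {G : Type u} [Group G] [Finite G] (hO : pCore p G = ⊥) (A : Subgroup G)
    [A.Normal] (hA : ∀ a ∈ A, ∀ b ∈ A, a * b = b * a) : ¬ p ∣ Nat.card A := by
  intro h
  obtain ⟨a, ha⟩ := exists_prime_orderOf_dvd_card' p h
  have h1 : (a : G) ^ p = 1 := by
    rw [← ha]
    exact congrArg Subtype.val (pow_orderOf_eq_one a)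
  have h2 := core_aux hO A (fun y hy z hz _ _ => hA y hy z hz) a a.2 h1
  have h3 : a = 1 := Subtype.ext h2
  rw [h3, orderOf_one] at ha
  exact hp.out.one_lt.ne ha

theorem exists_linear_ne {G : Type u} [Group G] (A : Subgroup G) [Finite A]
    (hA : ∀ a ∈ A, ∀ b ∈ A, a * b = b * a) {a : A} (ha : a ≠ 1) : ∃ w : A →* ℂˣ, w a ≠ 1 := by
  letI : CommGroup A :=
    { (inferInstance : Group A) with
      mul_comm := fun a b => Subtype.ext (hA a a.2 b b.2) }
  haveI : NeZero ((Monoid.exponent A : ℕ) : ℂ) := ⟨by
    exact_mod_cast Monoid.exponent_ne_zero_of_finite⟩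
  obtain ⟨w, hw⟩ := CommGroup.exists_apply_ne_one_of_hasEnoughRootsOfUnity A ℂ ha
  exact ⟨w, hw⟩

theorem T1 (n : ℕ) : ∀ (G : Type u) [Group G] [Finite G], Nat.card G = n → Group.IsSolvable G →
    pCore p G = ⊥ → p ∣ Nat.card G → ∃ K R : Subgroup G, K.Normal ∧ R.Normal ∧ K ≤ R ∧
      ¬ p ∣ Nat.card K ∧ R ≠ K ∧ (∀ r ∈ R, r ^ p ∈ K) ∧
      (∀ r ∈ R, ∀ s ∈ R, r * s * r⁻¹ * s⁻¹ ∈ K) ∧ ∀ g ∈ R, g ∉ K → Van g := by
  induction n using Nat.strong_induction_on with
  | _ n ih =>
    intro G _ _ hn hs hO hpG
    have hnt : Nontrivial G := by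
      rw [← Finite.one_lt_card_iff_nontrivial]
      exact lt_of_lt_of_le hp.out.one_lt (Nat.le_of_dvd Nat.card_pos hpG)
    obtain ⟨A, hA, hA1, hAc⟩ := exists_abelian_normal hs
    have hpA := not_dvd_card_of_core hO A hAc
    have hcardq : Nat.card G = Nat.card (G ⧸ A) * Nat.card A := Subgroup.card_eq_card_quotient_mul_card_subgroup A
    by_cases hOA : pCore p (G ⧸ A) = ⊥
    · have hlt : Nat.card (G ⧸ A) < n := by
        rw [← hn, hcardq]
        have h1 : 1 < Nat.card A := (Subgroup.one_lt_card_iff_ne_bot A).mpr hA1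
        exact lt_mul_of_one_lt_right Nat.card_pos h1
      have hpq : p ∣ Nat.card (G ⧸ A) := by
        rw [hcardq] at hpG
        exact (hp.out.dvd_mul.mp hpG).resolve_right hpA
      obtain ⟨K, R, hK, hR, hKR, hpK, hne, h1, h2, h3⟩ := ih _ hlt (G ⧸ A) rfl inferInstance hOA hpq
      refine ⟨K.comap (QuotientGroup.mk' A), R.comap (QuotientGroup.mk' A), inferInstance,
        inferInstance, Subgroup.comap_mono hKR, ?_, ?_, ?_, ?_, ?_⟩
      · intro h
        obtain ⟨k, hk⟩ := exists_prime_orderOf_dvd_card' p h
        have e1 : (k : G) ^ p = 1 := by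
          rw [← hk]
          exact congrArg Subtype.val (pow_orderOf_eq_one k)
        have e2 : QuotientGroup.mk' A (k : G) = 1 := by
          by_contra hne
          have e3 : orderOf (⟨QuotientGroup.mk' A (k : G), k.2⟩ : K) = p := by
            refine orderOf_eq_prime (Subtype.ext ?_) (fun h0 => hne (congrArg Subtype.val h0))
            show (QuotientGroup.mk' A (k : G)) ^ p = 1
            rw [← map_pow, e1, map_one]
          exact hpK (e3 ▸ orderOf_dvd_natCard _)
        have e4 : (k : G) ∈ A := (mk_one_iff A _).mp e2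
        have e5 : orderOf (⟨k, e4⟩ : A) = p := by
          refine orderOf_eq_prime (Subtype.ext e1) (fun h0 => ?_)
          have e6 : k = 1 := Subtype.ext (congrArg (fun z : A => (z : G)) h0)
          rw [e6, orderOf_one] at hk
          exact hp.out.one_lt.ne hk
        exact hpA (e5 ▸ orderOf_dvd_natCard _)
      · intro h
        exact hne (Subgroup.comap_injective (QuotientGroup.mk'_surjective A) h)
      · intro r hr
        rw [Subgroup.mem_comap, map_pow]
        exact h1 _ hr
      · intro r hr s hs
        rw [Subgroup.mem_comap, map_mul, map_mul, map_mul, map_inv, map_inv]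
        exact h2 _ hr _ hs
      · intro g hg hgK
        exact Van.of_quotient (h3 _ hg hgK)
    · -- the second case
      set O := pCore p (G ⧸ A) with hOdef
      have hOp : IsPGroup p O := Solv.pCore_isPGroup p
      haveI : Nontrivial O := (Subgroup.nontrivial_iff_ne_bot O).mpr hOA
      let D : Subgroup (G ⧸ A) :=
        { carrier := {z | z ∈ O ∧ (∀ y ∈ O, y * z = z * y) ∧ z ^ p = 1}
          one_mem' := ⟨O.one_mem, fun y _ => by rw [mul_one, one_mul], one_pow p⟩
          mul_mem' := by
            rintro a b ⟨ha, ha2, ha3⟩ ⟨hb, hb2, hb3⟩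
            refine ⟨O.mul_mem ha hb, fun y hy => ?_, ?_⟩
            · rw [← mul_assoc, ha2 y hy, mul_assoc, hb2 y hy, mul_assoc]
            · have : Commute a b := hb2 a ha
              rw [this.mul_pow, ha3, hb3, one_mul]
          inv_mem' := by
            rintro a ⟨ha, ha2, ha3⟩
            refine ⟨O.inv_mem ha, fun y hy => ?_, by rw [inv_pow, ha3, inv_one]⟩
            exact (Commute.inv_right (show Commute y a from ha2 y hy)) }
      have hDn : D.Normal := by
        refine ⟨fun z hz g => ⟨(Solv.pCore_normal p).conj_mem z hz.1 g, fun y hy => ?_, ?_⟩⟩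
        · have h1 : g⁻¹ * y * g ∈ O := by
            have := (Solv.pCore_normal p).conj_mem y hy g⁻¹
            rwa [inv_inv] at this
          have h2 := hz.2.1 _ h1
          calc y * (g * z * g⁻¹) = g * ((g⁻¹ * y * g) * z) * g⁻¹ := by group
            _ = g * (z * (g⁻¹ * y * g)) * g⁻¹ := by rw [h2]
            _ = g * z * g⁻¹ * y := by group
        · rw [conj_pow, hz.2.2, mul_one, mul_inv_cancel]
      have hDc : ∀ y ∈ D, ∀ z ∈ D, y * z = z * y := fun y hy z hz => hz.2.1 y hy.1
      obtain ⟨z0, hz0, hz01⟩ : ∃ z ∈ D, z ≠ 1 := by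
        haveI := hOp.center_nontrivial
        obtain ⟨z, hz⟩ := exists_ne (1 : Subgroup.center O)
        have hz' : ((z : O) : G ⧸ A) ≠ 1 := fun h => hz (Subtype.ext (Subtype.ext h))
        obtain ⟨k, hk⟩ := IsPGroup.iff_orderOf.mp hOp (z : O)
        have hk0 : k ≠ 0 := by
          rintro rfl
          rw [pow_zero, orderOf_eq_one_iff] at hk
          exact hz (Subtype.ext hk)
        obtain ⟨j, rfl⟩ := Nat.exists_eq_succ_of_ne_zero hk0
        refine ⟨((z : O) : G ⧸ A) ^ p ^ j, ⟨O.pow_mem (z : O).2 _, fun y hy => ?_, ?_⟩, ?_⟩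
        · have h1 : Commute y ((z : O) : G ⧸ A) :=
            congrArg Subtype.val (Subgroup.mem_center_iff.mp z.2 ⟨y, hy⟩)
          exact h1.pow_right _
        · rw [← pow_mul, ← pow_succ]
          have h1 := pow_orderOf_eq_one (z : O)
          rw [hk] at h1
          exact congrArg Subtype.val h1
        · intro h
          have h1 : (z : O) ^ p ^ j = 1 := Subtype.ext h
          have h2 := orderOf_dvd_of_pow_eq_one h1
          rw [hk, Nat.pow_dvd_pow_iff_le_right hp.out.one_lt] at h2
          omega
      refine ⟨A, D.comap (QuotientGroup.mk' A), hA, inferInstance, ?_, hpA, ?_, ?_, ?_, ?_⟩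
      · intro a ha
        rw [Subgroup.mem_comap]
        have : QuotientGroup.mk' A a = 1 := (mk_one_iff A a).mpr ha
        rw [this]; exact D.one_mem
      · intro h
        obtain ⟨g, rfl⟩ := QuotientGroup.mk'_surjective A z0
        have h1 : g ∈ A := by rw [← h]; exact hz0
        exact hz01 ((mk_one_iff A g).mpr h1)
      · intro r hr
        rw [← mk_one_iff A, map_pow]
        exact hr.2.2
      · intro r hr s hs
        rw [← mk_one_iff A, map_mul, map_mul, map_mul, map_inv,
          map_inv, hDc _ hr _ hs]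
        group
      · intro g hg hgA
        have hDcomap : (D.comap (QuotientGroup.mk' A)).Normal := inferInstance
        have hcomm : ∀ r ∈ D.comap (QuotientGroup.mk' A), ∀ s ∈ D.comap (QuotientGroup.mk' A),
            r * s * r⁻¹ * s⁻¹ ∈ A := by
          intro r hr s hs
          rw [← mk_one_iff A, map_mul, map_mul, map_mul, map_inv,
            map_inv, hDc _ hr _ hs]
          group
        have hexp : ∀ r ∈ D.comap (QuotientGroup.mk' A), r ^ p ∈ A := by
          intro r hr
          rw [← mk_one_iff A, map_pow]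
          exact hr.2.2
        refine van_of_act (p := p) A (D.comap (QuotientGroup.mk' A)) hcomm
          (fun r hr => ⟨1, by rw [pow_one]; exact hexp r hr⟩) hpA hg fun hact => ?_
        -- `g` centralizes `A`
        have hcent : ∀ a ∈ A, g * a = a * g := by
          intro a ha
          by_contra hne
          have h1 : (MulAut.conjNormal g (⟨a, ha⟩ : A)) * (⟨a, ha⟩ : A)⁻¹ ≠ 1 := by
            intro h
            apply hne
            have h2 := mul_inv_eq_one.mp h
            have h3 : g * a * g⁻¹ = a := congrArg Subtype.val h2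
            exact mul_inv_eq_iff_eq_mul.mp h3
          obtain ⟨w, hw⟩ := exists_linear_ne A hAc h1
          apply hw
          have h2 : act A g w = w := by rw [hact]; rfl
          rw [map_mul, map_inv, (act_eq_iff A g w).mp h2, mul_inv_cancel]
        let E : Subgroup G := D.comap (QuotientGroup.mk' A) ⊓ Subgroup.centralizer (A : Set G)
        have hEn : E.Normal := inferInstance
        have hE : ∀ y ∈ E, ∀ z ∈ E, y ^ p = 1 → z ^ p = 1 → y * z = z * y := by
          intro y hy z hz hyp hzp
          set c := y * z * y⁻¹ * z⁻¹ with hc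
          have hcA : c ∈ A := hcomm y hy.1 z hz.1
          have h1 : ∀ k : ℕ, y ^ k * z = c ^ k * z * y ^ k := by
            intro k
            induction k with
            | zero => simp
            | succ k ih =>
              have hyc : Commute y (c ^ k) := (show Commute y c from
                (Subgroup.mem_centralizer_iff.mp hy.2 c hcA).symm).pow_right k
              calc y ^ (k + 1) * z = y * (y ^ k * z) := by rw [pow_succ', mul_assoc]
                _ = y * (c ^ k * z * y ^ k) := by rw [ih]
                _ = (y * c ^ k) * z * y ^ k := by group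
                _ = c ^ k * (y * z) * y ^ k := by rw [hyc.eq]; group
                _ = c ^ k * (c * z * y) * y ^ k := by rw [hc]; group
                _ = c ^ (k + 1) * z * y ^ (k + 1) := by
                  rw [pow_succ c, pow_succ' y]; group
          have h2 := h1 p
          rw [hyp, one_mul, mul_one] at h2
          have h3 : c ^ p = 1 := right_eq_mul.mp h2
          have h4 : c = 1 := by
            have h5 : (⟨c, hcA⟩ : A) = 1 := eq_one_of_pow (a := p) (b := Nat.card A)
              ((Nat.Prime.coprime_iff_not_dvd hp.out).mpr hpA) (Subtype.ext h3) pow_card_eq_one'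
            exact congrArg Subtype.val h5
          rw [hc] at h4
          rwa [mul_inv_eq_one, mul_inv_eq_iff_eq_mul] at h4
        have hgE : g ∈ E := ⟨hg, Subgroup.mem_centralizer_iff.mpr fun a ha => (hcent a ha).symm⟩
        have h5 : (g ^ Nat.card A) ^ p = 1 := by
          rw [← pow_mul, mul_comm, pow_mul]
          have : (⟨g ^ p, hexp g hg⟩ : A) ^ Nat.card A = 1 := pow_card_eq_one'
          exact congrArg Subtype.val this
        have h6 := core_aux hO E hE _ (E.pow_mem hgE _) h5
        apply hgA
        rw [← mk_one_iff A]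
        refine eq_one_of_pow (a := p) (b := Nat.card A)
          ((Nat.Prime.coprime_iff_not_dvd hp.out).mpr hpA) ?_ ?_
        · rw [← map_pow, mk_one_iff]; exact hexp g hg
        · rw [← map_pow, h6, map_one]

end Cfsg.Agent.H75.VA
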