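import Cfsg.Agent.H75.VAb
import Cfsg.Agent.H91.GenCent

/-!
# Vanishing `p`-singular elements: structure (owner: helper75)
-/

set_option autoImplicit false
set_option linter.style.haveILetI false
set_option linter.unusedSectionVars false

namespace Cfsg.Agent.H75.VA

open scoped ComplexConjugate BigOperators
open Cfsg Cfsg.Agent.CharBase Cfsg.Agent.Char

universe u

variable {p : ℕ} [hp : Fact p.Prime] {G : Type u} [Group G] [Finite G]

theorem sing_gen {K : Subgroup G} {x : G} (hx : x ∉ K) (h : ∃ i : ℕ, x ^ p ^ i ∈ K) :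
    p ∣ orderOf x := by
  by_contra hcon
  obtain ⟨i, hi⟩ := h
  obtain ⟨m, hm⟩ := exists_pow_eq_self_of_coprime (x := x) (n := p ^ i)
    (Nat.Coprime.pow_left i ((Nat.Prime.coprime_iff_not_dvd hp.out).mpr hcon))
  apply hx
  rw [← hm]
  exact K.pow_mem hi m

theorem pow_eq_one_of_mem {K : Subgroup G} (hpK : ¬ p ∣ Nat.card K) {k : G} (hk : k ∈ K) {i : ℕ}
    (h : k ^ p ^ i = 1) : k = 1 := by
  have h1 : (⟨k, hk⟩ : K) = 1 := eq_one_of_pow (a := p ^ i) (b := Nat.card K)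
    (Nat.Coprime.pow_left i ((Nat.Prime.coprime_iff_not_dvd hp.out).mpr hpK)) (Subtype.ext h)
    pow_card_eq_one'
  exact congrArg Subtype.val h1

theorem fpf {K : Subgroup G} (hpK : ¬ p ∣ Nat.card K)
    (hel : ∀ g : G, Van g → p ∣ orderOf g → ∃ k : ℕ, orderOf g = p ^ k) {g : G} (hg : g ∉ K)
    (hgi : ∃ i : ℕ, g ^ p ^ i ∈ K) (hv : ∀ k ∈ K, k * g = g * k → Van (g * k)) :
    ∀ k ∈ K, k * g = g * k → k = 1 := by
  intro k hk hkg
  obtain ⟨i, hi⟩ := hgi
  have hc : Commute g k := hkg.symm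
  have h1 : ∀ k ∈ K, k * g = g * k → ∃ j : ℕ, orderOf (g * k) = p ^ j := by
    intro k hk hkg
    have hc : Commute g k := hkg.symm
    refine hel _ (hv k hk hkg) (sing_gen (K := K) (fun h => hg ?_) ⟨i, ?_⟩)
    · have := K.mul_mem h (K.inv_mem hk)
      rwa [mul_inv_cancel_right] at this
    · rw [hc.mul_pow]
      exact K.mul_mem hi (K.pow_mem hk _)
  obtain ⟨j, hj⟩ := h1 k hk hkg
  obtain ⟨l, hl⟩ := h1 1 K.one_mem (by rw [mul_one, one_mul])
  rw [mul_one] at hl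
  have h2 : (g * k) ^ p ^ (j + l) = 1 := by
    rw [pow_add, pow_mul, ← hj, pow_orderOf_eq_one, one_pow]
  have h3 : g ^ p ^ (j + l) = 1 := by
    rw [add_comm, pow_add, pow_mul, ← hl, pow_orderOf_eq_one, one_pow]
  rw [hc.mul_pow, h3, one_mul] at h2
  exact pow_eq_one_of_mem hpK hk h2

theorem fpf_lin {K : Subgroup G} [hK : K.Normal] {y : G} (hy : ∀ k ∈ K, k * y = y * k → k = 1)
    (w : K →* ℂˣ) (hw : act K y w = w) : w = 1 := by
  rw [act_eq_iff] at hw
  let f : K → K := fun k => MulAut.conjNormal y k * k⁻¹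
  have hf : Function.Injective f := by
    intro a b hab
    have h1 : y * a * y⁻¹ * (a : G)⁻¹ = y * b * y⁻¹ * (b : G)⁻¹ := congrArg Subtype.val hab
    have h2 : (b : G)⁻¹ * a * y = y * ((b : G)⁻¹ * a) := by
      have h3 : (a : G) * y⁻¹ * (a : G)⁻¹ = b * y⁻¹ * (b : G)⁻¹ := by
        have h4 : y⁻¹ * (y * a * y⁻¹ * (a : G)⁻¹) = y⁻¹ * (y * b * y⁻¹ * (b : G)⁻¹) := by rw [h1]
        calc (a : G) * y⁻¹ * (a : G)⁻¹ = y⁻¹ * (y * a * y⁻¹ * (a : G)⁻¹) := by group
          _ = y⁻¹ * (y * b * y⁻¹ * (b : G)⁻¹) := h4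
          _ = b * y⁻¹ * (b : G)⁻¹ := by group
      have h5 : (a : G) * y * (a : G)⁻¹ = b * y * (b : G)⁻¹ := by
        have := congrArg (·⁻¹) h3
        simp only [mul_inv_rev, inv_inv] at this
        rw [mul_assoc, mul_assoc]
        exact this
      calc (b : G)⁻¹ * a * y = (b : G)⁻¹ * (a * y * (a : G)⁻¹) * a := by group
        _ = (b : G)⁻¹ * (b * y * (b : G)⁻¹) * a := by rw [h5]
        _ = y * ((b : G)⁻¹ * a) := by group
    have h3 := hy ((b : G)⁻¹ * a) (K.mul_mem (K.inv_mem b.2) a.2) h2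
    exact Subtype.ext (inv_mul_eq_one.mp h3).symm
  have hs : Function.Surjective f := Finite.surjective_of_injective hf
  ext a
  obtain ⟨k, rfl⟩ := hs a
  show ((w (MulAut.conjNormal y k * k⁻¹) : ℂˣ) : ℂ) = 1
  rw [map_mul, map_inv, hw k, mul_inv_cancel, Units.val_one]

theorem exists_lin_ne {K : Subgroup G} (hs : Group.IsSolvable K) (hK : K ≠ ⊥) :
    ∃ w : K →* ℂˣ, w ≠ 1 := by
  haveI : Nontrivial K := (Subgroup.nontrivial_iff_ne_bot K).mpr hK
  have h1 : commutator K ≠ ⊤ := fun h => (Group.IsSolvable.commutator_lt_top_of_nontrivial K).ne h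
  have h2 : ∃ x : K, x ∉ commutator K := by
    by_contra hcon
    push Not at hcon
    exact h1 (eq_top_iff.mpr fun x _ => hcon x)
  obtain ⟨x, hx⟩ := h2
  have h3 : (Abelianization.of x : Abelianization K) ≠ 1 := by
    intro h
    apply hx
    rw [← Abelianization.ker_of, MonoidHom.mem_ker]; exact h
  haveI : NeZero ((Monoid.exponent (Abelianization K) : ℕ) : ℂ) := ⟨by
    exact_mod_cast Monoid.exponent_ne_zero_of_finite⟩
  obtain ⟨w, hw⟩ := CommGroup.exists_apply_ne_one_of_hasEnoughRootsOfUnity (Abelianization K) ℂ h3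
  refine ⟨w.comp Abelianization.of, fun h => hw ?_⟩
  have := DFunLike.congr_fun h x
  exact this

/-- the structure of `R` -/
theorem struct (hO : pCore p G = ⊥) {K R : Subgroup G} [hK : K.Normal] [hR : R.Normal]
    (hKR : K ≤ R) (hpK : ¬ p ∣ Nat.card K) (hne : R ≠ K) (hexp : ∀ r ∈ R, r ^ p ∈ K)
    (hcomm : ∀ r ∈ R, ∀ s ∈ R, r * s * r⁻¹ * s⁻¹ ∈ K)
    (hfpf : ∀ g ∈ R, g ∉ K → ∀ k ∈ K, k * g = g * k → k = 1) :
    K ≠ ⊥ ∧ ∃ x : G, x ∈ R ∧ x ∉ K ∧ x ^ p = 1 ∧ (∀ r ∈ R, ∃ k ∈ K, ∃ j : ℕ, r = k * x ^ j) ∧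
      (∀ g : G, ∃ m ∈ Subgroup.normalizer ((Subgroup.zpowers x : Subgroup G) : Set G),
        ∃ k ∈ K, g = m * k) ∧
      ∀ P : Subgroup G, IsPGroup p P → Subgroup.zpowers x ≤ P → P ⊓ R = Subgroup.zpowers x := by
  classical
  have hK1 : K ≠ ⊥ := by
    intro h
    have h1 : IsPGroup p R := fun r => ⟨1, Subtype.ext (by
      have := hexp r r.2
      rw [h, Subgroup.mem_bot] at this
      rw [pow_one]; exact this)⟩
    have h2 : R ≤ pCore p G := Solv.le_pCore hR h1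
    rw [hO, le_bot_iff] at h2
    exact hne (by rw [h2, h])
  refine ⟨hK1, ?_⟩
  obtain ⟨Q0⟩ : Nonempty (Sylow p R) := inferInstance
  set Q : Subgroup G := (Q0 : Subgroup R).map R.subtype with hQ
  have hQR : Q ≤ R := Subgroup.map_subtype_le _
  have hQp : IsPGroup p Q := Q0.2.map R.subtype
  have hQK : ∀ q ∈ Q, q ∈ K → q = 1 := by
    intro q hq hqK
    obtain ⟨i, hi⟩ := hQp ⟨q, hq⟩
    exact pow_eq_one_of_mem hpK hqK (i := i) (congrArg Subtype.val hi)
  have hQexp : ∀ q ∈ Q, q ^ p = 1 := fun q hq => hQK _ (Q.pow_mem hq p) (hexp q (hQR hq))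
  have hQcomm : ∀ a ∈ Q, ∀ b ∈ Q, a * b = b * a := by
    intro a ha b hb
    have h1 := hQK _ (Q.mul_mem (Q.mul_mem (Q.mul_mem ha hb) (Q.inv_mem ha)) (Q.inv_mem hb))
      (hcomm a (hQR ha) b (hQR hb))
    rwa [mul_inv_eq_one, mul_inv_eq_iff_eq_mul] at h1
  -- `R = K Q`
  have hsup : K ⊔ Q = R := by
    apply le_antisymm (sup_le hKR hQR)
    have h1 : (K.subgroupOf R) ⊔ (Q0 : Subgroup R) = ⊤ := by
      rw [← Subgroup.index_eq_one]
      have h2 : ((K.subgroupOf R) ⊔ (Q0 : Subgroup R)).index ∣ (K.subgroupOf R).index :=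
        Subgroup.index_dvd_of_le le_sup_left
      have h3 : ((K.subgroupOf R) ⊔ (Q0 : Subgroup R)).index ∣ (Q0 : Subgroup R).index :=
        Subgroup.index_dvd_of_le le_sup_right
      have h4 : IsPGroup p (R ⧸ K.subgroupOf R) := by
        intro z
        obtain ⟨r, rfl⟩ := QuotientGroup.mk'_surjective (K.subgroupOf R) z
        refine ⟨1, ?_⟩
        rw [pow_one, ← map_pow, mk_one_iff, Subgroup.mem_subgroupOf]
        exact hexp r r.2
      obtain ⟨i, hi⟩ := IsPGroup.iff_card.mp h4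
      rw [Subgroup.index_eq_card (K.subgroupOf R), hi] at h2
      have h5 : ¬ p ∣ (Q0 : Subgroup R).index := Q0.not_dvd_index
      obtain ⟨j, -, hj⟩ := (Nat.dvd_prime_pow hp.out).mp h2
      rcases Nat.eq_zero_or_pos j with h6 | h6
      · rw [hj, h6, pow_zero]
      · exfalso
        apply h5
        exact (dvd_trans (dvd_pow_self p h6.ne') (hj ▸ dvd_rfl)).trans h3
    intro r hr
    have h2 : (⟨r, hr⟩ : R) ∈ (K.subgroupOf R) ⊔ (Q0 : Subgroup R) := by rw [h1]; trivial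
    have h3 := Subgroup.mem_map_of_mem R.subtype h2
    rw [Subgroup.map_sup, Subgroup.subgroupOf_map_subtype, inf_eq_left.mpr hKR] at h3
    exact h3
  have hKQ : ∀ r ∈ R, ∃ k ∈ K, ∃ q ∈ Q, r = k * q := by
    intro r hr
    have h1 : r ∈ ((K ⊔ Q : Subgroup G) : Set G) := by rw [hsup]; exact hr
    rw [Subgroup.normal_mul] at h1
    obtain ⟨k, hk, q, hq, rfl⟩ := Set.mem_mul.mp h1
    exact ⟨k, hk, q, hq, rfl⟩
  have hQ1 : Q ≠ ⊥ := by
    intro h
    rw [h, sup_bot_eq] at hsup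
    exact hne hsup.symm
  -- `Q` is cyclic
  haveI hQcom : IsMulCommutative Q := ⟨⟨fun a b => Subtype.ext (hQcomm a a.2 b b.2)⟩⟩
  have hcyc : IsCyclic Q := by
    by_contra hcon
    have h1 : (Nat.card Q).Coprime (Nat.card K) := by
      obtain ⟨i, hi⟩ := IsPGroup.iff_card.mp hQp
      rw [hi]
      exact Nat.Coprime.pow_left i ((Nat.Prime.coprime_iff_not_dvd hp.out).mpr hpK)
    have h2 := H91.genCent_eq Q K hcon (Subgroup.le_normalizer_of_normal) h1
    apply hK1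
    rw [← h2]
    unfold H91.genCent
    rw [eq_bot_iff]
    refine iSup₂_le fun a ha => ?_
    rintro k ⟨hk, hka'⟩
    have hka : k ∈ Subgroup.centralizer {a} := hka'
    rw [Subgroup.mem_centralizer_singleton_iff] at hka
    exact Subgroup.mem_bot.mpr (hfpf a (hQR ha.1) (fun h => ha.2 (hQK a ha.1 h)) k hk hka)
  obtain ⟨⟨x, hxQ⟩, hx⟩ := hcyc.exists_generator
  have hQx : Q = Subgroup.zpowers x := by
    apply le_antisymm
    · intro q hq
      obtain ⟨i, hi⟩ := Subgroup.mem_zpowers_iff.mp (hx ⟨q, hq⟩)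
      exact Subgroup.mem_zpowers_iff.mpr ⟨i, congrArg Subtype.val hi⟩
    · rw [Subgroup.zpowers_le]; exact hxQ
  have hx1 : x ≠ 1 := by
    rintro rfl
    apply hQ1
    rw [hQx, Subgroup.zpowers_one_eq_bot]
  refine ⟨x, hQR hxQ, fun h => hx1 (hQK x hxQ h), hQexp x hxQ, ?_, ?_, ?_⟩
  · intro r hr
    obtain ⟨k, hk, q, hq, rfl⟩ := hKQ r hr
    rw [hQx] at hq
    obtain ⟨j, rfl⟩ := (mem_powers_iff_mem_zpowers).mpr hq
    exact ⟨k, hk, j, rfl⟩
  · intro g
    have h1 := Sylow.normalizer_sup_eq_top Q0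
    have h2 : Subgroup.normalizer ((Q : Subgroup G) : Set G) ⊔ K = ⊤ := by
      rw [eq_top_iff, ← h1]
      refine sup_le le_sup_left fun r hr => ?_
      obtain ⟨k, hk, q, hq, rfl⟩ := hKQ r hr
      exact Subgroup.mul_mem _ (Subgroup.mem_sup_right hk)
        (Subgroup.mem_sup_left (Subgroup.le_normalizer hq))
    have h3 : g ∈ ((Subgroup.normalizer ((Q : Subgroup G) : Set G) ⊔ K : Subgroup G) : Set G) := by
      rw [h2]; trivial
    rw [Subgroup.mul_normal] at h3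
    obtain ⟨m, hm, k, hk, rfl⟩ := Set.mem_mul.mp h3
    rw [hQx] at hm
    exact ⟨m, hm, k, hk, rfl⟩
  · intro P hP hQP
    rw [← hQx] at hQP ⊢
    have h1 : IsPGroup p ((P ⊓ R).subgroupOf R) := (hP.to_le inf_le_left).comap_subtype
    have h2 : (Q0 : Subgroup R) ≤ (P ⊓ R).subgroupOf R := by
      intro r hr
      rw [Subgroup.mem_subgroupOf]
      exact ⟨hQP (Subgroup.mem_map_of_mem R.subtype hr), r.2⟩
    have h3 := Q0.is_maximal' h1 h2
    have h4 := congrArg (Subgroup.map R.subtype) h3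
    rw [Subgroup.subgroupOf_map_subtype, inf_assoc, inf_idem] at h4
    exact h4

end Cfsg.Agent.H75.VA
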