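import Cfsg.Agent.H75.VAc

/-!
# Vanishing `p`-singular elements: the Sylow subgroup (owner: helper75)
-/

set_option autoImplicit false
set_option linter.style.haveILetI false
set_option linter.unusedSectionVars false

namespace Cfsg.Agent.H75.VA

open scoped ComplexConjugate BigOperators
open Cfsg Cfsg.Agent.CharBase Cfsg.Agent.Char

universe u

variable {p : ℕ} [hp : Fact p.Prime] {G : Type u} [Group G] [Finite G]

/-- the group generated by two commuting elements -/
def two {b x : G} (hc : Commute b x) : Subgroup G where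
  carrier := {y | ∃ i j : ℤ, y = b ^ i * x ^ j}
  one_mem' := ⟨0, 0, by simp⟩
  mul_mem' := by
    rintro _ _ ⟨i, j, rfl⟩ ⟨k, l, rfl⟩
    refine ⟨i + k, j + l, ?_⟩
    have h1 : Commute (x ^ j) (b ^ k) := (hc.symm.zpow_zpow j k)
    rw [zpow_add, zpow_add]
    calc b ^ i * x ^ j * (b ^ k * x ^ l) = b ^ i * (x ^ j * b ^ k) * x ^ l := by group
      _ = b ^ i * (b ^ k * x ^ j) * x ^ l := by rw [h1.eq]
      _ = b ^ i * b ^ k * (x ^ j * x ^ l) := by group
  inv_mem' := by
    rintro _ ⟨i, j, rfl⟩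
    refine ⟨-i, -j, ?_⟩
    have h1 : Commute (b ^ i) (x ^ j) := hc.zpow_zpow i j
    rw [h1.eq, mul_inv_rev, zpow_neg, zpow_neg]

theorem gen_le {K L : Subgroup G} [hK : K.Normal] (hpK : ¬ p ∣ Nat.card K) {b x : G}
    (hc : Commute b x) (hb : b ^ p = 1) (hx : x ^ p = 1) (hbx : b ∉ Subgroup.zpowers x) (hx1 : x ≠ 1)
    (h : ∀ i j : ℤ, b ^ i * x ^ j ≠ 1 → ∀ k ∈ K, k * (b ^ i * x ^ j) = (b ^ i * x ^ j) * k → k ∈ L) :
    K ≤ L := by
  have hexp : ∀ y : two hc, y ^ p = 1 := by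
    rintro ⟨_, i, j, rfl⟩
    apply Subtype.ext
    show (b ^ i * x ^ j) ^ p = 1
    rw [(hc.zpow_zpow i j).mul_pow, ← zpow_natCast, ← zpow_natCast, ← zpow_mul, ← zpow_mul,
      mul_comm i, mul_comm j, zpow_mul, zpow_mul, zpow_natCast, zpow_natCast, hb, hx, one_zpow,
      one_zpow, mul_one]
  have hcomm : ∀ y z : two hc, y * z = z * y := by
    rintro ⟨_, i, j, rfl⟩ ⟨_, k, l, rfl⟩
    apply Subtype.ext
    have h1 : Commute (b ^ i * x ^ j) (b ^ k * x ^ l) :=
      (((Commute.refl b).zpow_zpow i k).mul_right (hc.zpow_zpow i l)).mul_left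
        ((hc.symm.zpow_zpow j k).mul_right ((Commute.refl x).zpow_zpow j l))
    exact h1
  haveI : IsMulCommutative (two hc) := ⟨⟨hcomm⟩⟩
  have hncyc : ¬ IsCyclic (two hc) := by
    intro hcyc
    obtain ⟨g, hg⟩ := hcyc.exists_generator
    have h1 : Nat.card (two hc) ∣ p := by
      rw [← orderOf_eq_card_of_forall_mem_zpowers hg]
      exact orderOf_dvd_of_pow_eq_one (hexp g)
    have h2 : Subgroup.zpowers x ≤ two hc := by
      rw [Subgroup.zpowers_le]
      exact ⟨0, 1, by simp⟩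
    have h3 : Nat.card (Subgroup.zpowers x) = p := by
      rw [Nat.card_zpowers, orderOf_eq_prime hx hx1]
    have h4 : Subgroup.zpowers x = two hc := by
      apply Subgroup.eq_of_le_of_card_ge h2
      rw [h3]
      exact Nat.le_of_dvd hp.out.pos h1
    apply hbx
    rw [h4]
    exact ⟨1, 0, by simp⟩
  have hpg : IsPGroup p (two hc) := fun y => ⟨1, by rw [pow_one]; exact hexp y⟩
  have hcop : (Nat.card (two hc)).Coprime (Nat.card K) := by
    obtain ⟨i, hi⟩ := IsPGroup.iff_card.mp hpg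
    rw [hi]
    exact Nat.Coprime.pow_left i ((Nat.Prime.coprime_iff_not_dvd hp.out).mpr hpK)
  have h1 := H91.genCent_eq (two hc) K hncyc Subgroup.le_normalizer_of_normal hcop
  rw [← h1]
  unfold H91.genCent
  refine iSup₂_le ?_
  rintro _ ⟨⟨i, j, rfl⟩, hne⟩ k ⟨hk, hk2⟩
  have hk3 : k ∈ Subgroup.centralizer {b ^ i * x ^ j} := hk2
  rw [Subgroup.mem_centralizer_singleton_iff] at hk3
  exact h i j hne k hk hk3

theorem exists_order_p {y : G} (hy : y ≠ 1) (h : ∃ i : ℕ, y ^ p ^ i = 1) :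
    ∃ j : ℕ, y ^ j ≠ 1 ∧ (y ^ j) ^ p = 1 := by
  classical
  have h0 : Nat.find h ≠ 0 := by
    intro h0
    have h1 := Nat.find_spec h
    rw [h0, pow_zero, pow_one] at h1
    exact hy h1
  obtain ⟨k, hk⟩ := Nat.exists_eq_succ_of_ne_zero h0
  refine ⟨p ^ k, Nat.find_min h (by omega), ?_⟩
  have h1 := Nat.find_spec h
  rw [hk, Nat.succ_eq_add_one, pow_succ, pow_mul] at h1
  exact h1

theorem MT (hs : Group.IsSolvable G) (hO : pCore p G = ⊥)
    (hel : ∀ g : G, Van g → p ∣ orderOf g → ∃ k : ℕ, orderOf g = p ^ k)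
    (h2 : ∀ g : G, Van g → p ∣ orderOf g → Van (g ^ p) → ¬ p ∣ orderOf (g ^ p)) :
    ∀ P : Sylow p G, Nat.card P ∣ p := by
  classical
  by_cases hpG : p ∣ Nat.card G
  swap
  · intro P
    obtain ⟨i, hi⟩ := IsPGroup.iff_card.mp P.2
    rcases Nat.eq_zero_or_pos i with h0 | h0
    · rw [hi, h0, pow_zero]; exact one_dvd _
    · exfalso
      apply hpG
      exact (dvd_pow_self p h0.ne').trans (hi ▸ Subgroup.card_subgroup_dvd_card (P : Subgroup G))
  obtain ⟨K, R, hK, hR, hKR, hpK, hne, hexp, hcomm, hvan⟩ := T1 _ G rfl hs hO hpG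
  have hfpf : ∀ g ∈ R, g ∉ K → ∀ k ∈ K, k * g = g * k → k = 1 := fun g hg hgK =>
    fpf hpK hel hgK ⟨1, by rw [pow_one]; exact hexp g hg⟩ (fun k hk _ => hvan _
      (R.mul_mem hg (hKR hk)) (fun h => hgK (by
        have := K.mul_mem h (K.inv_mem hk)
        rwa [mul_inv_cancel_right] at this)))
  obtain ⟨hK1, x, hxR, hxK, hxp, hRx, hfr, hPR⟩ := struct hO hKR hpK hne hexp hcomm hfpf
  set Q : Subgroup G := Subgroup.zpowers x with hQ
  have hx1 : x ≠ 1 := fun h => hxK (by rw [h]; exact K.one_mem)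
  have hox : orderOf x = p := orderOf_eq_prime hxp hx1
  have hxQ : x ∈ Q := Subgroup.mem_zpowers x
  have hQR : Q ≤ R := by rw [hQ, Subgroup.zpowers_le]; exact hxR
  set C : Subgroup G := Subgroup.centralizer ({x} : Set G) with hC
  have hCx : ∀ c, c ∈ C ↔ c * x = x * c := fun c => Subgroup.mem_centralizer_singleton_iff
  have hCQc : ∀ c ∈ C, ∀ q ∈ Q, c * q = q * c := by
    intro c hc q hq
    obtain ⟨i, rfl⟩ := Subgroup.mem_zpowers_iff.mp hq
    exact (show Commute c x from (hCx c).mp hc).zpow_right i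
  have hQC : Q ≤ C := by
    rw [hQ, Subgroup.zpowers_le, hCx]
  have hCK : ∀ c ∈ C, c ∈ K → c = 1 := fun c hc hcK => hfpf x hxR hxK c hcK ((hCx c).mp hc)
  have hQK : ∀ q ∈ Q, q ≠ 1 → q ∉ K := fun q hq hq1 hqK => hq1 (hCK q (hQC hq) hqK)
  have hsK : Group.IsSolvable K := inferInstance
  obtain ⟨w, hw⟩ := exists_lin_ne hsK hK1
  -- `C` is a `p`-group
  have hCp' : ∀ c ∈ C, ¬ p ∣ orderOf c → c = 1 := by
    intro c hc hpc
    by_contra hc1
    have hcx : Commute x c := ((hCx c).mp hc).symm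
    have hcop : (orderOf x).Coprime (orderOf c) := by
      rw [hox]; exact (Nat.Prime.coprime_iff_not_dvd hp.out).mpr hpc
    have ho := hcx.orderOf_mul_eq_mul_orderOf_of_coprime hcop
    have hv : Van (x * c) := by
      refine van_of_linear K w (x * c) fun t => ?_
      by_contra hcon
      push Not at hcon
      have e1 : act K (t⁻¹ * (x * c) * t) w = w := (act_eq_iff K _ w).mpr hcon
      obtain ⟨m, hm1, hm2⟩ := Nat.chineseRemainder hcop 1 0
      have e2 : (x * c) ^ m = x := by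
        rw [hcx.mul_pow]
        have e3 : x ^ m = x ^ 1 := pow_eq_pow_iff_modEq.mpr hm1
        have e4 : c ^ m = c ^ 0 := pow_eq_pow_iff_modEq.mpr hm2
        rw [e3, e4, pow_one, pow_zero, mul_one]
      have e5 : ∀ m : ℕ, act K ((t⁻¹ * (x * c) * t) ^ m) w = w := by
        intro m
        induction m with
        | zero => rw [pow_zero, map_one]; rfl
        | succ m ih => rw [pow_succ, map_mul, MulAut.mul_apply, e1, ih]
      have e6 : (t⁻¹ * (x * c) * t) ^ m = t⁻¹ * x * t := by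
        have := conj_pow (a := t⁻¹) (b := x * c) (i := m)
        rw [inv_inv] at this
        rw [this, e2]
      have e7 := e5 m
      rw [e6] at e7
      have e8 : t⁻¹ * x * t ∈ R := by
        have := hR.conj_mem x hxR t⁻¹
        rwa [inv_inv] at this
      have e9 : t⁻¹ * x * t ∉ K := by
        intro h
        have h3 := hK.conj_mem _ h t
        apply hxK
        have h4 : t * (t⁻¹ * x * t) * t⁻¹ = x := by group
        rwa [h4] at h3
      exact hw (fpf_lin (hfpf _ e8 e9) w e7)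
    obtain ⟨k, hk⟩ := hel _ hv (by rw [ho, hox]; exact dvd_mul_right _ _)
    rw [ho, hox] at hk
    have h3 : orderOf c ∣ p ^ k := ⟨p, by rw [← hk, mul_comm]⟩
    obtain ⟨i, -, hi⟩ := (Nat.dvd_prime_pow hp.out).mp h3
    rcases Nat.eq_zero_or_pos i with h0 | h0
    · rw [h0, pow_zero, orderOf_eq_one_iff] at hi
      exact hc1 hi
    · exact hpc (by rw [hi]; exact dvd_pow_self p h0.ne')
  have hCpow : ∀ c ∈ C, ∃ i : ℕ, c ^ p ^ i = 1 := by
    intro c hc
    obtain ⟨i, m, hm, hcm⟩ := Nat.exists_eq_pow_mul_and_not_dvd (orderOf_pos c).ne' p hp.out.ne_one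
    refine ⟨i, hCp' _ (C.pow_mem hc _) ?_⟩
    rw [orderOf_pow_of_dvd (pow_pos hp.out.pos i).ne' ⟨m, hcm⟩, hcm,
      Nat.mul_div_cancel_left _ (pow_pos hp.out.pos i)]
    exact hm
  have hCpowK : ∀ c ∈ C, ∃ i : ℕ, c ^ p ^ i ∈ K := fun c hc => by
    obtain ⟨i, hi⟩ := hCpow c hc
    exact ⟨i, by rw [hi]; exact K.one_mem⟩
  -- the final contradiction
  have fin : ∀ C₁ : Subgroup G, C₁ ≤ C → x ∈ C₁ → (∀ a ∈ C₁, a ≠ 1 → ∀ k ∈ K, Van (a * k)) →
      C₁ ≤ Q := by
    intro C₁ hC₁ hxC₁ hgood c hc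
    by_contra hcQ
    have hf1 : ∀ a ∈ C₁, a ≠ 1 → ∀ k ∈ K, k * a = a * k → k = 1 := fun a ha ha1 =>
      fpf hpK hel (fun h => ha1 (hCK a (hC₁ ha) h)) (hCpowK a (hC₁ ha))
        (fun k hk _ => hgood a ha ha1 k hk)
    have hord : ∀ b ∈ C₁, b ^ p = 1 → b ∈ Q := by
      intro b hb hbp
      by_contra hbQ
      have hcb : Commute b x := (hCx b).mp (hC₁ hb)
      have h3 : K ≤ ⊥ := gen_le hpK hcb hbp hxp hbQ hx1 fun i j hij k hk hkc =>
        Subgroup.mem_bot.mpr (hf1 _ (C₁.mul_mem (C₁.zpow_mem hb i) (C₁.zpow_mem hxC₁ j)) hij k hk hkc)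
      exact hK1 (le_bot_iff.mp h3)
    have hcp : c ^ p ≠ 1 := fun h => hcQ (hord c hc h)
    have hc1 : c ≠ 1 := fun h => hcQ (by rw [h]; exact Q.one_mem)
    have e1 : Van c := by
      have := hgood c hc hc1 1 K.one_mem
      rwa [mul_one] at this
    have e2 : Van (c ^ p) := by
      have := hgood (c ^ p) (C₁.pow_mem hc p) hcp 1 K.one_mem
      rwa [mul_one] at this
    have e3 : p ∣ orderOf c := sing_gen (K := K) (fun h => hc1 (hCK c (hC₁ hc) h)) (hCpowK c (hC₁ hc))
    have e4 : p ∣ orderOf (c ^ p) := sing_gen (K := K)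
      (fun h => hcp (hCK _ (C.pow_mem (hC₁ hc) p) h)) (hCpowK _ (C.pow_mem (hC₁ hc) p))
    exact h2 c e1 e3 e2 e4
  -- normalizer facts
  have hNQ : ∀ m ∈ Subgroup.normalizer (Q : Set G), ∀ q ∈ Q, m * q * m⁻¹ ∈ Q := fun m hm q hq =>
    (Subgroup.mem_normalizer_iff.mp hm q).mp hq
  have hNC : ∀ m ∈ Subgroup.normalizer (Q : Set G), ∀ c ∈ C, m * c * m⁻¹ ∈ C := by
    intro m hm c hc
    rw [hCx]
    have h3 : m⁻¹ * x * m ∈ Q := by
      have := hNQ m⁻¹ (Subgroup.inv_mem _ hm) x hxQ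
      rwa [inv_inv] at this
    have h4 := hCQc c hc _ h3
    calc m * c * m⁻¹ * x = m * (c * (m⁻¹ * x * m)) * m⁻¹ := by group
      _ = m * ((m⁻¹ * x * m) * c) * m⁻¹ := by rw [h4]
      _ = x * (m * c * m⁻¹) := by group
  have hnorm : ∀ C₁ : Subgroup G, (∀ m ∈ Subgroup.normalizer (Q : Set G), ∀ c ∈ C₁, m * c * m⁻¹ ∈ C₁) →
      (K ⊔ C₁).Normal := by
    intro C₁ hC₁
    refine ⟨fun y hy g => ?_⟩
    obtain ⟨m, hm, k, hk, rfl⟩ := hfr g
    have hk' : k ∈ K ⊔ C₁ := Subgroup.mem_sup_left hk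
    have h3 : k * y * k⁻¹ ∈ K ⊔ C₁ := Subgroup.mul_mem _ (Subgroup.mul_mem _ hk' hy)
      (Subgroup.inv_mem _ hk')
    have h4 : k * y * k⁻¹ ∈ ((K ⊔ C₁ : Subgroup G) : Set G) := h3
    rw [Subgroup.normal_mul] at h4
    obtain ⟨k', hk', c, hc, h5⟩ := Set.mem_mul.mp h4
    have h6 : m * k * y * (m * k)⁻¹ = (m * k' * m⁻¹) * (m * c * m⁻¹) := by
      calc m * k * y * (m * k)⁻¹ = m * (k * y * k⁻¹) * m⁻¹ := by group
        _ = m * (k' * c) * m⁻¹ := by rw [h5]
        _ = (m * k' * m⁻¹) * (m * c * m⁻¹) := by group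
    rw [h6]
    exact Subgroup.mul_mem _ (Subgroup.mem_sup_left (hK.conj_mem k' hk' m))
      (Subgroup.mem_sup_right (hC₁ m hm c hc))
  have hgoodQ : ∀ a ∈ Q, a ≠ 1 → ∀ k ∈ K, Van (a * k) := by
    intro a ha ha1 k hk
    refine hvan _ (R.mul_mem (hQR ha) (hKR hk)) fun h => hQK a ha ha1 ?_
    have := K.mul_mem h (K.inv_mem hk)
    rwa [mul_inv_cancel_right] at this
  have hCQ : C ≤ Q := by
    by_contra hcon
    let Z₂ : Subgroup G :=
      { carrier := {c | c ∈ C ∧ ∀ d ∈ C, c * d * c⁻¹ * d⁻¹ ∈ Q}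
        one_mem' := ⟨C.one_mem, fun d _ => by
          have : (1 : G) * d * 1⁻¹ * d⁻¹ = 1 := by group
          rw [this]; exact Q.one_mem⟩
        mul_mem' := by
          rintro a b ⟨ha, ha2⟩ ⟨hb, hb2⟩
          refine ⟨C.mul_mem ha hb, fun d hd => ?_⟩
          have h3 := hb2 d hd
          have h4 := hCQc a ha _ h3
          have h5 : a * b * d * (a * b)⁻¹ * d⁻¹ = (b * d * b⁻¹ * d⁻¹) * (a * d * a⁻¹ * d⁻¹) := by
            calc a * b * d * (a * b)⁻¹ * d⁻¹ = (a * (b * d * b⁻¹ * d⁻¹)) * (d * a⁻¹ * d⁻¹) := by group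
              _ = ((b * d * b⁻¹ * d⁻¹) * a) * (d * a⁻¹ * d⁻¹) := by rw [h4]
              _ = _ := by group
          rw [h5]
          exact Q.mul_mem h3 (ha2 d hd)
        inv_mem' := by
          rintro a ⟨ha, ha2⟩
          refine ⟨C.inv_mem ha, fun d hd => ?_⟩
          have h3 := ha2 d hd
          have h4 := hCQc a⁻¹ (C.inv_mem ha) _ (Q.inv_mem h3)
          have h5 : a⁻¹ * d * a⁻¹⁻¹ * d⁻¹ = (a * d * a⁻¹ * d⁻¹)⁻¹ := by
            calc a⁻¹ * d * a⁻¹⁻¹ * d⁻¹ = a⁻¹ * (a * d * a⁻¹ * d⁻¹)⁻¹ * a := by group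
              _ = (a * d * a⁻¹ * d⁻¹)⁻¹ * a⁻¹ * a := by rw [h4]
              _ = _ := by group
          rw [h5]
          exact Q.inv_mem h3 }
    have hZC : Z₂ ≤ C := fun c hc => hc.1
    have hQZ : Q ≤ Z₂ := fun q hq => ⟨hQC hq, fun d hd => by
      have h3 := hCQc d hd q hq
      have h4 : q * d * q⁻¹ * d⁻¹ = 1 := by
        rw [← h3]; group
      rw [h4]; exact Q.one_mem⟩
    have hZN : ∀ m ∈ Subgroup.normalizer (Q : Set G), ∀ c ∈ Z₂, m * c * m⁻¹ ∈ Z₂ := by
      rintro m hm c ⟨hc, hc2⟩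
      refine ⟨hNC m hm c hc, fun d hd => ?_⟩
      have h3 : m⁻¹ * d * m ∈ C := by
        have := hNC m⁻¹ (Subgroup.inv_mem _ hm) d hd
        rwa [inv_inv] at this
      have h4 := hNQ m hm _ (hc2 _ h3)
      have h5 : m * c * m⁻¹ * d * (m * c * m⁻¹)⁻¹ * d⁻¹ =
          m * (c * (m⁻¹ * d * m) * c⁻¹ * (m⁻¹ * d * m)⁻¹) * m⁻¹ := by group
      rw [h5]; exact h4
    -- `Z₂` is bigger than `Q`
    obtain ⟨z0, hz0, hz0Q⟩ : ∃ z ∈ Z₂, z ∉ Q := by
      haveI hQn : (Q.subgroupOf C).Normal := ⟨fun q hq c => by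
        rw [Subgroup.mem_subgroupOf] at hq ⊢
        have h3 := hCQc c c.2 _ hq
        rw [Subgroup.coe_mul, Subgroup.coe_mul, Subgroup.coe_inv, h3, mul_inv_cancel_right]
        exact hq⟩
      have hCp : IsPGroup p C := fun c => by
        obtain ⟨i, hi⟩ := hCpow c c.2
        exact ⟨i, Subtype.ext hi⟩
      have hqp : IsPGroup p (C ⧸ Q.subgroupOf C) := hCp.to_quotient _
      haveI : Nontrivial (C ⧸ Q.subgroupOf C) := by
        obtain ⟨c, hc, hcQ⟩ := Set.not_subset.mp hcon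
        refine ⟨QuotientGroup.mk' _ ⟨c, hc⟩, 1, fun h => hcQ ?_⟩
        rw [mk_one_iff, Subgroup.mem_subgroupOf] at h
        exact h
      haveI := hqp.center_nontrivial
      obtain ⟨z, hz⟩ := exists_ne (1 : Subgroup.center (C ⧸ Q.subgroupOf C))
      obtain ⟨c, hcz⟩ := QuotientGroup.mk'_surjective (Q.subgroupOf C) (z : C ⧸ Q.subgroupOf C)
      refine ⟨c, ⟨c.2, fun d hd => ?_⟩, fun h => hz (Subtype.ext ?_)⟩
      · have h3 := Subgroup.mem_center_iff.mp z.2 (QuotientGroup.mk' _ ⟨d, hd⟩)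
        rw [← hcz] at h3
        have h4 : QuotientGroup.mk' (Q.subgroupOf C) (c * ⟨d, hd⟩ * c⁻¹ * ⟨d, hd⟩⁻¹) = 1 := by
          rw [map_mul, map_mul, map_mul, map_inv, map_inv, ← h3]
          group
        rw [mk_one_iff, Subgroup.mem_subgroupOf] at h4
        exact h4
      · rw [← hcz]
        exact (mk_one_iff _ _).mpr (Subgroup.mem_subgroupOf.mpr h)
    let ZZ : Subgroup G := Z₂ ⊓ Subgroup.centralizer (Z₂ : Set G)
    have hZZ : ∀ c, c ∈ ZZ ↔ c ∈ Z₂ ∧ ∀ d ∈ Z₂, d * c = c * d := fun c => by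
      rw [Subgroup.mem_inf, Subgroup.mem_centralizer_iff]; rfl
    by_cases hA : ∃ c ∈ ZZ, c ∉ Q
    · -- the abelian case
      have hZZC : ZZ ≤ C := inf_le_left.trans hZC
      have hxZZ : x ∈ ZZ := (hZZ x).mpr ⟨hQZ hxQ, fun d hd => (hCx d).mp (hZC hd)⟩
      have hZZN : ∀ m ∈ Subgroup.normalizer (Q : Set G), ∀ c ∈ ZZ, m * c * m⁻¹ ∈ ZZ := by
        intro m hm c hc
        rw [hZZ] at hc ⊢
        refine ⟨hZN m hm c hc.1, fun d hd => ?_⟩
        have h3 : m⁻¹ * d * m ∈ Z₂ := by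
          have := hZN m⁻¹ (Subgroup.inv_mem _ hm) d hd
          rwa [inv_inv] at this
        have h4 := hc.2 _ h3
        calc d * (m * c * m⁻¹) = m * ((m⁻¹ * d * m) * c) * m⁻¹ := by group
          _ = m * (c * (m⁻¹ * d * m)) * m⁻¹ := by rw [h4]
          _ = m * c * m⁻¹ * d := by group
      haveI hR1 := hnorm ZZ hZZN
      have hmem : ∀ r ∈ K ⊔ ZZ, ∃ k ∈ K, ∃ c ∈ ZZ, k * c = r := by
        intro r hr
        have h3 : r ∈ ((K ⊔ ZZ : Subgroup G) : Set G) := hr
        rw [Subgroup.normal_mul] at h3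
        obtain ⟨k, hk, c, hc, h4⟩ := Set.mem_mul.mp h3
        exact ⟨k, hk, c, hc, h4⟩
      have hcomm1 : ∀ r ∈ K ⊔ ZZ, ∀ s ∈ K ⊔ ZZ, r * s * r⁻¹ * s⁻¹ ∈ K := by
        intro r hr s hs
        obtain ⟨k, hk, c, hc, rfl⟩ := hmem r hr
        obtain ⟨l, hl, d, hd, rfl⟩ := hmem s hs
        have e1 : c * d = d * c := ((hZZ d).mp hd).2 c ((hZZ c).mp hc).1
        rw [← mk_one_iff K]
        simp only [map_mul, map_inv, (mk_one_iff K k).mpr hk, (mk_one_iff K l).mpr hl, one_mul]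
        rw [← map_mul, e1, map_mul]
        group
      have hexp1 : ∀ r ∈ K ⊔ ZZ, ∃ i : ℕ, r ^ p ^ i ∈ K := by
        intro r hr
        obtain ⟨k, hk, c, hc, rfl⟩ := hmem r hr
        obtain ⟨i, hi⟩ := hCpow c (hZZC hc)
        refine ⟨i, ?_⟩
        rw [← mk_one_iff K, map_pow, map_mul, (mk_one_iff K k).mpr hk, one_mul, ← map_pow, hi,
          map_one]
      have hgooda : ∀ a ∈ ZZ, act K a ≠ 1 → ∀ k ∈ K, Van (a * k) := by
        intro a ha hact k hk
        refine van_of_act (p := p) K (K ⊔ ZZ) hcomm1 hexp1 hpK (Subgroup.mul_mem _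
          (Subgroup.mem_sup_right ha) (Subgroup.mem_sup_left hk)) ?_
        rw [map_mul, act_of_mem K hk, mul_one]
        exact hact
      have hQact : ∀ a ∈ Q, a ≠ 1 → act K a ≠ 1 := by
        intro a ha ha1 hact
        exact hw (fpf_lin (hfpf a (hQR ha) (hQK a ha ha1)) w (by rw [hact]; rfl))
      have hact1 : ∀ a ∈ ZZ, act K a = 1 → a = 1 := by
        intro b hb hbact
        by_contra hb1
        obtain ⟨j0, hj1, hj2⟩ := exists_order_p (p := p) hb1 (hCpow b (hZZC hb))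
        set a := b ^ j0 with ha0
        have ha : a ∈ ZZ := ZZ.pow_mem hb j0
        have haact : act K a = 1 := by rw [ha0, map_pow, hbact, one_pow]
        have haQ : a ∉ Q := fun h => hQact a h hj1 haact
        have hcax : Commute a x := (hCx a).mp (hZZC ha)
        have h3 : K ≤ Subgroup.centralizer {a} := by
          refine gen_le hpK hcax hj2 hxp haQ hx1 fun i j hij k hk hkc => ?_
          rw [Subgroup.mem_centralizer_singleton_iff]
          by_cases hxj : x ^ j = 1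
          · rw [hxj, mul_one] at hij hkc
            -- `a` is a power of `a ^ i`
            have hoa : orderOf a = p := orderOf_eq_prime hj2 hj1
            have h4 : a ∈ Subgroup.zpowers (a ^ i) := by
              have h5 : Subgroup.zpowers (a ^ i) = Subgroup.zpowers a := by
                apply Subgroup.eq_of_le_of_card_ge
                · rw [Subgroup.zpowers_le]; exact Subgroup.zpow_mem_zpowers a i
                · rw [Nat.card_zpowers, Nat.card_zpowers, hoa]
                  have h6 : (a ^ i) ^ p = 1 := by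
                    rw [← zpow_natCast, ← zpow_mul, mul_comm, zpow_mul, zpow_natCast, hj2, one_zpow]
                  rw [orderOf_eq_prime h6 hij]
              rw [h5]; exact Subgroup.mem_zpowers a
            obtain ⟨l, hl⟩ := Subgroup.mem_zpowers_iff.mp h4
            have h5 : Commute k (a ^ i) := hkc
            have h6 := h5.zpow_right l
            rw [hl] at h6
            exact h6
          · have h4 : a ^ i * x ^ j ∈ ZZ := ZZ.mul_mem (ZZ.zpow_mem ha i) (ZZ.zpow_mem hxZZ j)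
            have h5 : act K (a ^ i * x ^ j) ≠ 1 := by
              rw [map_mul, map_zpow, haact, one_zpow, one_mul]
              exact hQact _ (Subgroup.zpow_mem_zpowers x j) hxj
            have h6 := fpf hpK hel (fun h => hij (hCK _ (hZZC h4) h)) (hCpowK _ (hZZC h4))
              (fun k hk _ => hgooda _ h4 h5 k hk) k hk hkc
            rw [h6, one_mul, mul_one]
        -- now a normal `p`-subgroup
        let E : Subgroup G := C ⊓ Subgroup.centralizer (K : Set G)
        have hEn : E.Normal := by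
          refine ⟨fun e he g => ?_⟩
          obtain ⟨m, hm, k, hk, rfl⟩ := hfr g
          have h4 : k * e * k⁻¹ = e := by
            rw [mul_inv_eq_iff_eq_mul]
            exact Subgroup.mem_centralizer_iff.mp he.2 k hk
          have h5 : m * k * e * (m * k)⁻¹ = m * (k * e * k⁻¹) * m⁻¹ := by group
          rw [h5, h4]
          refine ⟨hNC m hm e he.1, ?_⟩
          exact (inferInstance : (Subgroup.centralizer (K : Set G)).Normal).conj_mem e he.2 m
        have hEp : IsPGroup p E := fun e => by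
          obtain ⟨i, hi⟩ := hCpow e e.2.1
          exact ⟨i, Subtype.ext hi⟩
        have h4 : E ≤ pCore p G := Solv.le_pCore hEn hEp
        rw [hO] at h4
        apply hj1
        refine Subgroup.mem_bot.mp (h4 ⟨hZZC ha, Subgroup.mem_centralizer_iff.mpr fun k hk => ?_⟩)
        exact Subgroup.mem_centralizer_singleton_iff.mp (h3 hk)
      obtain ⟨c, hc, hcQ⟩ := hA
      exact hcQ (fin ZZ hZZC hxZZ (fun a ha ha1 => hgooda a ha fun h => ha1 (hact1 a ha h)) hc)
    · -- the nonabelian case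
      push Not at hA
      refine hz0Q (fin Z₂ hZC (hQZ hxQ) (fun a ha ha1 k hk => ?_) hz0)
      by_cases haQ : a ∈ Q
      · exact hgoodQ a haQ ha1 k hk
      have haZ : a ∉ ZZ := fun h => haQ (hA a h)
      obtain ⟨z, hz, hza⟩ : ∃ z ∈ Z₂, z * a ≠ a * z := by
        by_contra hcon2
        push Not at hcon2
        exact haZ ((hZZ a).mpr ⟨ha, hcon2⟩)
      set s := z * a * z⁻¹ * a⁻¹ with hs'
      have hsQ : s ∈ Q := hz.2 a (hZC ha)
      have hs1 : s ≠ 1 := by
        intro h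
        rw [hs', mul_inv_eq_one, mul_inv_eq_iff_eq_mul] at h
        exact hza h
      have hzs : z * s = s * z := hCQc z (hZC hz) s hsQ
      -- a character of `G / K` nontrivial on `R / K`
      have hmkx : QuotientGroup.mk' K x ≠ 1 := fun h => hxK ((mk_one_iff K x).mp h)
      obtain ⟨χ₀, hχ₀⟩ : ∃ χ : IrrCharacter (G ⧸ K), (χ : G ⧸ K → ℂ) (QuotientGroup.mk' K x) ≠
          (χ : G ⧸ K → ℂ) 1 := by
        by_contra hcon2
        push Not at hcon2
        have h3 := isConj_of_irr_eq hcon2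
        exact hmkx (isConj_one_left.mp h3)
      haveI := Fintype.ofFinite G
      haveI := Fintype.ofFinite R
      have hχ : IsIrrCharacter G (fun g => (χ₀ : G ⧸ K → ℂ) (QuotientGroup.mk' K g)) :=
        isIrrCharacter_inflate K χ₀.2
      have hχcl := isClassFunction_of_isCharacter (isCharacter_of_isIrr hχ)
      set χ : G → ℂ := fun g => (χ₀ : G ⧸ K → ℂ) (QuotientGroup.mk' K g) with hχdef
      have hχK : ∀ k ∈ K, ∀ g, χ (k * g) = χ g := by
        intro k hk g
        simp only [hχdef]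
        rw [map_mul, (mk_one_iff K k).mpr hk, one_mul]
      have hχK' : ∀ k ∈ K, ∀ g, χ (g * k) = χ g := by
        intro k hk g
        simp only [hχdef]
        rw [map_mul, (mk_one_iff K k).mpr hk, mul_one]
      have havg : avgN R χ = 0 := by
        rcases avgN_irr R hχ with h3 | h3
        · exact h3
        · exfalso
          apply hχ₀
          have h4 := congrFun h3 x
          have h5 := congrFun h3 1
          have h6 := avgN_mul R χ (⟨x, hxR⟩ : R) 1
          rw [mul_one] at h6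
          have h7 : χ x = χ 1 := h4.symm.trans (h6.trans h5)
          simp only [hχdef, map_one] at h7
          exact h7
      have hsa : ∀ i : ℕ, χ (s ^ i * a) = χ a := by
        intro i
        induction i with
        | zero => rw [pow_zero, one_mul]
        | succ i ih =>
          have h3 : Commute z (s ^ i) := (show Commute z s from hzs).pow_right i
          have h4 : z * (s ^ i * a) * z⁻¹ = s ^ (i + 1) * a := by
            calc z * (s ^ i * a) * z⁻¹ = (z * s ^ i) * a * z⁻¹ := by group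
              _ = (s ^ i * z) * a * z⁻¹ := by rw [h3.eq]
              _ = s ^ i * (z * a * z⁻¹ * a⁻¹) * a := by group
              _ = s ^ (i + 1) * a := by rw [← hs', pow_succ]
          rw [← h4, ← ih]
          exact hχcl (s ^ i * a) z
      have hQs : Q = Subgroup.zpowers s := by
        symm
        apply Subgroup.eq_of_le_of_card_ge
        · rw [Subgroup.zpowers_le]; exact hsQ
        · rw [hQ, Nat.card_zpowers, Nat.card_zpowers, hox]
          obtain ⟨l, hl⟩ := Subgroup.mem_zpowers_iff.mp hsQ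
          have h6 : s ^ p = 1 := by
            rw [← hl, ← zpow_natCast, ← zpow_mul, mul_comm, zpow_mul, zpow_natCast, hxp, one_zpow]
          rw [orderOf_eq_prime h6 hs1]
      have hall : ∀ r : R, χ ((r : G) * a) = χ a := by
        intro r
        obtain ⟨k', hk', j, hj⟩ := hRx r r.2
        rw [hj, mul_assoc, hχK k' hk']
        have h3 : x ^ j ∈ Q := Q.pow_mem hxQ j
        rw [hQs] at h3
        obtain ⟨i, hi⟩ := mem_powers_iff_mem_zpowers.mpr h3
        have hi' : s ^ i = x ^ j := hi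
        rw [← hi']
        exact hsa i
      refine ⟨χ, hχ, ?_⟩
      rw [hχK' k hk]
      have h3 := congrFun havg a
      rw [avgN_apply, Finset.sum_congr rfl fun r _ => hall r, Finset.sum_const, Finset.card_univ,
        nsmul_eq_mul, ← Nat.card_eq_fintype_card, Pi.zero_apply,
        inv_mul_cancel_left₀ (Nat.cast_ne_zero.mpr Nat.card_pos.ne')] at h3
      exact h3
  -- the Sylow subgroup
  have hQp : IsPGroup p Q := by
    refine IsPGroup.of_card (n := 1) ?_
    rw [hQ, Nat.card_zpowers, hox, pow_one]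
  obtain ⟨P', hP'⟩ := hQp.exists_le_sylow
  have hPRQ := hPR P' P'.2 hP'
  have hP'C : (P' : Subgroup G) ≤ C := by
    intro g hg
    have h3 : g * x * g⁻¹ ∈ Q := by
      rw [← hPRQ]
      exact ⟨P'.mul_mem (P'.mul_mem hg (hP' hxQ)) (P'.inv_mem hg), hR.conj_mem x hxR g⟩
    obtain ⟨i, hi⟩ := mem_powers_iff_mem_zpowers.mpr h3
    have hi' : x ^ i = g * x * g⁻¹ := hi
    have h4 : ∀ n : ℕ, g ^ n * x * (g ^ n)⁻¹ = x ^ (i ^ n) := by
      intro n
      induction n with
      | zero => simp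
      | succ n ih =>
        calc g ^ (n + 1) * x * (g ^ (n + 1))⁻¹ = g * (g ^ n * x * (g ^ n)⁻¹) * g⁻¹ := by
              rw [pow_succ']; group
          _ = g * x ^ (i ^ n) * g⁻¹ := by rw [ih]
          _ = (g * x * g⁻¹) ^ (i ^ n) := by rw [conj_pow]
          _ = x ^ (i ^ (n + 1)) := by rw [← hi', ← pow_mul, pow_succ']
    obtain ⟨j, hj⟩ := P'.2 ⟨g, hg⟩
    have hj' : g ^ p ^ j = 1 := congrArg Subtype.val hj
    have h5 := h4 (p ^ j)
    rw [hj', one_mul, inv_one, mul_one] at h5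
    have h6 : i ^ p ^ j ≡ i [MOD p] := by
      have : ((i ^ p ^ j : ℕ) : ZMod p) = (i : ZMod p) := by
        push_cast
        exact ZMod.pow_card_pow _
      exact (ZMod.natCast_eq_natCast_iff _ _ _).mp this
    have h7 : x ^ (i ^ p ^ j) = x ^ i := by
      rw [pow_eq_pow_iff_modEq, hox]; exact h6
    rw [h7, hi'] at h5
    rw [hCx]
    exact (eq_mul_inv_iff_mul_eq.mp h5).symm
  intro P
  have h3 : Nat.card P = Nat.card P' := Nat.card_congr (Sylow.equiv P P').toEquiv
  rw [h3]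
  have h4 : Nat.card P' ∣ Nat.card Q := Subgroup.card_dvd_of_le (hP'C.trans hCQ)
  rwa [hQ, Nat.card_zpowers, hox] at h4

end Cfsg.Agent.H75.VA
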