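import Cfsg.Agent.H75.VAd
import Cfsg.Agent.H62.Subnormal

/-!
# Vanishing `p`-singular elements of one order (owner: helper75)
-/

set_option autoImplicit false
set_option linter.style.haveILetI false
set_option linter.unusedSectionVars false

namespace Cfsg.Agent.H75.VA

open scoped ComplexConjugate BigOperators
open Cfsg Cfsg.Agent.CharBase Cfsg.Agent.Char

universe u

variable {p : ℕ} [hp : Fact p.Prime] {G : Type u} [Group G] [Finite G]

theorem card_sylow_quotient (hs : Group.IsSolvable G) (b : ℕ)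
    (hvo : ∀ g : G, Van g → p ∣ orderOf g → orderOf g = b) :
    ∀ P : Sylow p (G ⧸ pCore p G), Nat.card P ∣ p := by
  classical
  have hO : pCore p (G ⧸ pCore p G) = ⊥ := Solv.pCore_quotient_pCore p
  have hsq : Group.IsSolvable (G ⧸ pCore p G) := inferInstance
  by_cases hpG : p ∣ Nat.card (G ⧸ pCore p G)
  swap
  · intro P
    obtain ⟨i, hi⟩ := IsPGroup.iff_card.mp P.2
    rcases Nat.eq_zero_or_pos i with h0 | h0
    · rw [hi, h0, pow_zero]; exact one_dvd _
    · exfalso
      apply hpG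
      exact (dvd_pow_self p h0.ne').trans (hi ▸ Subgroup.card_subgroup_dvd_card
        (P : Subgroup (G ⧸ pCore p G)))
  obtain ⟨K, R, hK, hR, hKR, hpK, hne, hexp, hcomm, hvan⟩ := T1 _ (G ⧸ pCore p G) rfl hsq hO hpG
  -- `b` is a power of `p`
  obtain ⟨k, hk⟩ : ∃ k : ℕ, b = p ^ k := by
    obtain ⟨r, hr, hrK⟩ : ∃ r ∈ R, r ∉ K := by
      by_contra hcon
      push Not at hcon
      exact hne (le_antisymm hcon hKR)
    obtain ⟨g, rfl⟩ := QuotientGroup.mk'_surjective (pCore p G) r
    obtain ⟨i, m, hm, hcm⟩ := Nat.exists_eq_pow_mul_and_not_dvd (orderOf_pos g).ne' p hp.out.ne_one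
    have hm0 : m ≠ 0 := by
      rintro rfl
      exact hm (dvd_zero p)
    have hy : orderOf (g ^ m) = p ^ i := by
      rw [orderOf_pow_of_dvd hm0 ⟨p ^ i, by rw [hcm, mul_comm]⟩, hcm, Nat.mul_div_cancel _
        (Nat.pos_of_ne_zero hm0)]
    have hyK : QuotientGroup.mk' (pCore p G) (g ^ m) ∉ K := by
      intro h
      rw [map_pow] at h
      apply hrK
      rw [← mk_one_iff K]
      refine eq_one_of_pow (a := p) (b := m) ((Nat.Prime.coprime_iff_not_dvd hp.out).mpr hm) ?_ ?_
      · rw [← map_pow, mk_one_iff]; exact hexp _ hr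
      · rw [← map_pow, mk_one_iff]; exact h
    have hyR : QuotientGroup.mk' (pCore p G) (g ^ m) ∈ R := by
      rw [map_pow]; exact R.pow_mem hr m
    have h1 : Van (g ^ m) := Van.of_quotient (hvan _ hyR hyK)
    have h2 : p ∣ orderOf (g ^ m) := (sing_gen (K := K) hyK ⟨1, by
      rw [pow_one]; exact hexp _ hyR⟩).trans (orderOf_map_dvd _ _)
    exact ⟨i, by rw [← hvo _ h1 h2, hy]⟩
  refine MT hsq hO ?_ ?_
  · intro r hr hpr
    obtain ⟨g, rfl⟩ := QuotientGroup.mk'_surjective (pCore p G) r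
    have h1 := hvo g (Van.of_quotient hr) (hpr.trans (orderOf_map_dvd _ _))
    have h2 : orderOf (QuotientGroup.mk' (pCore p G) g) ∣ p ^ k := by
      rw [← hk, ← h1]
      exact orderOf_map_dvd _ _
    obtain ⟨j, -, hj⟩ := (Nat.dvd_prime_pow hp.out).mp h2
    exact ⟨j, hj⟩
  · intro r hr hpr hr2 hpr2
    obtain ⟨g, rfl⟩ := QuotientGroup.mk'_surjective (pCore p G) r
    rw [← map_pow] at hr2 hpr2
    have h1 := hvo g (Van.of_quotient hr) (hpr.trans (orderOf_map_dvd _ _))
    have h2 := hvo (g ^ p) (Van.of_quotient hr2) (hpr2.trans (orderOf_map_dvd _ _))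
    have hpb : p ∣ b := h1 ▸ (hpr.trans (orderOf_map_dvd _ _))
    rw [orderOf_pow_of_dvd hp.out.ne_zero (h1 ▸ hpb), h1] at h2
    have hb0 : 0 < b := h1 ▸ orderOf_pos g
    exact absurd h2 (Nat.div_lt_self hb0 hp.out.one_lt).ne

theorem card_map (hs : Group.IsSolvable G) (b : ℕ)
    (hvo : ∀ g : G, Van g → p ∣ orderOf g → orderOf g = b) (P : Sylow p G) :
    Nat.card ((P : Subgroup G).map (QuotientGroup.mk' (pCore p G))) ∣ p := by
  have h1 : IsPGroup p ((P : Subgroup G).map (QuotientGroup.mk' (pCore p G))) := P.2.map _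
  obtain ⟨P', hP'⟩ := h1.exists_le_sylow
  exact (Subgroup.card_dvd_of_le hP').trans (card_sylow_quotient hs b hvo P')

theorem cyclic_sub (hs : Group.IsSolvable G) (b : ℕ)
    (hvo : ∀ g : G, Van g → p ∣ orderOf g → orderOf g = b) (P : Sylow p G) :
    ((commutator ↥(P : Subgroup G)).map (P : Subgroup G).subtype).IsSubnormal ∧
      IsCyclic ↥((P : Subgroup G).map (QuotientGroup.mk' (pCore p G))) := by
  have hcyc : IsCyclic ↥((P : Subgroup G).map (QuotientGroup.mk' (pCore p G))) :=
    isCyclic_of_card_dvd_prime (card_map hs b hvo P)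
  refine ⟨?_, hcyc⟩
  have hnil : Group.IsNilpotent (pCore p G) := (Solv.pCore_isPGroup p).isNilpotent
  refine H62.isSubnormal_of_le_nilpotent (N := pCore p G) ?_
    (Subgroup.Normal.isSubnormal (Solv.pCore_normal p)) hnil
  rw [Subgroup.map_le_iff_le_comap, commutator_eq_closure, Subgroup.closure_le]
  rintro _ ⟨a, c, rfl⟩
  rw [SetLike.mem_coe, Subgroup.mem_comap, ← mk_one_iff (pCore p G)]
  have h1 : QuotientGroup.mk' (pCore p G) (a : G) * QuotientGroup.mk' (pCore p G) (c : G) =
      QuotientGroup.mk' (pCore p G) (c : G) * QuotientGroup.mk' (pCore p G) (a : G) := by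
    letI := hcyc.commGroup
    have h2 := mul_comm
      (⟨_, Subgroup.mem_map_of_mem _ a.2⟩ : ((P : Subgroup G).map (QuotientGroup.mk' (pCore p G))))
      ⟨_, Subgroup.mem_map_of_mem _ c.2⟩
    exact congrArg Subtype.val h2
  show QuotientGroup.mk' (pCore p G) ((a : G) * c * (a : G)⁻¹ * (c : G)⁻¹) = 1
  rw [map_mul, map_mul, map_mul, map_inv, map_inv, h1]
  group

theorem card_le (hs : Group.IsSolvable G) (b : ℕ)
    (hvo : ∀ g : G, Van g → p ∣ orderOf g → orderOf g = b) (P : Sylow p G) :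
    Nat.card P ≤ p * Nat.card (pCore p G) := by
  let f : P →* G ⧸ pCore p G := (QuotientGroup.mk' (pCore p G)).comp (P : Subgroup G).subtype
  have h1 : Nat.card f.ker * f.ker.index = Nat.card P := Subgroup.card_mul_index f.ker
  have h2 : f.ker.index ∣ p := by
    rw [Subgroup.index_ker]
    have h3 : f.range = (P : Subgroup G).map (QuotientGroup.mk' (pCore p G)) := by
      rw [MonoidHom.range_comp, Subgroup.range_subtype]
    rw [h3]
    exact card_map hs b hvo P
  have h3 : Nat.card f.ker ≤ Nat.card (pCore p G) := by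
    refine Nat.card_le_card_of_injective
      (fun x : f.ker => (⟨((x : P) : G), (mk_one_iff (pCore p G) _).mp x.2⟩ : pCore p G)) ?_
    intro x y hxy
    exact Subtype.ext (Subtype.ext (congrArg (fun z : pCore p G => (z : G)) hxy))
  rw [← h1, mul_comm]
  exact Nat.mul_le_mul (Nat.le_of_dvd hp.out.pos h2) h3

end Cfsg.Agent.H75.VA
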